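import Mathlib
import Cfsg.Agent.H39.SzClass

/-!
Traces of elements of the Suzuki groups.
-/

set_option autoImplicit false

namespace Cfsg.Agent.H94

open Matrix Cfsg.Agent.H39

lemma cayley_four {F : Type*} [CommRing F] (M : Matrix (Fin 4) (Fin 4) F) :
    M ^ 4 - M.trace • M ^ 3 + (M 0 0 * M 1 1 - M 1 0 * M 0 1 + (M 0 0 * M 2 2 - M 2 0 * M 0 2) +
      (M 1 1 * M 3 3 - M 3 1 * M 1 3) + (M 2 2 * M 3 3 - M 3 2 * M 2 3) +
      (M 0 0 * M 3 3 - M 3 0 * M 0 3) + (M 1 1 * M 2 2 - M 2 1 * M 1 2)) • M ^ 2 -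
      M.adjugate.trace • M + M.det • (1 : Matrix (Fin 4) (Fin 4) F) = 0 := by
  have ht : M.adjugate.trace = M 1 1 * M 2 2 * M 3 3 - M 1 1 * M 2 3 * M 3 2 - M 1 2 * M 2 1 * M 3 3
      + M 1 2 * M 2 3 * M 3 1 + M 1 3 * M 2 1 * M 3 2 - M 1 3 * M 2 2 * M 3 1 +
      (M 0 0 * M 2 2 * M 3 3 - M 0 0 * M 2 3 * M 3 2 - M 0 2 * M 2 0 * M 3 3
      + M 0 2 * M 2 3 * M 3 0 + M 0 3 * M 2 0 * M 3 2 - M 0 3 * M 2 2 * M 3 0) +
      (M 0 0 * M 1 1 * M 3 3 - M 0 0 * M 1 3 * M 3 1 - M 0 1 * M 1 0 * M 3 3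
      + M 0 1 * M 1 3 * M 3 0 + M 0 3 * M 1 0 * M 3 1 - M 0 3 * M 1 1 * M 3 0) +
      (M 0 0 * M 1 1 * M 2 2 - M 0 0 * M 1 2 * M 2 1 - M 0 1 * M 1 0 * M 2 2
      + M 0 1 * M 1 2 * M 2 0 + M 0 2 * M 1 0 * M 2 1 - M 0 2 * M 1 1 * M 2 0) := by
    simp [Matrix.trace, Fin.sum_univ_four, adjugate_fin_succ_eq_det_submatrix, det_fin_three,
      Fin.succAbove]
    ring
  have hd : M.det = M 0 0 * (M 1 1 * M 2 2 * M 3 3 - M 1 1 * M 2 3 * M 3 2 - M 1 2 * M 2 1 * M 3 3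
      + M 1 2 * M 2 3 * M 3 1 + M 1 3 * M 2 1 * M 3 2 - M 1 3 * M 2 2 * M 3 1) -
      M 0 1 * (M 1 0 * M 2 2 * M 3 3 - M 1 0 * M 2 3 * M 3 2 - M 1 2 * M 2 0 * M 3 3
      + M 1 2 * M 2 3 * M 3 0 + M 1 3 * M 2 0 * M 3 2 - M 1 3 * M 2 2 * M 3 0) +
      M 0 2 * (M 1 0 * M 2 1 * M 3 3 - M 1 0 * M 2 3 * M 3 1 - M 1 1 * M 2 0 * M 3 3
      + M 1 1 * M 2 3 * M 3 0 + M 1 3 * M 2 0 * M 3 1 - M 1 3 * M 2 1 * M 3 0) -
      M 0 3 * (M 1 0 * M 2 1 * M 3 2 - M 1 0 * M 2 2 * M 3 1 - M 1 1 * M 2 0 * M 3 2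
      + M 1 1 * M 2 2 * M 3 0 + M 1 2 * M 2 0 * M 3 1 - M 1 2 * M 2 1 * M 3 0) := by
    rw [det_succ_row_zero]
    simp [Fin.sum_univ_four, det_fin_three, Fin.succAbove]
    ring
  rw [ht, hd]
  ext i j
  fin_cases i <;> fin_cases j <;>
    simp [Matrix.trace, Fin.sum_univ_four, pow_succ, Matrix.mul_apply] <;> ring

variable {G : Type*} [Group G] {F : Type*} [Field F] (S : Model G F)

/-- The trace of an element of a Suzuki group. -/
def szTr (g : G) : F := (S.mat g).trace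

lemma szTr_one : szTr S 1 = 0 := by
  have := S.charP
  simp only [szTr, map_one, trace_one, Fintype.card_fin]
  grind

lemma szTr_mul_comm (g h : G) : szTr S (g * h) = szTr S (h * g) := by
  simp only [szTr, map_mul, trace_mul_comm (S.mat g)]

lemma szTr_conj (g x : G) : szTr S (x * g * x⁻¹) = szTr S g := by
  rw [szTr_mul_comm, ← mul_assoc, inv_mul_cancel, one_mul]

lemma mat_inv_eq (g : G) : S.mat g⁻¹ = H39.J F * (S.mat g)ᵀ * H39.J F := by
  have h1 : H39.J F * (S.mat g)ᵀ * H39.J F * S.mat g = 1 := by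
    rw [mul_assoc, mul_assoc, ← mul_assoc (S.mat g)ᵀ, (S.isSz g).1, J_mul_J]
  calc S.mat g⁻¹ = H39.J F * (S.mat g)ᵀ * H39.J F * S.mat g * S.mat g⁻¹ := by rw [h1, one_mul]
    _ = _ := by rw [mul_assoc, ← map_mul, mul_inv_cancel, map_one, mul_one]

lemma szTr_inv (g : G) : szTr S g⁻¹ = szTr S g := by
  rw [szTr, mat_inv_eq, trace_mul_comm, ← mul_assoc, J_mul_J, one_mul, trace_transpose, szTr]

lemma szTr_sq (g : G) : szTr S (g * g) = szTr S g ^ 2 := by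
  have := S.charP
  simp only [szTr, map_mul, Matrix.trace, Fin.sum_univ_four, diag_apply, Matrix.mul_apply]
  grind

lemma adjugate_mat (g : G) : (S.mat g).adjugate = S.mat g⁻¹ := by
  calc (S.mat g).adjugate = (S.mat g).adjugate * S.mat g * S.mat g⁻¹ := by
        rw [mul_assoc, ← map_mul, mul_inv_cancel, map_one, mul_one]
    _ = _ := by rw [adjugate_mul, S.det_mat, one_smul, one_mul]

lemma cayley_sz (g : G) : S.mat g ^ 4 = szTr S g • S.mat g ^ 3 + S.θ (szTr S g) • S.mat g ^ 2 +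
    szTr S g • S.mat g + 1 := by
  have := S.charP
  have h := cayley_four (S.mat g)
  rw [adjugate_mat, S.det_mat, one_smul] at h
  change _ - szTr S g • _ + _ - szTr S g⁻¹ • _ + _ = _ at h
  rw [szTr_inv] at h
  have e : S.mat g 0 0 * S.mat g 1 1 - S.mat g 1 0 * S.mat g 0 1 +
      (S.mat g 0 0 * S.mat g 2 2 - S.mat g 2 0 * S.mat g 0 2) +
      (S.mat g 1 1 * S.mat g 3 3 - S.mat g 3 1 * S.mat g 1 3) +
      (S.mat g 2 2 * S.mat g 3 3 - S.mat g 3 2 * S.mat g 2 3) +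
      (S.mat g 0 0 * S.mat g 3 3 - S.mat g 3 0 * S.mat g 0 3) +
      (S.mat g 1 1 * S.mat g 2 2 - S.mat g 2 1 * S.mat g 1 2) = S.θ (szTr S g) := by
    have h1 := (S.isSz g).1
    have h2 := symp_transpose h1
    have h3 := (S.isSz g).2
    have a0 := congrFun (congrFun h3 0) 0
    have a1 := congrFun (congrFun h3 1) 1
    have a2 := congrFun (congrFun h3 2) 2
    have a3 := congrFun (congrFun h3 3) 3
    have b1 := congrFun (congrFun h1 1) 2
    have b2 := congrFun (congrFun h2 0) 3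
    rw [symp_apply] at b1
    rw [symp_apply'] at b2
    simp only [star4_apply, Lie.pairOf, Matrix.map_apply] at a0 a1 a2 a3
    simp [Cfsg.suzukiForm] at b1 b2 a0 a1 a2 a3
    simp only [szTr, Matrix.trace, Fin.sum_univ_four, diag_apply, map_add]
    grind
  rw [e] at h
  have h2 : ∀ M : Matrix (Fin 4) (Fin 4) F, M + M = 0 := fun M => by
    rw [← two_smul F, S.two_eq_zero, zero_smul]
  rw [← sub_eq_zero, ← h, ← sub_eq_zero, ← neg_eq_zero,
    ← h2 (S.θ (szTr S g) • S.mat g ^ 2 + 1)]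
  abel

lemma pow_four_of_szTr {g : G} (h : szTr S g = 0) : g ^ 4 = 1 := by
  apply S.inj
  rw [map_pow, cayley_sz, h]
  simp

lemma szTr_rec (g x : G) (n : ℕ) : szTr S (g ^ (n + 4) * x) = szTr S g * szTr S (g ^ (n + 3) * x) +
    S.θ (szTr S g) * szTr S (g ^ (n + 2) * x) + szTr S g * szTr S (g ^ (n + 1) * x) +
    szTr S (g ^ n * x) := by
  have h := cayley_sz S g
  set τ := szTr S g
  simp only [szTr, map_mul, map_pow, pow_add, h, mul_add, add_mul, mul_smul_comm, smul_mul_assoc,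
    trace_add, trace_smul, smul_eq_mul, mul_one, pow_one]

lemma szTr_pow_eq {g y : G} (h : szTr S y = szTr S g) (n : ℕ) :
    szTr S (y ^ n * y⁻¹) = szTr S (g ^ n * g⁻¹) := by
  induction n using Nat.strong_induction_on with
  | _ n ih =>
    match n, ih with
    | 0, _ => simp [szTr_inv, h]
    | 1, _ => simp
    | 2, _ => simp [sq, h]
    | 3, _ => simp only [pow_succ, pow_zero, one_mul, mul_inv_cancel_right, szTr_sq, h]
    | n + 4, ih =>
      rw [szTr_rec, szTr_rec, h, ih _ (by omega), ih _ (by omega), ih _ (by omega),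
        ih _ (by omega)]

lemma szTr_u (a b : F) : szTr S (S.u a b) = 0 := by
  have := S.charP
  simp [szTr, S.mat_u, Tits.uM, Matrix.trace, Fin.sum_univ_four]
  grind

variable [SzField F]

lemma szTr_of_even {g : G} (h : Even (orderOf g)) : szTr S g = 0 := by
  obtain ⟨x, hx⟩ := S.exists_twist_mem_U_of_even h
  obtain ⟨a, b, e⟩ := S.mem_U.1 (S.mem_twist_U.1 hx)
  rw [← szTr_u S a b, ← e, ← szTr_conj S g x⁻¹, inv_inv]

lemma szTr_ne_zero {g : G} (h1 : g ≠ 1) (h : Odd (orderOf g)) : szTr S g ≠ 0 := fun h0 => by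
  have h4 := orderOf_dvd_of_pow_eq_one (pow_four_of_szTr S h0)
  have : Nat.Coprime (orderOf g) (2 ^ 2) := Nat.Coprime.pow_right _ h.coprime_two_right
  exact h1 (orderOf_eq_one_iff.1 (Nat.Coprime.eq_one_of_dvd this h4))

/-- Elements with the same nonzero trace have the same order. -/
lemma pow_eq_one_of_szTr {g y : G} (h : szTr S y = szTr S g) (h0 : szTr S g ≠ 0) {n : ℕ}
    (hn : g ^ n = 1) : y ^ n = 1 := by
  have h1 := szTr_pow_eq S h (n + 1)
  rw [pow_succ, pow_succ, mul_inv_cancel_right, mul_inv_cancel_right, hn, szTr_one] at h1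
  by_contra hy
  refine szTr_ne_zero S hy ?_ h1
  have ho : Odd (orderOf y) := Nat.not_even_iff_odd.1 fun he => h0 (h ▸ szTr_of_even S he)
  exact ho.of_dvd_nat (orderOf_pow_dvd n)

end Cfsg.Agent.H94
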