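import Mathlib
import Cfsg.Agent.H94.SzTrace
import Cfsg.Agent.H39.SzSol
import Cfsg.Agent.H29.BinaryAbs

/-!
Binary coset actions of the Suzuki groups.
-/

set_option autoImplicit false

namespace Cfsg.Agent.H94

open Cfsg.Agent.H39 Cfsg.Agent.H29 MulAction
open scoped Pointwise

section abs

variable {G : Type*} [Group G] {H : Subgroup G}

lemma bin_four (h : IsBinary G (G ⧸ H)) (x0 x1 x2 x3 s t : G) (a0 : x0⁻¹ * s * x0 ∈ H)
    (a1 : x1⁻¹ * s * x1 ∈ H) (a2 : x2⁻¹ * t * x2 ∈ H) (a3 : x3⁻¹ * (s⁻¹ * t) * x3 ∈ H) :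
    ∃ f, x0⁻¹ * f * x0 ∈ H ∧ x1⁻¹ * f * x1 ∈ H ∧ x2⁻¹ * f * x2 ∈ H ∧
      x3⁻¹ * (s⁻¹ * f) * x3 ∈ H := by
  obtain ⟨f, b0, b1, b2, b3⟩ := h.four (a := (x0 : G ⧸ H)) (b := x1) (c := x2) (d := x3)
    (s := s) (t := t) ((smul_coe_eq_iff _ _ _).2 a0) ((smul_coe_eq_iff _ _ _).2 a1)
    ((smul_coe_eq_iff _ _ _).2 a2) ((smul_coe_eq_smul_iff _ _ _).2 a3).symm
  exact ⟨f, (smul_coe_eq_iff _ _ _).1 b0, (smul_coe_eq_iff _ _ _).1 b1,
    (smul_coe_eq_iff _ _ _).1 b2, (smul_coe_eq_smul_iff _ _ _).1 b3⟩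

lemma bin_inv [Finite G] (h : IsBinary G (G ⧸ H))
    (hconj : ∀ s t : G, s ≠ 1 → t ≠ 1 → s * s = 1 → t * t = 1 → IsConj s t) {s t : G}
    (hs : s ∈ H) (hs1 : s ≠ 1) (hs2 : s * s = 1) (ht2 : t * t = 1) (hst : s * t = t * s) :
    t ∈ H := by
  by_cases ht1 : t = 1
  · rw [ht1]; exact one_mem _
  have e := h.fixedBy_eq hconj hs1 ht1 hs2 ht2 hst
  have h1 : ((1 : G) : G ⧸ H) ∈ fixedBy (G ⧸ H) s := by
    rw [mem_fixedBy, smul_coe_eq_iff]; simpa using hs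
  rw [e, mem_fixedBy, smul_coe_eq_iff] at h1
  simpa using h1

lemma isBinary_of (h : ∀ x1 x2 x3 s t : G, s ≠ 1 → t ≠ 1 → x1⁻¹ * s * x1 ∈ H →
      x2⁻¹ * t * x2 ∈ H → x3⁻¹ * (s⁻¹ * t) * x3 ∈ H →
      ∀ g, x1⁻¹ * g * x1 ∈ H → x2⁻¹ * g * x2 ∈ H) : IsBinary G (G ⧸ H) := by
  refine isBinary_of_no_triangle fun a b c s t hs ht ha hb hc g hg => ?_
  obtain ⟨a, rfl⟩ := QuotientGroup.mk_surjective a
  obtain ⟨b, rfl⟩ := QuotientGroup.mk_surjective b
  obtain ⟨c, rfl⟩ := QuotientGroup.mk_surjective c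
  rw [eq_comm, smul_coe_eq_smul_iff] at hc
  rw [smul_coe_eq_iff] at ha hb hg ⊢
  exact h _ _ _ _ _ hs ht ha hb hc _ hg

lemma isBinary_bot : IsBinary G (G ⧸ (⊥ : Subgroup G)) :=
  isBinary_of fun x1 _ _ _ _ hs _ a1 _ _ _ _ => absurd (Subgroup.mem_bot.1 a1) (conj_ne_one hs x1)

/-- The triangle test for a subgroup of a TI subgroup on which centralisers are constant. -/
lemma bin_triangle (h : IsBinary G (G ⧸ H)) {T : Subgroup G} (hHT : H ≤ T)
    (hT : ∀ x ∈ T, x ≠ 1 → Subgroup.centralizer {x} = T) {s t x1 x2 x3 : G}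
    (a1 : x1⁻¹ * s * x1 ∈ H) (a2 : x2⁻¹ * t * x2 ∈ H) (a3 : x3⁻¹ * (s⁻¹ * t) * x3 ∈ H) :
    s * t = t * s := by
  have hc : ∀ a ∈ T, ∀ b ∈ T, a * b = b * a := fun a ha b hb => by
    by_cases h1 : a = 1
    · simp [h1]
    · rw [← hT a ha h1, Subgroup.mem_centralizer_singleton_iff] at hb
      exact hb.symm
  have hc' : ∀ x a b : G, x⁻¹ * a * x ∈ T → x⁻¹ * b * x ∈ T → a * b = b * a := fun x a b ha hb => by
    calc a * b = x * (x⁻¹ * a * x * (x⁻¹ * b * x)) * x⁻¹ := by group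
      _ = _ := by rw [hc _ ha _ hb]; group
  obtain ⟨f, -, f1, f2, f3⟩ := bin_four h x1 x1 x2 x3 s t a1 a1 a2 a3
  by_cases hf : f = 1
  · subst hf
    have e := hc' _ _ _ (hHT f3) (hHT a3)
    calc s * t = s * s * (s⁻¹ * t * (s⁻¹ * 1)) * s := by group
      _ = _ := by rw [← e]; group
  · have e := hc' _ _ _ (hHT a1) (hHT f1)
    refine hc' x2 _ _ ?_ (hHT a2)
    rw [← hT _ (hHT f2) (conj_ne_one hf x2), Subgroup.mem_centralizer_singleton_iff]
    calc _ = x2⁻¹ * (s * f) * x2 := by group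
      _ = _ := by rw [e]; group

/-- In a group with cyclic Sylow `p`-subgroups all subgroups of order `p` are conjugate. -/
lemma exists_conj_mem_zpowers [Finite G] {p : ℕ} [hp : Fact p.Prime]
    (hc : ∀ P : Sylow p G, IsCyclic P) {x y : G} (hx : orderOf x = p) (hy : y ^ p = 1) :
    ∃ c : G, c⁻¹ * y * c ∈ Subgroup.zpowers x := by
  have hP : ∀ z : G, z ^ p = 1 → IsPGroup p (Subgroup.zpowers z) := fun z hz => by
    rintro ⟨_, k, rfl⟩
    exact ⟨1, Subtype.ext (by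
      change (z ^ k) ^ p ^ 1 = 1
      rw [pow_one, ← zpow_natCast, ← zpow_mul, mul_comm, zpow_mul, zpow_natCast, hz, one_zpow])⟩
  obtain ⟨P, hP1⟩ := (hP x (hx ▸ pow_orderOf_eq_one x)).exists_le_sylow
  obtain ⟨Q, hQ⟩ := (hP y hy).exists_le_sylow
  obtain ⟨c, rfl⟩ := MulAction.exists_smul_eq G P Q
  refine ⟨c, ?_⟩
  have h1 : c⁻¹ * y * c ∈ (P : Subgroup G) := by
    have := hQ (Subgroup.mem_zpowers y)
    rw [Sylow.coe_subgroup_smul, mem_conj_smul_iff] at this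
    exact this
  have h2 : x ∈ (P : Subgroup G) := hP1 (Subgroup.mem_zpowers x)
  have := hc P
  have h3 : (⟨c⁻¹ * y * c, h1⟩ : P) ∈ Subgroup.zpowers (⟨x, h2⟩ : P) := by
    classical
    have := Fintype.ofFinite P
    have hle := IsCyclic.card_pow_eq_one_le (α := P) hp.out.pos
    have hsub : (Subgroup.zpowers (⟨x, h2⟩ : P) : Set P).toFinset ⊆
        Finset.univ.filter fun a : P => a ^ p = 1 := by
      intro a ha
      rw [Set.mem_toFinset] at ha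
      obtain ⟨k, rfl⟩ := ha
      simp only [Finset.mem_filter, Finset.mem_univ, true_and]
      rw [← zpow_natCast, ← zpow_mul, mul_comm, zpow_mul, zpow_natCast]
      have : (⟨x, h2⟩ : P) ^ p = 1 := Subtype.ext (by simpa [hx] using pow_orderOf_eq_one x)
      rw [this, one_zpow]
    have heq := Finset.eq_of_subset_of_card_le hsub (by
      rw [Set.toFinset_card, ← Nat.card_eq_fintype_card, SetLike.coe_sort_coe, Nat.card_zpowers,
        Subgroup.orderOf_mk, hx]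
      exact hle)
    have : (⟨c⁻¹ * y * c, h1⟩ : P) ∈ Finset.univ.filter fun a : P => a ^ p = 1 := by
      simp only [Finset.mem_filter, Finset.mem_univ, true_and]
      refine Subtype.ext ?_
      have := conj_pow (a := c⁻¹) (b := y) (i := p)
      rw [inv_inv, hy] at this
      simpa using this
    rw [← heq, Set.mem_toFinset] at this
    exact this
  obtain ⟨k, hk⟩ := h3
  exact ⟨k, by simpa using congrArg Subtype.val hk⟩

end abs

variable {G : Type*} [Group G] {F : Type*} [Field F] (S : Model G F)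

lemma szTr_tri1 (b c x y : F) :
    szTr S (S.u 0 b * (S.u x y * (S.w * S.u 0 c * S.w) * (S.u x y)⁻¹)) = S.θ (b * c) := by
  have := S.charP
  rw [S.u_inv]
  simp [szTr, S.mat_u, S.mat_w, Tits.uM, Tits.f, Matrix.trace, Fin.sum_univ_four, Cfsg.suzukiForm,
    S.θθ]
  grind

lemma szTr_tri2 (c x y : F) :
    szTr S (S.w * S.u 0 c * S.w * (S.u x y * (S.w * S.u 0 c * S.w) * (S.u x y)⁻¹)) =
      (S.θ c * S.f x y) ^ 2 := by
  have := S.charP
  rw [S.u_inv]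
  simp [szTr, S.mat_u, S.mat_w, Tits.uM, Tits.f, Matrix.trace, Fin.sum_univ_four, Cfsg.suzukiForm,
    S.θθ]
  grind

lemma szTr_tri3 (b c y : F) :
    szTr S (S.w * S.u 0 c * S.w * S.u 0 b * (S.u 0 y * (S.w * S.u 0 c * S.w) * (S.u 0 y)⁻¹)) =
      (S.θ (c * y)) ^ 2 + S.θ (b * c * (c * y)) := by
  have := S.charP
  rw [S.u_inv]
  simp [szTr, S.mat_u, S.mat_w, Tits.uM, Tits.f, Matrix.trace, Fin.sum_univ_four, Cfsg.suzukiForm]
  grind

lemma sz_tri4 (x y : F) (hf : S.f x y = 1)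
    (h : S.w * S.u 0 1 * S.w * S.u 0 1 * (S.u x y * (S.w * S.u 0 1 * S.w) * (S.u x y)⁻¹) =
      (S.u x y * (S.w * S.u 0 1 * S.w) * (S.u x y)⁻¹) * S.u 0 1 * (S.w * S.u 0 1 * S.w)) :
    x = 0 ∨ x = 1 := by
  have := S.charP
  have h1 := congrArg S.mat h
  rw [S.u_inv] at h1
  have hf' := S.θ_f x y
  rw [hf, map_one] at hf'
  simp [S.mat_u, S.mat_w, Tits.uM, Tits.f, Cfsg.suzukiForm, S.θθ] at h1
  unfold Tits.f at hf
  grind

lemma w_mul_u_pow_four : (S.w * S.u 1 0) ^ 4 = 1 := by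
  refine pow_four_of_szTr S ?_
  have := S.charP
  simp [szTr, S.mat_u, S.mat_w, Tits.uM, Tits.f, Matrix.trace, Fin.sum_univ_four, Cfsg.suzukiForm]
  grind

lemma invol_tri {z1 z2 z3 : G} (h2 : z2 * z2 = 1) :
    (z1 * z2)⁻¹ * (z1 * z3) = z2 * z3 := by
  rw [mul_inv_rev, mul_assoc, inv_mul_cancel_left, inv_eq_of_mul_eq_one_right h2]

variable [SzField F]

lemma exists_triangle {τ : F} (h0 : τ ≠ 0) : ∃ s t : G, szTr S s = τ ∧ szTr S t = τ ∧
    szTr S (s⁻¹ * t) = τ ∧ s * t ≠ t * s := by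
  have := SzField.finite F
  have := S.charP
  have hz : S.w * S.u 0 1 * S.w * (S.w * S.u 0 1 * S.w) = 1 := by
    calc _ = S.w * S.u 0 1 * (S.w * S.w) * S.u 0 1 * S.w := by group
      _ = 1 := by rw [S.w_mul_w, mul_one, mul_assoc S.w, S.u_zero_sq, mul_one, S.w_mul_w]
  have key : ∀ b x y : F, S.θ b = τ → S.f x y ^ 2 = τ →
      S.w * S.u 0 1 * S.w * S.u 0 b * (S.u x y * (S.w * S.u 0 1 * S.w) * (S.u x y)⁻¹) ≠
        (S.u x y * (S.w * S.u 0 1 * S.w) * (S.u x y)⁻¹) * S.u 0 b * (S.w * S.u 0 1 * S.w) →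
      ∃ s t : G, szTr S s = τ ∧ szTr S t = τ ∧ szTr S (s⁻¹ * t) = τ ∧ s * t ≠ t * s := by
    intro b x y hb hf hne
    refine ⟨S.u 0 b * (S.w * S.u 0 1 * S.w),
      S.u 0 b * (S.u x y * (S.w * S.u 0 1 * S.w) * (S.u x y)⁻¹), ?_, ?_, ?_, fun e => hne ?_⟩
    · simpa [S.u_zero, hb] using szTr_tri1 S b 1 0 0
    · rw [szTr_tri1, mul_one, hb]
    · rw [invol_tri hz, szTr_tri2, map_one, one_mul, hf]
    · simp only [mul_assoc, mul_right_inj] at e ⊢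
      exact e
  by_cases h1 : τ = 1
  · subst h1
    obtain ⟨t, ht0, ht1⟩ := SzField.exists_ne F
    have hφ : S.f 1 t ≠ 0 := S.f_ne_zero (by simp)
    obtain ⟨r, hr⟩ := S.θ_surj (S.f 1 t)⁻¹
    obtain ⟨r', hr'⟩ := S.θ_surj r
    obtain ⟨k, hk⟩ := S.mul_θ_surj r'
    have e : (k * S.θ k) ^ 2 * S.f 1 t = 1 := by
      rw [hk, ← S.θθ, hr', hr, inv_mul_cancel₀ hφ]
    have hf : S.f (S.θ k) (k ^ 2 * S.θ k * t) = 1 := by
      rw [← e]
      simp only [Tits.f, map_mul, map_pow, S.θθ, map_one]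
      ring
    refine key 1 _ _ (map_one _) (by rw [hf, one_pow]) fun h => ?_
    rcases sz_tri4 S _ _ hf h with h | h
    · rw [h] at e; simp at e
    · rw [S.θ_eq_one.1 h] at e
      simp only [Tits.f, map_one] at e
      rcases S.θ_eq_self (x := t) (by grind) with h | h
      · exact ht0 h
      · exact ht1 h
  · obtain ⟨b, hb⟩ := S.θ_surj τ
    obtain ⟨r, hr⟩ := S.θ_surj b
    obtain ⟨y, hy⟩ := S.θ_surj r
    have e : S.θ y ^ 2 = τ := by rw [hy, ← S.θθ, hr, hb]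
    refine key b 0 y hb (by simpa [Tits.f] using e) fun h => ?_
    have h2 := szTr_sq S
      (S.w * S.u 0 1 * S.w * S.u 0 b * (S.u 0 y * (S.w * S.u 0 1 * S.w) * (S.u 0 y)⁻¹))
    have h3 : S.w * S.u 0 1 * S.w * S.u 0 b * (S.u 0 y * (S.w * S.u 0 1 * S.w) * (S.u 0 y)⁻¹) *
        (S.w * S.u 0 1 * S.w * S.u 0 b * (S.u 0 y * (S.w * S.u 0 1 * S.w) * (S.u 0 y)⁻¹)) = 1 := by
      nth_rewrite 1 [h]
      generalize S.w * S.u 0 1 * S.w = z at hz
      calc _ = S.u 0 y * z * (S.u 0 y)⁻¹ * (S.u 0 b * (z * z) * S.u 0 b) *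
          (S.u 0 y * z * (S.u 0 y)⁻¹) := by group
        _ = S.u 0 y * (z * z) * (S.u 0 y)⁻¹ := by
          nth_rewrite 1 [hz]
          rw [mul_one, S.u_zero_sq]; group
        _ = 1 := by rw [hz, mul_one, mul_inv_cancel]
    rw [h3, szTr_one, szTr_tri3, eq_comm, pow_eq_zero_iff two_ne_zero] at h2
    simp only [one_mul, mul_one, map_mul, hb] at h2
    grind

variable {H : Subgroup G}

include S in
lemma sz_invol_isConj (s t : G) (hs1 : s ≠ 1) (ht1 : t ≠ 1) (hs : s * s = 1) (ht : t * t = 1) :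
    IsConj s t := by
  obtain ⟨a, rfl⟩ := S.exists_conj_eq_of_mul_self hs hs1
  obtain ⟨b, rfl⟩ := S.exists_conj_eq_of_mul_self ht ht1
  exact isConj_iff.2 ⟨b * a⁻¹, by group⟩

lemma eq_top_of_Z_le (hZ : S.Z ≤ H) {g : G} (hg : g ∈ H) (hB : g ∉ S.B) : H = ⊤ := by
  have := SzField.finite F
  obtain ⟨x, y, hxy⟩ : ∃ x y, g • (.inf : S.Pt) = .pt x y := by
    cases h : g • (.inf : S.Pt) with
    | inf => exact absurd (S.mem_B'.2 h) hB
    | pt x y => exact ⟨x, y, rfl⟩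
  obtain ⟨l, hw⟩ := S.exists_twist_w_mem one_ne_zero (hZ (S.u_mem_Z 1)) hg hxy
  have hZ' : (S.twist (S.u x y * S.h l)).Z ≤ H := fun z hz => hZ (by
    have := S.conj_mem_Z (mul_mem (S.u_mem_B x y) (S.h_mem_B l)) (S.mem_twist_Z.1 hz)
    simpa [mul_assoc] using this)
  generalize S.twist (S.u x y * S.h l) = S' at hw hZ'
  obtain ⟨t, ht0, ht1⟩ := SzField.exists_ne F
  have h1 : S'.u 1 0 ∈ H := by
    refine S'.u_mem_of_smul_inf hw ht0 one_ne_zero ht1 (hZ' (S'.u_mem_Z _)) (hZ' (S'.u_mem_Z _))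
      (mul_mem (mul_mem hw (hZ' (S'.u_mem_Z 1))) hw) ?_
    rw [S'.w_u_w_one, mul_smul, mul_smul, S'.u_inv, S'.u_smul_inf, S'.w_smul_inf, S'.u_smul_zero]
  have h2 : ∀ k : Fˣ, S'.h k ∈ H := fun k => by
    obtain ⟨k', hk, e⟩ := S'.exists_h_of_w_mem hw (b := (k : F) ^ 2 * S'.θ k) (b' := 1)
      (mul_ne_zero (pow_ne_zero _ k.ne_zero) (S'.θ_ne_zero.2 k.ne_zero)) one_ne_zero
      (hZ' (S'.u_mem_Z _)) (hZ' (S'.u_mem_Z _))
    rw [mul_one] at e
    rwa [← Units.ext (S'.sq_mul_θ_inj e)]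
  refine S'.eq_top_of_U_le (fun v hv => ?_) hw S'.w_notMem_B
  obtain ⟨a, b, rfl⟩ := S'.mem_U.1 hv
  by_cases ha : a = 0
  · rw [ha]; exact hZ' (S'.u_mem_Z b)
  obtain ⟨k, hk⟩ := S'.exists_unit_θ one_ne_zero ha
  have h3 := mul_mem (hZ' (S'.u_mem_Z b)) (mul_mem (mul_mem (h2 k) h1) (inv_mem (h2 k)))
  rw [S'.h_conj_u, S'.u_mul, hk] at h3
  simpa using h3

omit [SzField F] in
lemma exists_swap_inv {y : S.Pt} (hy : y ≠ .inf) : ∃ w : G, w • (.inf : S.Pt) = y ∧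
    ∀ k : G, k • (.inf : S.Pt) = .inf → k • y = y → w⁻¹ * k * w = k⁻¹ := by
  cases y with
  | inf => exact absurd rfl hy
  | pt a b =>
    refine ⟨S.u a b * S.w * (S.u a b)⁻¹, ?_, fun k h1 h2 => ?_⟩
    · rw [mul_smul, mul_smul, S.u_inv, S.u_smul_inf, S.w_smul_inf, S.u_smul_zero]
    · obtain ⟨l, hl⟩ := S.mem_H.1 (S.conj_mem_H_of_fix (S.u_smul_inf a b) (S.u_smul_zero a b) h1 h2)
      have e : k = S.u a b * S.h l * (S.u a b)⁻¹ := by rw [← hl]; group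
      calc _ = S.u a b * (S.w⁻¹ * S.h l * S.w) * (S.u a b)⁻¹ := by rw [e]; group
        _ = _ := by rw [S.w_inv, S.w_h_w, map_inv, e]; group

omit [SzField F] in
lemma fix_of_conj_mem_B (hB : H ≤ S.B) {x f : G} (h : x⁻¹ * f * x ∈ H) :
    f • x • (.inf : S.Pt) = x • .inf := by
  have := S.mem_B'.1 (hB h)
  rwa [mul_smul, mul_smul, inv_smul_eq_iff] at this

omit [SzField F] in
lemma exists_fix_of_notMem_U {s : G} (hs : s ∈ S.B) (hU : s ∉ S.U) :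
    ∃ y : S.Pt, y ≠ .inf ∧ s • y = y := by
  obtain ⟨x, hx, h⟩ := (S.mem_U_or_conj_mem_H hs).resolve_left hU
  obtain ⟨a, b, rfl⟩ := S.mem_U.1 hx
  refine ⟨S.u a b • .pt 0 0, by rw [S.u_smul_zero]; exact S.pt_ne_inf _ _, ?_⟩
  have := (S.mem_H_iff_fix.1 h).2
  rwa [mul_smul, mul_smul, inv_smul_eq_iff] at this

lemma bin_le_U (h : IsBinary G (G ⧸ H)) (hZ : S.Z ≤ H) (hB : H ≤ S.B) : H ≤ S.U := by
  intro s hs
  by_contra hsU
  obtain ⟨y1, hy1, hsy⟩ := exists_fix_of_notMem_U S (hB hs) hsU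
  have hs1 : s ≠ 1 := fun e => hsU (e ▸ one_mem _)
  set u := S.u 0 1 with hudef
  have hu : u ∈ S.Z := S.u_mem_Z 1
  have hu1 : u ≠ 1 := S.u_zero_one_ne_one
  have hsz : s • (.inf : S.Pt) = .inf := S.mem_B'.1 (hB hs)
  have huz : u • (.inf : S.Pt) = .inf := S.u_smul_inf _ _
  have ht : u * (s * s) * u⁻¹ ∈ H := mul_mem (mul_mem (hZ hu) (mul_mem hs hs)) (inv_mem (hZ hu))
  set t := u * (s * s) * u⁻¹ with htdef
  have hy2 : u • y1 ≠ .inf := fun h' => hy1 (by rw [← huz] at h'; exact smul_left_cancel _ h')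
  have hy12 : u • y1 ≠ y1 := fun h' => hy1 (S.eq_inf_of_mem_U (S.Z_le_U hu) hu1 h')
  have hty : t • u • y1 = u • y1 := by simp [htdef, mul_smul, hsy]
  have hk : s⁻¹ * t ∈ H := mul_mem (inv_mem hs) ht
  have hkU : s⁻¹ * t ∉ S.U := fun h' => hsU (by
    have h1 : s⁻¹ * u * s⁻¹⁻¹ ∈ S.U := S.conj_mem_U (inv_mem (hB hs)) (S.Z_le_U hu)
    have : s = (s⁻¹ * u * s⁻¹⁻¹)⁻¹ * (s⁻¹ * t) * u := by rw [htdef]; group
    rw [this]; exact mul_mem (mul_mem (inv_mem h1) h') (S.Z_le_U hu))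
  obtain ⟨y3, hy3, hky⟩ := exists_fix_of_notMem_U S (hB hk) hkU
  obtain ⟨w1, b1, c1⟩ := exists_swap_inv S hy1
  obtain ⟨w2, b2, c2⟩ := exists_swap_inv S hy2
  obtain ⟨w3, b3, c3⟩ := exists_swap_inv S hy3
  obtain ⟨f, f0, f1, f2, f3⟩ := bin_four h 1 w1 w2 w3 s t (by simpa using hs)
    (by rw [c1 s hsz hsy]; exact inv_mem hs)
    (by rw [c2 t (S.mem_B'.1 (hB ht)) hty]; exact inv_mem ht)
    (by rw [c3 _ (S.mem_B'.1 (hB hk)) hky]; exact inv_mem hk)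
  have g0 := fix_of_conj_mem_B S hB f0
  have g1 := fix_of_conj_mem_B S hB f1
  have g2 := fix_of_conj_mem_B S hB f2
  have g3 := fix_of_conj_mem_B S hB f3
  rw [one_smul] at g0
  rw [b1] at g1
  rw [b2] at g2
  have hf : f = 1 := S.eq_one_of_fix_three hy1.symm hy12.symm hy2.symm g0 g1 g2
  rw [b3, hf, mul_one, inv_smul_eq_iff] at g3
  have h31 : y3 = y1 := by
    by_contra hne
    exact hs1 (S.eq_one_of_fix_three hy3.symm hne hy1.symm hsz g3.symm hsy)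
  rw [h31, mul_smul, inv_smul_eq_iff, hsy] at hky
  have ht1 : t = 1 :=
    S.eq_one_of_fix_three hy1.symm hy12.symm hy2.symm (S.mem_B'.1 (hB ht)) hky hty
  have : s * s = u⁻¹ * t * u := by rw [htdef]; group
  rw [ht1, mul_one, inv_mul_cancel] at this
  exact hsU (S.mem_U_of_pow_eq_one (n := 1) (hB hs) (by simpa [sq] using this))

lemma bin_le_Z (h : IsBinary G (G ⧸ H)) (hZ : S.Z ≤ H) (hU : H ≤ S.U) : H ≤ S.Z := by
  have := SzField.finite F
  intro v hv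
  by_contra hvZ
  obtain ⟨a, b, rfl⟩ := S.mem_U.1 (hU hv)
  have ha : a ≠ 0 := fun e => hvZ (S.u_mem_Z_iff.2 e)
  have key : ∀ g : G, g ^ 4 = 1 → ∃ x : G, x⁻¹ * g * x ∈ H := fun g hg => by
    obtain ⟨x, hx⟩ := S.exists_twist_mem_U (x := g) (n := 2) hg
    obtain ⟨c, d, e⟩ := S.mem_U.1 (S.mem_twist_U.1 hx)
    by_cases hc : c = 0
    · exact ⟨x, by rw [e, hc]; exact hZ (S.u_mem_Z d)⟩
    obtain ⟨k, hk⟩ := S.exists_unit_θ hc ha
    refine ⟨x * (S.h k)⁻¹, ?_⟩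
    have e2 : (x * (S.h k)⁻¹)⁻¹ * g * (x * (S.h k)⁻¹) = S.h k * S.u c d * (S.h k)⁻¹ := by
      rw [← e]; group
    have := mul_mem (hZ (S.u_mem_Z ((k : F) ^ 2 * S.θ k * d - b))) hv
    rw [S.u_mul] at this
    rw [e2, S.h_conj_u, hk]
    simpa using this
  obtain ⟨x1, a1⟩ := key S.w (by rw [show 4 = 2 * 2 from rfl, pow_mul, sq S.w, S.w_mul_w, one_pow])
  obtain ⟨x2, a2⟩ := key _ (S.u_pow_four 1 0)
  obtain ⟨x3, a3⟩ := key _ (w_mul_u_pow_four S)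
  have hB := hU.trans S.U_le_B
  have hw1 : S.w ≠ 1 := fun e => S.w_notMem_B (e ▸ one_mem _)
  have hu1 : S.u 1 0 ≠ 1 := fun e => one_ne_zero (S.u_eq_one_iff.1 e).1
  have fixU : ∀ {x g : G} {P : S.Pt}, x⁻¹ * g * x ∈ H → g ≠ 1 → g • P = P → P = x • .inf :=
    fun {x g P} hx hg hP => by
      rw [← inv_smul_eq_iff]
      refine S.eq_inf_of_mem_U (hU hx) (conj_ne_one hg x) ?_
      rw [mul_smul, mul_smul, smul_inv_smul, hP]
  have e2 := fixU a2 hu1 (S.u_smul_inf 1 0)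
  obtain ⟨f, -, f1, f2, f3⟩ := bin_four h x1 x1 x2 x3 S.w (S.u 1 0) a1 a1 a2 (by rwa [S.w_inv])
  have g1 := fix_of_conj_mem_B S hB a1
  by_cases hf : f = 1
  · rw [hf, mul_one, S.w_inv] at f3
    have g3 := fix_of_conj_mem_B S hB f3
    have g4 := fix_of_conj_mem_B S hB a3
    rw [mul_smul, ← g3, smul_left_cancel_iff, g3] at g4
    rw [fixU a2 hu1 g4, ← e2] at g3
    exact S.w_notMem_B (S.mem_B'.2 g3)
  · rw [fixU f2 hf (fix_of_conj_mem_B S hB f1), ← e2] at g1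
    exact S.w_notMem_B (S.mem_B'.2 g1)

include S in
lemma le_centralizer_of_odd (hH : Odd (Nat.card H)) {x : G} (hx : x ∈ H) (hx1 : x ≠ 1) :
    H ≤ Subgroup.centralizer {x} := by
  have := SzField.finite F
  have := S.finite
  have ho : ∀ g ∈ H, Odd (orderOf g) := fun g hg => hH.of_dvd_nat (H.orderOf_dvd_natCard hg)
  rcases S.classify H with ⟨A, hA, hle⟩ | ⟨g, K, -, e⟩
  · rcases hA.cases with ⟨g, rfl⟩ | ⟨c, hc1, hco, rfl⟩
    · rw [Model.normalizer_U] at hle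
      generalize S.twist g = S' at hle
      intro y hy
      rw [Subgroup.mem_centralizer_singleton_iff]
      obtain ⟨φ, hφ⟩ := S'.exists_hom_B
      have hm : y * x * y⁻¹ * x⁻¹ ∈ H := mul_mem (mul_mem (mul_mem hy hx) (inv_mem hy)) (inv_mem hx)
      obtain ⟨a, b, k, e⟩ := S'.mem_B.1 (hle hm)
      have h1 : φ ⟨_, hle hm⟩ = 1 := by
        have : (⟨_, hle hm⟩ : S'.B) = ⟨y, hle hy⟩ * ⟨x, hle hx⟩ * ⟨y, hle hy⟩⁻¹ * ⟨x, hle hx⟩⁻¹ :=
          rfl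
        rw [this, map_mul, map_mul, map_mul, map_inv, map_inv, mul_comm (φ _) (φ _)]
        group
      have h2 : k = 1 := by
        rw [← h1, ← hφ a b k (e ▸ hle hm)]
        congr 2
        exact e.symm
      rw [h2, map_one, mul_one] at e
      have := S'.eq_one_of_mem_U_of_odd (e ▸ S'.u_mem_U a b) (ho _ hm)
      rwa [mul_inv_eq_one, mul_inv_eq_iff_eq_mul] at this
    · intro y hy
      rw [S.centralizer_eq_of_odd hc1 hco hx1
        (S.mem_centralizer_of_odd hc1 hco (hle hx) (ho _ hx))]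
      exact S.mem_centralizer_of_odd hc1 hco (hle hy) (ho _ hy)
  · exfalso
    have h1 := ho _ (e ▸ (S.twist g).w_mem_sub K)
    rw [orderOf_eq_prime (p := 2) (x := (S.twist g).w) (by rw [sq, (S.twist g).w_mul_w])
      (fun e => (S.twist g).w_notMem_B (e ▸ one_mem _))] at h1
    exact absurd h1 (by decide)

include S in
lemma bin_odd (h : IsBinary G (G ⧸ H)) (hH : Odd (Nat.card H)) : H = ⊥ := by
  have := SzField.finite F
  have := S.finite
  by_contra hne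
  obtain ⟨p, hp, hpd⟩ := Nat.exists_prime_and_dvd (mt Subgroup.card_eq_one.1 hne)
  have : Fact p.Prime := ⟨hp⟩
  obtain ⟨⟨x, hx⟩, hxo⟩ := exists_prime_orderOf_dvd_card' p hpd
  rw [Subgroup.orderOf_mk] at hxo
  have hpo : Odd p := hH.of_dvd_nat hpd
  have hx1 : x ≠ 1 := fun e => hp.one_lt.ne (by rw [← hxo, e, orderOf_one])
  have h0 := szTr_ne_zero S hx1 (hxo ▸ hpo)
  obtain ⟨s, t, a1, a2, a3, hne⟩ := exists_triangle S h0
  have key : ∀ y : G, szTr S y = szTr S x → ∃ c : G, c⁻¹ * y * c ∈ H := fun y hy => by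
    obtain ⟨c, hc⟩ := exists_conj_mem_zpowers
      (fun P => S.isCyclic_of_isPGroup (fun e => absurd hpo (by rw [e]; decide)) P.isPGroup') hxo
      (pow_eq_one_of_szTr S hy h0 (hxo ▸ pow_orderOf_eq_one x))
    exact ⟨c, Subgroup.zpowers_le.2 hx hc⟩
  obtain ⟨x1, b1⟩ := key s a1
  obtain ⟨x2, b2⟩ := key t a2
  obtain ⟨x3, b3⟩ := key _ a3
  exact hne (bin_triangle h (le_centralizer_of_odd S hH hx hx1)
    (fun y hy hy1 => S.centralizer_eq_of_odd hx1 (hxo ▸ hpo) hy1 hy) b1 b2 b3)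

lemma bin_even (h : IsBinary G (G ⧸ H)) (hne : H ≠ ⊤) (hH : Even (Nat.card H)) :
    ∃ g, H = (S.twist g).Z := by
  have := SzField.finite F
  have := S.finite
  obtain ⟨⟨x, hx⟩, hxo⟩ := exists_prime_orderOf_dvd_card' 2 hH.two_dvd
  rw [Subgroup.orderOf_mk] at hxo
  have hx1 : x ≠ 1 := fun e => by rw [e, orderOf_one] at hxo; omega
  have hx2 : x * x = 1 := by rw [← sq, ← hxo, pow_orderOf_eq_one]
  obtain ⟨g, hg⟩ := S.exists_twist_mem_Z hx2
  refine ⟨g, ?_⟩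
  generalize S.twist g = S' at hg
  have hZ : S'.Z ≤ H := fun z hz => bin_inv h (sz_invol_isConj S) hx hx1 hx2
    (S'.mul_self_of_mem_Z hz) (S'.Z_comm_U hg (S'.Z_le_U hz))
  have hB : H ≤ S'.B := fun y hy => by
    by_contra hy'
    exact hne (eq_top_of_Z_le S' hZ hy hy')
  exact le_antisymm (bin_le_Z S' h hZ (bin_le_U S' h hZ hB)) hZ

omit [SzField F] in
lemma isBinary_Z : IsBinary G (G ⧸ S.Z) := by
  refine isBinary_of fun x1 x2 x3 s t hs ht a1 a2 a3 g hg => ?_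
  rw [← S.mem_twist_Z] at a1 a2 a3 hg ⊢
  have e := Model.mul_self_of_mem_Z _ a3
  have e1 := Model.mul_self_of_mem_Z _ a1
  have e2 := Model.mul_self_of_mem_Z _ a2
  have hc : t * s = s * t := by
    rw [inv_eq_of_mul_eq_one_right e1] at e
    calc t * s = s * (s * t * (s * t)) * t := by
          calc _ = (s * s) * t * s * (t * t) := by rw [e1, e2]; group
            _ = _ := by group
      _ = _ := by rw [e, mul_one]
  have h1 := Model.mem_U_of_comm _ (Model.Z_le_U _ a1) hs hc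
  have h2 := S.twist_U_eq_of_mem ht h1 (Model.Z_le_U _ a2)
  exact Model.mem_Z_of_mul_self _ (h2 ▸ Model.Z_le_U _ hg) (Model.mul_self_of_mem_Z _ hg)

include S in
theorem sz_isBinary_iff (hne : H ≠ ⊤) : IsBinary G (G ⧸ H) ↔ H = ⊥ ∨
    ∃ P : Sylow 2 G, H = (Subgroup.center (P : Subgroup G)).map (P : Subgroup G).subtype := by
  constructor
  · intro h
    rcases Nat.even_or_odd (Nat.card H) with he | ho
    · obtain ⟨g, rfl⟩ := bin_even S h hne he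
      exact Or.inr ⟨(S.twist g).sylowU, (S.twist g).center_U.symm⟩
    · exact Or.inl (bin_odd S h ho)
  · rintro (rfl | ⟨P, rfl⟩)
    · exact isBinary_bot
    · obtain ⟨g, hg⟩ := S.exists_twist_U_eq P
      rw [← hg, Model.center_U]
      exact isBinary_Z _

end Cfsg.Agent.H94
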