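import Cfsg.Agent.H74.CksDefs
import Cfsg.Agent.H72.T3Ma
import Cfsg.Agent.H75.T3Frame
import Cfsg.Agent.H30.DecCore

/-!
# Split `BN`-pairs with root groups for the linear, symplectic and orthogonal groups
-/

set_option autoImplicit false

namespace Cfsg.Agent.H94.CksMda

open Equiv H34 H75 H75.T3G H78 H78.Frame H80 H26 H26.PForm Module QuadraticMap Lead.T3 H74.Cks
open scoped commutatorElement

universe u v

section Model

variable {p : ℕ} {Γ : Type u} [Group Γ] (M : Model.{u, v} p Γ)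

/-- The torus is abelian. -/
def Ab : Prop := ∀ a ∈ M.H, ∀ b ∈ M.H, a * b = b * a

/-- The simple root groups generate the Sylow subgroup. -/
def Gn {n : ℕ} (e : Fin n → M.ι) : Prop := ⨆ a, M.UJ (e a) = M.U

theorem hmem (Z : Subgroup Γ) [(Z.map M.j).Normal] (K : Subgroup M.G) (g : Γ)
    (h : QuotientGroup.mk' (Z.map M.j) (M.j g) ∈ K.map (QuotientGroup.mk' (Z.map M.j))) :
    ∃ z ∈ Z, M.j (g * z) ∈ K := by
  obtain ⟨k, hk, e⟩ := h
  obtain ⟨_, ⟨z, hz, rfl⟩, e'⟩ := (QuotientGroup.mk'_eq_mk' _).1 e.symm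
  exact ⟨z, hz, by rw [map_mul, e']; exact hk⟩

variable {M}

theorem Ab.quot [Finite Γ] (h : Ab M) (Z : Subgroup Γ) [Z.Normal] [(Z.map M.j).Normal]
    (hZ : Z ≤ M.H) : Ab (M.quot Z hZ) := by
  intro a ha b hb
  obtain ⟨a, rfl⟩ := QuotientGroup.mk_surjective a
  obtain ⟨b, rfl⟩ := QuotientGroup.mk_surjective b
  obtain ⟨z, hz, e⟩ := hmem M Z M.P.H a ha
  obtain ⟨z', hz', e'⟩ := hmem M Z M.P.H b hb
  have := congrArg (QuotientGroup.mk' Z) (h _ e _ e')
  simpa [(QuotientGroup.eq_one_iff _).2 hz, (QuotientGroup.eq_one_iff _).2 hz'] using this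

theorem Ab.quotZ [Finite Γ] [Fact p.Prime] (h : Ab M)
    (hz : ∀ z ∈ Subgroup.center Γ, M.j z ∈ Subgroup.center M.G) : Ab (M.quotZ hz) :=
  haveI := normal_map_center hz
  h.quot _ M.center_le_H

theorem Ab.ofEquiv (h : Ab M) {Γ' : Type u} [Group Γ'] (f : Γ' ≃* Γ) : Ab (M.ofEquiv f) :=
  fun a ha b hb => f.injective (by rw [map_mul, map_mul]; exact h _ ha _ hb)

theorem Gn.quot [Finite Γ] {n : ℕ} {e : Fin n → M.ι} (h : Gn M e) (Z : Subgroup Γ) [Z.Normal]
    [(Z.map M.j).Normal] (hZ : Z ≤ M.H) : Gn (M.quot Z hZ) e := by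
  refine le_antisymm (iSup_le fun a => Model.UJ_le_U _ _) fun g hg => ?_
  obtain ⟨g, rfl⟩ := QuotientGroup.mk_surjective g
  obtain ⟨z, hz, e1⟩ := hmem M Z M.P.Up g
    ((rootU_map M.P.X (QuotientGroup.mk' (Z.map M.j)) _).le hg)
  have h1 : (⨆ a, M.UJ (e a)).map (QuotientGroup.mk' Z) ≤ ⨆ a, (M.quot Z hZ).UJ (e a) := by
    rw [Subgroup.map_iSup]
    refine iSup_mono fun a => ?_
    rintro _ ⟨y, hy, rfl⟩
    exact ⟨(rootU_map M.P.X (QuotientGroup.mk' (Z.map M.j)) _).ge ⟨_, hy.1, rfl⟩,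
      congrArg (QuotientGroup.mk' (Z.map M.j)) hy.2⟩
  exact h1 ⟨g * z, h.ge e1, by simp [(QuotientGroup.eq_one_iff _).2 hz]⟩

theorem Gn.quotZ [Finite Γ] [Fact p.Prime] {n : ℕ} {e : Fin n → M.ι} (h : Gn M e)
    (hz : ∀ z ∈ Subgroup.center Γ, M.j z ∈ Subgroup.center M.G) : Gn (M.quotZ hz) e :=
  haveI := normal_map_center hz
  h.quot _ M.center_le_H

theorem UJ_one (hT : M.τ = Split.Twist.one M.P) (i : M.ι) : M.τ.UJ i = M.P.X (M.S.α i) := by
  have ho : M.τ.T.orb i = {i} := by rw [hT]; exact SignedSys.Sym.one_orb i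
  ext g
  rw [M.τ.mem_UJ, ho, M.S.wJ_singleton, M.S.inv_s, Split.U_singleton, hT]
  exact and_iff_left rfl

end Model

theorem has_of (hE : H74.Cks.ExtStmt) {Γ : Type} [Group Γ] [Finite Γ] [IsSimpleGroup Γ] {p : ℕ}
    [Fact p.Prime] {M : Model.{0, 0} p Γ} {n : ℕ} {par : ℕ → ℕ} {sp : ℕ} {q : Fin n → ℕ}
    {e : Fin n → M.ι} (h : MD M (tm n par sp) q e) (h' : Ab M) : Has Γ p n (tm n par sp) q := by
  obtain ⟨S, h1, h2, -⟩ := hE M h (fun _ _ => tm_eq_one) h'
  exact ⟨S, h1, h2⟩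

theorem mda (hE : H74.Cks.ExtStmt) : MdaStmt := by
  intro F _ _ p _ _ n hn h4
  have : Nontrivial (Fin (n + 1)) := Fin.nontrivial_iff_two_le.2 (by omega)
  have : IsSimpleGroup (PL (n + 1) F) := by
    refine H26.psl_isSimpleGroup ?_
    rcases hn.eq_or_lt with h | h
    · exact Or.inr (H27.exists_sq_ne_one_of_four_le (h4 h.symm))
    · exact Or.inl (by simp; omega)
  have h : MD (modelSL n F p (by omega)) (tm n Lead.T3.parA 0) (fun _ => Fintype.card F) id :=
    MD.of_one rfl Function.surjective_id (H72.T3M.ordA n) fun a => by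
      rw [← Nat.card_eq_fintype_card]
      exact (Nat.card_eq_of_bijective (fun t : F => (⟨xA _ t, xA_mem _ t⟩ : (rdA F n).X _))
        ⟨fun s t e => sub_eq_zero.1 (xA_inj ((sysA n).α a) _ (by
          rw [sub_eq_add_neg, xA_add, par_neg (x := xA (K := F) _) (xA_add _), mul_inv_eq_one]
          exact congrArg Subtype.val e)), fun x => by
          obtain ⟨t, e⟩ := (mem_parHom_range _ _).1 x.2
          exact ⟨t, Subtype.ext e⟩⟩).symm
  have h' : Ab (modelSL n F p (by omega)) := fun a ha b hb => diagA_commute a ha b hb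
  exact has_of hE (h.quotZ fun _ h => h) (h'.quotZ fun _ h => h)

section Frame

variable {F : Type*} {V : Type v} [Field F] [AddCommGroup V] [Module F V] {P : PForm F V} {n : ℕ}
  {Fr : Frame P n} {d : Prop}

theorem torus_comm {g h : V ≃ₗ[F] V} (hg : Fr.Mono g 1) (hh : Fr.Mono h 1)
    (hV : ∀ w ∈ Fr.V0, g (h w) = h (g w)) : g * h = h * g := by
  refine Fr.ext_frame (fun a => ?_) hV
  obtain ⟨c, e⟩ := hg.2 a
  obtain ⟨c', e'⟩ := hh.2 a
  replace e : g (Fr.e a) = c • Fr.e a := e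
  replace e' : h (Fr.e a) = c' • Fr.e a := e'
  simp only [mul_apply', e, e', map_smul, smul_smul, mul_comm]

/-- Generation in the symplectic group of rank two. -/
theorem sp_gen (hσ : ∀ t, P.σ t = t) (hΛ : ∀ t, t ∈ P.Λ) (h0 : Fr.V0 = ⊥) {l : F} (l0 : l ≠ 0)
    (l1 : l ≠ 1) {a b : BI n} (hab : a.1 ≠ b.1) {K : Subgroup (V ≃ₗ[F] V)} (h1 : Fr.X a a ≤ K)
    (h2 : Fr.X b (ng a) ≤ K) : Fr.X b a ≤ K ∧ Fr.X b b ≤ K := by
  obtain ⟨k1, k2⟩ := fst_ne_iff.1 hab
  have k3 : ng a ≠ ng b := by simpa using k1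
  have ev : ∀ m μ : F, P.EV (Fr.e b) (m • Fr.e a) μ := fun m μ =>
    ⟨Fr.sing b, by rw [P.f_smul_left, Fr.orth _ _ k2, mul_zero], hΛ _⟩
  have mul : ∀ m μ m' μ' : F, eT P (Fr.e b) (m • Fr.e a) μ * eT P (Fr.e b) (m' • Fr.e a) μ' =
      eT P (Fr.e b) ((m + m') • Fr.e a) (μ + μ') := fun m μ m' μ' => by
    rw [eT_mul (ev m μ) (ev m' μ'), add_smul]
    simp [P.f_smul_left, f_smul_right, Fr.f_self]
  have c0 := Fr.pair' a
  have e0 := P.ε_ne_zero
  set c := P.f (Fr.e (ng a)) (Fr.e a) with hc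
  have cm : ∀ s ν : F, eT P (Fr.e b) ((-(P.ε * s * ν * c)) • Fr.e a) (P.ε * s * s * ν * c * c) ∈ K :=
    fun s ν => by
    have hx : P.EV (Fr.e a) 0 ν := EV.of_mem (Fr.sing a) (hΛ ν)
    have hy := eT_mem_XL (zero_mem Fr.V0) hx
    have h5 := (eT_commutator (X_le_isom _ _ hy) (X_apply_e k2 k2 hy) (Fr.ev_xs k3 s)).2
    have h6 : ⁅eT P (Fr.e a) 0 ν, eT P (Fr.e b) (s • Fr.e (ng a)) 0⁆ ∈ K := by
      rw [commutatorElement_def]
      have := h2 (xs_mem k3 s)
      exact mul_mem (mul_mem (mul_mem (h1 hy) this) (inv_mem (h1 hy))) (inv_mem this)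
    rw [h5, map_smul, eT_apply hx] at h6
    convert h6 using 2
    · rw [f_zero_right]; module
    · simp only [P.f_smul_left, f_smul_right, f_sub_right, f_add_right, hσ, Fr.f_self, f_zero_right,
        ← hc]
      ring
  have long : ∀ μ : F, eT P (Fr.e b) ((0 : F) • Fr.e a) μ ∈ K := fun μ => by
    have l2 : l - 1 ≠ 0 := sub_ne_zero.2 l1
    have := mul_mem (cm l (μ / ((l - 1) * P.ε * c * c) / l)) (cm 1 (-(μ / ((l - 1) * P.ε * c * c))))
    rw [mul] at this
    convert this using 3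
    · field_simp; ring
    · field_simp; ring
  constructor
  · intro g hg
    obtain ⟨t, rfl⟩ := (mem_XS hab.symm).1 hg
    have := mul_mem (cm 1 (-(t / (P.ε * c)))) (long (t * c))
    rw [mul] at this
    rw [xs]
    convert this using 3
    · field_simp; ring
    · field_simp; ring
  · intro g hg
    obtain ⟨w, ν, hw, -, rfl⟩ := mem_XL.1 hg
    obtain rfl : w = 0 := by simpa [h0] using hw
    simpa using long ν

variable (hA : Fr.Aniso) (hd : ¬ d → ∀ a, Fr.X a a = ⊥) (hd' : d → ∀ a, Fr.X a a ≠ ⊥)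
  {Γ : Type u} [Group Γ] (j : Γ →* V ≃ₗ[F] V) (hj : Function.Injective j) (hr : j.range = P.E)
  [FiniteDimensional F V]

include hA hd hd' hj hr in
theorem frameMD [Finite Γ] (h0 : 0 < n) (h3 : d ∨ 3 ≤ n) {k : ℝ} (hL : BCL Fr.X k) (p : ℕ)
    [Fact p.Prime] [CharP F p]
    (hV : ∀ g ∈ P.E, (∀ a, g (Fr.e a) = Fr.e a) → g ^ p = 1 → g = 1)
    (hH : ∀ g ∈ Fr.H, ∀ h ∈ Fr.H, g * h = h * g) :
    ∃ (M : Model.{u, u} p (Γ ⧸ Subgroup.center Γ)) (e : Fin n → M.ι), Ab M ∧
      (d → MD M (tm n parA (n - 1)) (qC n (Nat.card F) (Nat.card Fr.V0 * Nat.card P.Λ)) e) ∧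
      (¬ d → MD M (tm n (parD n) 0) (fun _ => Nat.card F) e) ∧
      ((∀ (hn : d ∨ 2 ≤ n) (K : Subgroup (V ≃ₗ[F] V)), (∀ i, Fr.X (i, false) (sB hn i) ≤ K) →
        ∀ a b, 0 < ht a + ht b → Fr.X a b ≤ K) → Gn M e) := by
  have : Nonempty (Fin n) := ⟨⟨0, by omega⟩⟩
  have hn : d ∨ 2 ≤ n := h3.imp_right fun h => by omega
  let M := (frameRDL hA hn hd hd' j hj hr h0 hL).model1
    (coordBC_conn hn h0 h3 k hL.pos) (fun r _ => frameRD'_isPGroup hA hn hd hd' j hj hr p r)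
    (frameRD'_noTors hA hn hd hd' j hj hr p hV)
  have hc : ∀ i : Fin n, Nat.card (M.P.X (M.S.α i)) = Nat.card (Fr.X (i, false) (sB hn i)) :=
    fun i => card_comap hj (hr ▸ X_le_E _ _)
  have hab : Ab M := fun a ha b hb => hj (by rw [map_mul, map_mul]; exact hH _ ha _ hb)
  refine ⟨M.quotZ fun _ h => h, Fin.rev, hab.quotZ _,
    fun h => MD.quotZ (M := M) (MD.of_one rfl Fin.rev_surjective
    (order_C hn h) fun a => ?_) _, fun h => MD.quotZ (M := M) (MD.of_one rfl Fin.rev_surjective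
    (order_D hn h (h3.resolve_left h)) fun a => ?_) _, fun hG => Gn.quotZ (M := M) ?_ _⟩
  · have := a.2
    rw [hc, qC]
    rcases sB_cases hn a.rev with k | k | k
    · rw [if_neg (by have := k.1; rw [Fin.val_rev] at this; omega)]
      exact card_XS fun e => by have := k.2.2; rw [← e] at this; simp at this
    · rw [if_pos (by have := k.1; rw [Fin.val_rev] at this; omega), k.2.2, card_XL]
    · exact absurd h k.2.1
  · rw [hc]
    rcases sB_cases hn a.rev with k | k | k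
    · exact card_XS fun e => by have := k.2.2; rw [← e] at this; simp at this
    · exact absurd k.2.1 h
    · exact card_XS fun e => by have := k.2.2.2; rw [← e] at this; simp only at this; omega
  · refine le_antisymm (iSup_le fun a => M.UJ_le_U _) fun g hg => ?_
    refine (rootU_le (K := ⨆ a : Fin n, M.UJ a.rev) fun r hr' x hx => ?_) hg
    obtain ⟨a, b, h, rfl⟩ := r.exists_rt
    obtain ⟨y, hy, e⟩ := hG hn ((⨆ a : Fin n, M.UJ a.rev).map j) (fun i x hx => by
      obtain ⟨x, rfl⟩ := hr.ge (X_le_E _ _ hx)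
      refine ⟨x, le_iSup (fun a : Fin n => M.UJ a.rev) i.rev ?_, rfl⟩
      rw [Fin.rev_rev]
      exact (UJ_one (M := M) rfl i).ge hx) a b hr' hx
    exact hj e ▸ hy

end Frame

theorem spMD {F : Type} [Field F] [Fintype F] (p : ℕ) [Fact p.Prime] [CharP F p] {m : ℕ}
    (hm : 0 < m) : ∃ (M : Model.{0, 0} p (PSp m F)) (e : Fin m → M.ι), Ab M ∧
      MD M (tm m parA (m - 1)) (fun _ => Fintype.card F) e ∧
      (m = 2 → 3 ≤ Fintype.card F → Gn M e) := by
  have hV : finrank F (Fin m ⊕ Fin m → F) = 2 * m := by simp [two_mul]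
  obtain ⟨Fr, -⟩ := Frame.exists_norm (sympP (H27.isSymplecticForm_sympForm (F := F) m)) m
    (by rw [hV]; exact Nat.add_le_add_left (show 1 ≤ 2 by decide) _)
  have h0 := Fr.V0_eq_bot hV
  obtain ⟨M, e, h2, h, -, h3⟩ := frameMD (d := True) (Fr.aniso_of_finrank (by omega))
    (fun h => absurd trivial h)
    (fun _ a => XL_ne_bot (zero_mem _) (EV.of_mem (Fr.sing a) trivial) fun _ => one_ne_zero)
    (gl.toMonoidHom.comp (H27.spToGL m F)) (gl.injective.comp H27.spToGL_injective) (by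
      ext g
      obtain ⟨g, rfl⟩ := gl.surjective g
      rw [← mem_spGL_iff, ← H27.range_spToGL]
      exact ⟨fun ⟨x, h⟩ => ⟨x, gl.injective h⟩, fun ⟨x, h⟩ => ⟨x, congrArg gl h⟩⟩) hm
    (Or.inl trivial) (k := 1) ⟨by norm_num, le_rfl, fun a => commute_XL_of_bot h0 (ne_ng a),
      Or.inr fun a c h => commute_XL_of_bot h0 (fst_ne_iff.1 h).2, Or.inl rfl⟩ p
    (fun g _ h _ => Fr.ext_frame h fun w hw => by rw [show w = 0 by simpa [h0] using hw]; simp)
    fun g hg h hh => torus_comm hg.2 hh.2 fun w hw => by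
      rw [show w = 0 by simpa [h0] using hw]; simp
  have h1 := h trivial
  rw [h0, show (sympP _).Λ = ⊤ from rfl, AddSubgroup.card_top,
    Nat.card_unique (α := (⊥ : Submodule F _)), one_mul, qC_self, Nat.card_eq_fintype_card] at h1
  refine ⟨M, e, h2, h1, fun e2 hq => h3 fun hn K hK a b hab => ?_⟩
  subst e2
  obtain ⟨l, l0, l1⟩ := exists_pow_ne_one (K := F) one_pos ⟨Finset.univ, by
    rw [Finset.card_univ]; omega⟩
  rw [pow_one] at l1
  have s0 : sB hn 0 = (0, false) := by simp [sB]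
  have s1 : sB hn 1 = ng (0, false) := by simp [sB, ng]
  have k0 := hK 0
  have k1 := hK 1
  rw [s0] at k0
  rw [s1] at k1
  obtain ⟨k2, k3⟩ := sp_gen (Fr := Fr) (fun _ => rfl) (fun _ => trivial) h0 l0 l1 (by decide) k0 k1
  have k4 := X_symm (Fr := Fr) (1, false) (0, false) ▸ k2
  have k5 := X_symm (Fr := Fr) (1, false) (ng (0, false)) ▸ k1
  have k6 : ∀ a, Fr.X a (ng a) ≤ K := fun a => by rw [X_ng]; exact bot_le
  rcases a with ⟨i, _ | _⟩ <;> rcases b with ⟨k, _ | _⟩ <;> fin_cases i <;> fin_cases k <;>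
    first
      | exact k0 | exact k1 | exact k2 | exact k3 | exact k4 | exact k5
      | exact absurd hab (by decide)

theorem mdc (hE : H74.Cks.ExtStmt) : MdcStmt := by
  intro F _ _ p _ _
  refine ⟨fun n hn => ?_, fun hq => ?_⟩
  · have := S0270.result (F := F) n (by omega) (by omega)
    obtain ⟨M, e, h1, h2, -⟩ := spMD (F := F) p (m := n) (by omega)
    exact has_of hE h2 h1
  · have := S0270.result (F := F) 2 le_rfl fun _ => hq
    obtain ⟨M, e, h1, h2, h3⟩ := spMD (F := F) p (m := 2) (by omega)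
    obtain ⟨S, k1, -, k3, k4⟩ := hE M h2 (fun _ _ => tm_eq_one) h1
    refine ⟨S, (k1 0 1).trans (by decide), fun _ => ?_⟩
    unfold Sys.Gen
    rw [k4, ← h3 rfl hq]
    exact iSup_congr k3

section O

open H30

variable {F : Type*} {V : Type u} [Field F] [Finite F] [AddCommGroup V] [Module F V]
  {Q : QuadraticForm F V} {hQ : (polarBilin Q).Nondegenerate} {n : ℕ} (Fr : Frame (ofQuad Q hQ) n)

theorem O_isom (g : O Q) : g.1 ∈ (ofQuad Q hQ).isom :=
  ⟨O_polar g, fun x => AddSubgroup.mem_bot.2 (sub_eq_zero.2 (O_map g x))⟩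

variable [FiniteDimensional F V]

theorem strip (g : O Q) (hg : Fr.Mono g.1 1) (S : Finset (Fin n)) :
    ∃ k : O Q, dickson hQ k = dickson hQ g ∧ Fr.Mono k.1 1 ∧
      (∀ a : BI n, a.1 ∈ S → k.1 (Fr.e a) = Fr.e a) ∧ ∀ w ∈ Fr.V0, k.1 w = g.1 w := by
  induction S using Finset.induction_on with
  | empty => exact ⟨g, rfl, hg, by simp, fun _ _ => rfl⟩
  | insert i S hi ih =>
    obtain ⟨k, h1, h2, h3, h4⟩ := ih
    obtain ⟨c, hc, e⟩ := h2.exists_ne (i, false)
    obtain ⟨c', e'⟩ := h2.2 (i, true)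
    replace e : k.1 (Fr.e (i, false)) = c • Fr.e (i, false) := e
    replace e' : k.1 (Fr.e (i, true)) = c' • Fr.e (i, true) := e'
    have hp : polar Q (Fr.e (i, false)) (Fr.e (i, true)) ≠ 0 := Fr.pair (i, false)
    have hcc : c' * c = 1 := by
      have := O_polar k (Fr.e (i, false)) (Fr.e (i, true))
      rw [e, e', polar_smul_left', polar_smul_right', ← mul_assoc, mul_eq_right₀ hp] at this
      rwa [mul_comm]
    have hh := exists_isHyp_smul (Q := Q) (Fr.sing (i, false)) (Fr.sing (i, true)) hp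
    have t1 := hh.torus_left (inv_ne_zero hc)
    have t2 := hh.torus_right (inv_ne_zero hc)
    have t3 := hh.dickson_torus hQ (inv_ne_zero hc)
    have t4 : ∀ w, polar Q w (Fr.e (i, false)) = 0 → polar Q w (Fr.e (i, true)) = 0 → _ :=
      fun w a b => IsHyp.torus_of_orth (Q := Q) (e := Fr.e (i, false))
        (f := (polar Q (Fr.e (i, false)) (Fr.e (i, true)))⁻¹ • Fr.e (i, true)) c⁻¹ (w := w) a
        (by rw [polar_smul_right', b, mul_zero])
    generalize torus Q _ _ c⁻¹ = t at t1 t2 t3 t4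
    rw [map_smul, smul_comm, inv_inv] at t2
    replace t2 := smul_right_injective V (inv_ne_zero hp) t2
    have t5 : ∀ a : BI n, a.1 ≠ i → t.1 (Fr.e a) = Fr.e a := fun a ha =>
      t4 _ (Fr.orth a _ fun e => ha (congrArg Prod.fst e).symm)
        (Fr.orth a _ fun e => ha (congrArg Prod.fst e).symm)
    have t6 : ∀ w ∈ Fr.V0, t.1 w = w := fun w hw => t4 w (f_V0 hw _) (f_V0 hw _)
    have tm : Fr.Mono t.1 1 := ⟨O_isom t, fun a => by
      by_cases ha : a.1 = i
      · rcases a with ⟨a, _ | _⟩ <;> obtain rfl : a = i := ha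
        exacts [⟨_, t1⟩, ⟨_, t2⟩]
      · exact ⟨1, (t5 a ha).trans (one_smul _ _).symm⟩⟩
    refine ⟨t * k, by rw [map_mul, t3, one_mul, h1], by simpa using tm.mul h2, fun a ha => ?_,
      fun w hw => by rw [O_mul_apply, t6 _ (h2.map_V0 hw), h4 w hw]⟩
    rw [O_mul_apply]
    by_cases hai : a.1 = i
    · rcases a with ⟨a, _ | _⟩ <;> obtain rfl : a = i := hai
      · rw [e, map_smul, t1, smul_smul, mul_inv_cancel₀ hc, one_smul]
      · rw [e', map_smul, t2, smul_smul, hcc, one_smul]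
    · rw [h3 a ((Finset.mem_insert.1 ha).resolve_left hai), t5 a hai]

theorem quad_comm (hA : Fr.Aniso) (h2 : finrank F V ≤ 2 * n + 2) :
    ∀ g ∈ Fr.H, ∀ h ∈ Fr.H, g * h = h * g := by
  intro g hg h hh
  refine torus_comm hg.2 hh.2 fun w hw => ?_
  by_cases w0 : w = 0
  · simp [w0]
  have hw' : Q w ≠ 0 := fun e => w0 (hA w hw (AddSubgroup.mem_bot.2 e))
  have key : ∀ k : O Q, dickson hQ k = 1 → (∀ a, k.1 (Fr.e a) = Fr.e a) →
      refl Q w * k * refl Q w = k⁻¹ := fun k h1 h3 => by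
    have hle : movSp (refl Q w * k) ≤ Fr.V0 := fun y hy => mem_V0.2 fun a =>
      mem_perp'.1 ((perp_fixSp hQ _).ge hy) _ (mem_fixSp.2 (by
        rw [O_mul_apply, h3, refl_apply_of_orth (f_V0' hw a)]))
    have h4 := Fr.finrank_V0
    have h5 := Submodule.finrank_mono hle
    have h6 : dickson hQ (refl Q w * k) = -1 := by rw [map_mul, h1, dickson_refl hQ hw', mul_one]
    rw [dickson_apply] at h6
    have h7 : finrank F (movSp (refl Q w * k)) = 1 := by
      have h8 : finrank F (movSp (refl Q w * k)) ≤ 2 := by omega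
      interval_cases finrank F (movSp (refl Q w * k))
      · exact absurd h6 (by decide)
      · rfl
      · exact absurd h6 (by decide)
    obtain ⟨v, -, e⟩ := exists_refl_of_finrank_movSp hQ _ h7
    rw [eq_inv_iff_mul_eq_one, mul_assoc (refl Q w * k), e, refl_mul_self]
  have red : ∀ g ∈ Fr.H, ∃ k : O Q, dickson hQ k = 1 ∧ (∀ a, k.1 (Fr.e a) = Fr.e a) ∧
      ∀ w ∈ Fr.V0, k.1 w = g w := fun g hg => by
    obtain ⟨⟨g, hg'⟩, rfl⟩ := (range_eichIncl hQ).ge hg.1
    obtain ⟨k, h1, -, h3, h4⟩ := strip Fr g hg.2 Finset.univ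
    exact ⟨k, h1.trans ((mem_kerDS hQ).1 (eichGroup_le_kerDS hQ hg')).1,
      fun a => h3 a (Finset.mem_univ _), h4⟩
  obtain ⟨k, k1, k2, k3⟩ := red g hg
  obtain ⟨l, l1, l2, l3⟩ := red h hh
  have e1 := key (k * l) (by rw [map_mul, k1, l1, mul_one]) fun a => by rw [O_mul_apply, l2, k2]
  have e2 : k * l = l * k := by
    rw [← inv_inj, ← e1, mul_inv_rev, ← key k k1 k2, ← key l l1 l2]
    simp only [mul_assoc]
    rw [← mul_assoc (refl Q w) (refl Q w), refl_mul_self, one_mul]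
  rw [← k3 _ (hh.2.map_V0 hw), ← l3 _ (hg.2.map_V0 hw), ← k3 w hw, ← l3 w hw]
  exact congrArg (fun x : O Q => x.1 w) e2

end O

section O

open H30

theorem eichMD (hE : H74.Cks.ExtStmt) {F : Type} {ι : Type} [Fintype ι] [DecidableEq ι] [Field F]
    [Fintype F] (p : ℕ) [Fact p.Prime] [CharP F p]
    {Q : QuadraticForm F (ι → F)} {hQ : (polarBilin Q).Nondegenerate} {n k : ℕ}
    (Fr : Frame (ofQuad Q hQ) n) (hA : Fr.Aniso) (h2 : Fintype.card ι = 2 * n + k) (hk : k ≤ 2)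
    (h3 : 3 ≤ n) :
    (k ≠ 0 → Has (POmega F ⇑Q) p n (tm n parA (n - 1))
      (qC n (Fintype.card F) (Fintype.card F ^ k))) ∧
    (k = 0 → Has (POmega F ⇑Q) p n (tm n (parD n) 0) fun _ => Fintype.card F) := by
  have := isSimpleGroup_POmega hQ (by omega)
  have : Finite ((ι → F) ≃ₗ[F] (ι → F)) := Finite.of_injective _ DFunLike.coe_injective
  have hV : finrank F (ι → F) = 2 * n + k := by rw [finrank_pi', h2]
  have h0 : finrank F Fr.V0 = k := by have := Fr.finrank_V0; omega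
  obtain ⟨M, e, hab, h, h', -⟩ := frameMD hA (quad_hd Fr) (quad_hd' Fr) (eichIncl Q)
    eichIncl_injective (range_eichIncl hQ) (by omega) (Or.inr h3) (quad_bcl Fr) p
    (quad_hV Fr (by omega) _) (quad_comm Fr hA (by omega))
  let f := pomegaEquivEich hQ (not_isExc_of_finrank (by omega)) (by omega)
  have := Finite.of_equiv _ f.symm.toEquiv
  rw [show (ofQuad Q hQ).Λ = ⊥ from rfl, AddSubgroup.card_bot, mul_one,
    Module.natCard_eq_pow_finrank (K := F) (V := Fr.V0), h0, Nat.card_eq_fintype_card] at h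
  rw [Nat.card_eq_fintype_card] at h'
  exact ⟨fun k0 => has_of hE ((h fun e => k0 (by rw [← h0, e, finrank_bot])).ofEquiv f)
      (hab.ofEquiv f),
    fun k0 => has_of hE ((h' (not_not.2 (Submodule.finrank_eq_zero.1 (h0.trans k0)))).ofEquiv f)
      (hab.ofEquiv f)⟩

theorem mdo (hE : H74.Cks.ExtStmt) : MdoStmt := by
  intro F _ _ p _ _
  refine ⟨fun m hm hodd => ?_, fun m hm => ?_, fun m hm a b hab => ?_⟩
  · have h2 := two_ne_zero_iff_odd_card.2 hodd
    have hV : finrank F (Unit ⊕ (Fin m ⊕ Fin m) → F) = 2 * m + 1 := by simp; omega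
    obtain ⟨Fr, -⟩ := Frame.exists_norm (ofQuad _ (qOdd_nondegenerate h2 m)) m (by rw [hV]; rfl)
    have := (eichMD hE p (k := 1) Fr (Fr.aniso_of_finrank hV.le) (by simp; omega) (by omega) hm).1
      one_ne_zero
    rwa [pow_one, qC_self] at this
  · have hV : finrank F (Fin m ⊕ Fin m → F) = 2 * m := by simp; omega
    exact (eichMD hE p (k := 0) (framePlus F m) (Frame.aniso_of_finrank _ (by omega))
      (by simp; omega) (by omega) (by omega)).2 rfl
  · exact (eichMD hE p (k := 2) (frameMinus m (qMinus_nondegenerate m hab))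
      (frameMinus_aniso m _ hab) (by simp; omega) le_rfl hm).1 two_ne_zero

end O

end Cfsg.Agent.H94.CksMda
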