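import Mathlib.GroupTheory.SpecificGroups.Alternating.MaximalSubgroups
import Mathlib.GroupTheory.Sylow
import Mathlib.NumberTheory.Padics.PadicVal.Basic

set_option autoImplicit false
set_option linter.unusedSectionVars false

namespace Cfsg.Agent.H94.AltMin
open Equiv Equiv.Perm MulAction
open scoped Pointwise

variable {α β γ : Type*}

/-- permutations preserving the fibres of `f` -/
def StP (f : α → β) : Subgroup (Perm α) where
  carrier := {g | ∀ x y, f (g x) = f (g y) ↔ f x = f y}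
  mul_mem' := fun {a b} ha hb x y => by
    rw [Perm.mul_apply, Perm.mul_apply, ha, hb]
  one_mem' := fun _ _ => Iff.rfl
  inv_mem' := fun {a} ha x y => by
    rw [← ha]; simp

theorem mem_StP {f : α → β} {g : Perm α} : g ∈ StP f ↔ ∀ x y, f (g x) = f (g y) ↔ f x = f y :=
  Iff.rfl

theorem swap_mem [DecidableEq α] {f : α → β} {a b : α} (h : f a = f b) : swap a b ∈ StP f := by
  have : ∀ x, f (swap a b x) = f x := fun x => by
    rw [swap_apply_def]; split_ifs <;> simp_all
  intro x y; rw [this, this]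

/-- block map -/
def bl (e : α ≃ β × γ) (x : α) : β := (e x).1

/-- shear -/
def sh (e : α ≃ β × γ) (p : Perm β × (β → Perm γ)) : Perm α :=
  e.trans ((Equiv.prodShear p.1 p.2).trans e.symm)

theorem sh_apply (e : α ≃ β × γ) (p : Perm β × (β → Perm γ)) (x : α) :
    e (sh e p x) = (p.1 (e x).1, p.2 (e x).1 (e x).2) := by
  simp [sh, Equiv.prodShear]

theorem sh_mem (e : α ≃ β × γ) (p : Perm β × (β → Perm γ)) : sh e p ∈ StP (bl e) := by
  intro x y
  simp [bl, sh_apply]

theorem card_StP [Finite β] [Finite γ] [Nonempty γ] (e : α ≃ β × γ) :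
    Nat.card (StP (bl e)) = (Nat.card β).factorial * (Nat.card γ).factorial ^ Nat.card β := by
  classical
  obtain ⟨j0⟩ := ‹Nonempty γ›
  have hb : Function.Bijective
      (fun p : Perm β × (β → Perm γ) => (⟨sh e p, sh_mem e p⟩ : StP (bl e))) := by
    constructor
    · intro p q h
      have h1 : ∀ i j, (p.1 i, p.2 i j) = (q.1 i, q.2 i j) := fun i j => by
        have h2 : sh e p = sh e q := congrArg Subtype.val h
        have h3 := sh_apply e p (e.symm (i, j))
        have h4 := sh_apply e q (e.symm (i, j))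
        rw [h2, h4] at h3
        simpa using h3.symm
      refine Prod.ext (Equiv.ext fun i => (Prod.ext_iff.1 (h1 i j0)).1) (funext fun i => Equiv.ext fun j => (Prod.ext_iff.1 (h1 i j)).2)
    · rintro ⟨g, hg⟩
      have h0 : ∀ i j j', (e (g (e.symm (i, j)))).1 = (e (g (e.symm (i, j')))).1 := fun i j j' =>
        (hg _ _).2 (by simp [bl])
      have h1 : Function.Injective fun i : β => (e (g (e.symm (i, j0)))).1 := fun i i' h => by
        have := (hg _ _).1 h
        simpa [bl] using this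
      have h2 : ∀ i : β, Function.Injective fun j : γ => (e (g (e.symm (i, j)))).2 := fun i j j' h => by
        have h3 : e (g (e.symm (i, j))) = e (g (e.symm (i, j'))) := Prod.ext (h0 i j j') h
        simpa using h3
      refine ⟨(Equiv.ofBijective _ (Finite.injective_iff_bijective.1 h1),
        fun i => Equiv.ofBijective _ (Finite.injective_iff_bijective.1 (h2 i))), Subtype.ext ?_⟩
      ext x
      apply e.injective
      show e (sh e _ x) = _
      rw [sh_apply]
      obtain ⟨⟨i, j⟩, rfl⟩ := e.symm.surjective x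
      simp only [Equiv.apply_symm_apply, Equiv.ofBijective_apply]
      exact Prod.ext (h0 i j0 j) rfl
  rw [← Nat.card_eq_of_bijective _ hb, Nat.card_prod, Nat.card_fun, Nat.card_perm, Nat.card_perm]

theorem not_dvd_index {n m d : ℕ} (hd : d = 3 ∨ d = 9) (e : Fin n ≃ Fin m × Fin d) :
    ¬ 3 ∣ (StP (bl e)).index := by
  have : Fact (Nat.Prime 3) := ⟨Nat.prime_three⟩
  have : Nonempty (Fin d) := ⟨⟨0, by omega⟩⟩
  have hn : n = m * d := by simpa using Nat.card_congr e
  have h1 := (StP (bl e)).index_mul_card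
  rw [card_StP, Nat.card_perm] at h1
  simp only [Nat.card_eq_fintype_card, Fintype.card_fin] at h1
  have h0 : (StP (bl e)).index ≠ 0 := Subgroup.index_ne_zero_of_finite
  have h2 := congrArg (padicValNat 3) h1
  rw [padicValNat.mul h0 (by positivity), padicValNat.mul (by positivity) (by positivity),
    padicValNat.pow] at h2
  rw [dvd_iff_padicValNat_ne_zero h0, not_not]
  have a1 : padicValNat 3 (Nat.factorial 1) = 0 := by simp
  have a3 : padicValNat 3 (Nat.factorial 3) = 1 := by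
    have := padicValNat_factorial_mul 1 (p := 3)
    rw [a1] at this; exact this
  have a9 : padicValNat 3 (Nat.factorial 9) = 4 := by
    have := padicValNat_factorial_mul 3 (p := 3)
    rw [a3] at this; exact this
  have b3 := padicValNat_factorial_mul m (p := 3)
  have b9 := padicValNat_factorial_mul (3 * m) (p := 3)
  generalize padicValNat 3 (StP (bl e)).index = t at h2 ⊢
  rcases hd with rfl | rfl
  · rw [a3, hn, mul_comm m 3, b3] at h2; omega
  · rw [a9, hn, show m * 9 = 3 * (3 * m) by ring, b9, b3] at h2; omega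

theorem exists_part {n m d : ℕ} (hd : d = 3 ∨ d = 9) (hn : n = m * d)
    (S : Subgroup (alternatingGroup (Fin n))) (hS : IsPGroup 3 S) :
    ∃ e : Fin n ≃ Fin m × Fin d, ∀ s ∈ S, (s : Perm (Fin n)) ∈ StP (bl e) := by
  have : Fact (Nat.Prime 3) := ⟨Nat.prime_three⟩
  let e0 : Fin n ≃ Fin m × Fin d := (finCongr hn).trans finProdFinEquiv.symm
  have hT : IsPGroup 3 (S.map (alternatingGroup (Fin n)).subtype) := hS.map _
  obtain ⟨q, hq⟩ := hT.nonempty_fixed_point_of_prime_not_dvd_card (Perm (Fin n) ⧸ StP (bl e0))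
    (not_dvd_index hd e0)
  obtain ⟨g, rfl⟩ := QuotientGroup.mk_surjective q
  refine ⟨(g⁻¹ : Perm (Fin n)).trans e0, fun s hs x y => ?_⟩
  have h1 := hq ⟨s, s, hs, rfl⟩
  have h2 : ((s : Perm (Fin n)) * g : Perm (Fin n) ⧸ StP (bl e0)) = (g : Perm (Fin n) ⧸ StP (bl e0)) := h1
  have h3 := QuotientGroup.eq.1 h2.symm
  have h4 := h3 (g⁻¹ x) (g⁻¹ y)
  simpa [bl] using h4

section blocks
variable [Fintype α] [DecidableEq α]

theorem mv (e : α ≃ β × γ) (y z : α) : ∃ g ∈ StP (bl e), g y = z ∧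
    ∀ x, bl e x ≠ bl e y → bl e x ≠ bl e z → g x = x := by
  classical
  refine ⟨sh e (swap (e y).1 (e z).1, fun i => if i = (e y).1 then swap (e y).2 (e z).2 else 1),
    sh_mem _ _, e.injective ?_, fun x h1 h2 => e.injective ?_⟩
  · rw [sh_apply]; simp
  · rw [sh_apply]
    simp only [bl] at h1 h2
    simp [h1, swap_apply_of_ne_of_ne h1 h2]

theorem three {m d : ℕ} (hd : 3 ≤ d) (e : α ≃ Fin m × Fin d) (x : α) :
    ∃ u v, u ≠ v ∧ u ≠ x ∧ v ≠ x ∧ bl e u = bl e x ∧ bl e v = bl e x := by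
  obtain ⟨a, b, hab, ha, hb⟩ : ∃ a b : Fin d, a ≠ b ∧ a ≠ (e x).2 ∧ b ≠ (e x).2 := by
    by_cases h0 : ((e x).2 : ℕ) = 0
    · exact ⟨⟨1, by omega⟩, ⟨2, by omega⟩, by simp, by simp [Fin.ext_iff, h0], by simp [Fin.ext_iff, h0]⟩
    by_cases h1 : ((e x).2 : ℕ) = 1
    · exact ⟨⟨0, by omega⟩, ⟨2, by omega⟩, by simp, by simp [Fin.ext_iff, h1], by simp [Fin.ext_iff, h1]⟩
    · exact ⟨⟨0, by omega⟩, ⟨1, by omega⟩, by simp, by simp [Fin.ext_iff]; omega, by simp [Fin.ext_iff]; omega⟩
  refine ⟨e.symm ((e x).1, a), e.symm ((e x).1, b), by simpa using hab, fun h => ha ?_, fun h => hb ?_,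
    by simp [bl], by simp [bl]⟩
  · rw [← h]; simp
  · rw [← h]; simp

theorem other {m d : ℕ} (hm : 2 ≤ m) (hd : 3 ≤ d) (e : α ≃ Fin m × Fin d) (x : α) :
    ∃ z, bl e z ≠ bl e x := by
  have : Nontrivial (Fin m) := Fin.nontrivial_iff_two_le.2 hm
  obtain ⟨i, hi⟩ := exists_ne (bl e x)
  exact ⟨e.symm (i, ⟨0, by omega⟩), by simpa [bl] using hi⟩

theorem fix2 {m d : ℕ} (hm : 2 ≤ m) (hd : 3 ≤ d) (e : α ≃ Fin m × Fin d) (x y : α) :
    ∃ u v, u ≠ v ∧ bl e u = bl e v ∧ x ≠ u ∧ x ≠ v ∧ y ≠ u ∧ y ≠ v := by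
  by_cases h : bl e x = bl e y
  · obtain ⟨z, hz⟩ := other hm hd e x
    obtain ⟨u, v, h1, -, -, h2, h3⟩ := three hd e z
    refine ⟨u, v, h1, h2.trans h3.symm, ?_, ?_, ?_, ?_⟩ <;> rintro rfl <;> simp_all
  · obtain ⟨u, v, h1, h4, h5, h2, h3⟩ := three hd e x
    refine ⟨u, v, h1, h2.trans h3.symm, h4.symm, h5.symm, ?_, ?_⟩ <;> rintro rfl <;> simp_all

/-- the even part -/
def St (f : α → β) : Subgroup (alternatingGroup α) := (StP f).subgroupOf _

theorem lift2 {m d : ℕ} (hm : 2 ≤ m) (hd : 3 ≤ d) (e : α ≃ Fin m × Fin d) {g : Perm α}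
    (hg : g ∈ StP (bl e)) (x y : α) : ∃ h ∈ St (bl e), h • x = g x ∧ h • y = g y := by
  rcases Int.units_eq_one_or (sign g) with h | h
  · exact ⟨⟨g, h⟩, hg, rfl, rfl⟩
  · obtain ⟨u, v, h1, h2, h3, h4, h5, h6⟩ := fix2 hm hd e x y
    refine ⟨⟨g * swap u v, by simp [h, h1]⟩, (StP _).mul_mem hg (swap_mem h2), ?_, ?_⟩
    · show g (swap u v x) = _
      rw [swap_apply_of_ne_of_ne h3 h4]
    · show g (swap u v y) = _
      rw [swap_apply_of_ne_of_ne h5 h6]

theorem blk {m d : ℕ} (hm : 2 ≤ m) (hd : 3 ≤ d) (e : α ≃ Fin m × Fin d)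
    {M : Subgroup (alternatingGroup α)} (hM : St (bl e) ≤ M) {B : Set α} (hB : IsBlock M B)
    {g : Perm α} (hg : g ∈ StP (bl e)) {x y : α} (hx : x ∈ B) (hy : y ∈ B) (h : g x = x) : g y ∈ B := by
  obtain ⟨k, hk, h1, h2⟩ := lift2 hm hd e hg x y
  have h3 : (⟨k, hM hk⟩ : M) • B = B :=
    hB.smul_eq_of_mem hx (by show k • x ∈ B; rw [h1, h]; exact hx)
  rw [← h2, ← h3]
  exact Set.smul_mem_smul_set (a := (⟨k, hM hk⟩ : M)) hy

theorem card_blk {m d : ℕ} (hm : 2 ≤ m) (hd : 3 ≤ d) (e : α ≃ Fin m × Fin d)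
    {M : Subgroup (alternatingGroup α)} (hM : St (bl e) ≤ M) {B : Set α} (hB : IsBlock M B)
    (h1 : ¬ B.Subsingleton) (h2 : B ≠ Set.univ) : B.ncard = d := by
  obtain ⟨x, hx, y, hy, hxy⟩ := Set.not_subsingleton_iff.1 h1
  have key : ∀ x ∈ B, ∀ y ∈ B, bl e x ≠ bl e y → ∀ z, bl e x ≠ bl e z → z ∈ B := by
    intro x hx y hy h z hz
    obtain ⟨g, hg, h3, h4⟩ := mv e y z
    exact h3 ▸ blk hm hd e hM hB hg hx hy (h4 x h hz)
  have same : ∀ x ∈ B, ∀ y ∈ B, bl e x = bl e y := by
    intro x hx y hy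
    by_contra h
    refine h2 (Set.eq_univ_of_forall fun z => ?_)
    by_cases h3 : bl e x = bl e z
    · exact key y hy x hx (Ne.symm h) z (by rw [← h3]; exact Ne.symm h)
    · exact key x hx y hy h z h3
  have hBe : B = e.symm '' ((fun j => (bl e x, j)) '' Set.univ) := by
    ext z
    constructor
    · intro hz
      exact ⟨e z, ⟨(e z).2, trivial, Prod.ext (same x hx z hz) rfl⟩, by simp⟩
    · rintro ⟨_, ⟨j, -, rfl⟩, rfl⟩
      set z := e.symm (bl e x, j) with hz
      have h3 : bl e y = bl e z := by rw [← same x hx y hy]; simp [hz, bl]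
      by_cases h4 : x = z
      · exact h4 ▸ hx
      · have := blk hm hd e hM hB (swap_mem h3) hx hy (swap_apply_of_ne_of_ne hxy h4)
        simpa using this
  rw [hBe, Set.ncard_image_of_injective _ e.symm.injective,
    Set.ncard_image_of_injective _ (fun a b h => (Prod.ext_iff.1 h).2), Set.ncard_univ]
  simp

theorem St_ne_top {m d : ℕ} (hm : 2 ≤ m) (hd : 3 ≤ d) (e : α ≃ Fin m × Fin d) : St (bl e) ≠ ⊤ := by
  intro h
  set x := e.symm (⟨0, by omega⟩, ⟨0, by omega⟩)
  obtain ⟨z, hz⟩ := other hm hd e x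
  obtain ⟨u, v, h1, h4, h5, h2, h3⟩ := three hd e x
  have hu : u ≠ z := by rintro rfl; exact hz h2
  have hv : v ≠ z := by rintro rfl; exact hz h3
  have hx : x ≠ z := by rintro rfl; exact hz rfl
  have h6 : (⟨swap u z * swap u v, by simp [hu, h1]⟩ : alternatingGroup α) ∈ St (bl e) := h ▸ Subgroup.mem_top _
  have h7 := (h6 x v).2 h3.symm
  simp only [Subgroup.coe_subtype, Perm.mul_apply] at h7
  rw [swap_apply_of_ne_of_ne h4.symm h5.symm, swap_apply_of_ne_of_ne h4.symm hx, swap_apply_right,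
    swap_apply_left] at h7
  exact hz h7.symm

theorem trans_of {m d : ℕ} (hm : 2 ≤ m) (hd : 3 ≤ d) (e : α ≃ Fin m × Fin d)
    {M : Subgroup (alternatingGroup α)} (hM : St (bl e) ≤ M) (a b : α) : ∃ g ∈ M, g • a = b := by
  obtain ⟨g, hg, h, -⟩ := mv e a b
  obtain ⟨k, hk, h1, -⟩ := lift2 hm hd e hg a a
  exact ⟨k, hM hk, h1.trans h⟩

theorem top_of {m d m' d' : ℕ} (hm : 2 ≤ m) (hd : 3 ≤ d) (e : α ≃ Fin m × Fin d)
    (hm' : 2 ≤ m') (hd' : 3 ≤ d') (e' : α ≃ Fin m' × Fin d') (hdd : d ≠ d')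
    {M : Subgroup (alternatingGroup α)} (hM : St (bl e) ≤ M) (hM' : St (bl e') ≤ M) : M = ⊤ := by
  have : IsPretransitive M α := ⟨fun a b => by
    obtain ⟨g, hg, h⟩ := trans_of hm hd e hM a b
    exact ⟨⟨g, hg⟩, h⟩⟩
  have hG' : IsPreprimitive M α := by
    apply IsPreprimitive.mk
    intro B hB
    by_contra h
    rw [IsTrivialBlock, not_or] at h
    exact hdd ((card_blk hm hd e hM hB h.1 h.2).symm.trans (card_blk hm' hd' e' hM' hB h.1 h.2))
  set x := e.symm (⟨0, by omega⟩, ⟨0, by omega⟩)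
  obtain ⟨u, v, h1, h4, h5, h2, h3⟩ := three hd e x
  have hg3 := isThreeCycle_swap_mul_swap_same h4.symm h5.symm h1
  rw [eq_top_iff, ← Subgroup.map_subtype_le_map_subtype,
    ← MonoidHom.range_eq_map, Subgroup.range_subtype]
  apply alternatingGroup_le_of_isPreprimitive_of_isThreeCycle_mem _ hg3
  · exact ⟨⟨_, hg3.mem_alternatingGroup⟩,
      hM ((StP _).mul_mem (swap_mem h2.symm) (swap_mem h3.symm)), rfl⟩
  · let φ := (alternatingGroup α).subtype.subgroupMap M
    let f : α →ₑ[φ] α := {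
      toFun := id
      map_smul' _ _ := rfl }
    rwa [← isPreprimitive_congr (f := f) ((alternatingGroup α).subtype.subgroupMap_surjective M)
      Function.bijective_id]

end blocks

theorem small_orbit {G : Type*} [Group G] [MulAction G α] [Finite α] (hG : IsPGroup 3 G)
    (h : ¬ 9 ∣ Nat.card α) : ∃ x : α, Nat.card (orbit G x) = 1 ∨ Nat.card (orbit G x) = 3 := by
  classical
  have : Fact (Nat.Prime 3) := ⟨Nat.prime_three⟩
  by_contra hc
  push Not at hc
  apply h
  have := Fintype.ofFinite (orbitRel.Quotient G α)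
  rw [Nat.card_congr (selfEquivSigmaOrbits G α), Nat.card_sigma]
  refine Finset.dvd_sum fun ω _ => ?_
  obtain ⟨k, hk⟩ := hG.card_orbit ω.out
  have h1 := hc ω.out
  rw [hk] at h1 ⊢
  rcases k with _ | _ | k
  · simp at h1
  · simp at h1
  · exact ⟨3 ^ k, by ring⟩

theorem le_stab {G : Type*} [Group G] [MulAction G α] (S : Subgroup G) (x : α) :
    S ≤ stabilizer G (orbit S x) := fun s hs => by
  rw [mem_stabilizer_iff]
  exact smul_orbit (⟨s, hs⟩ : S) x

theorem main {n : ℕ} (hn : 5 ≤ n) (S M : Subgroup (alternatingGroup (Fin n))) (hS : IsPGroup 3 S)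
    (hM : M ≠ ⊤) (hle : ∀ K, S ≤ K → K ≠ ⊤ → K ≤ M) :
    n = 6 ∨ n = 9 ∨ ∃ a : ℕ, 2 ≤ a ∧ n = 3 ^ a + 1 := by
  have : Fact (Nat.Prime 3) := ⟨Nat.prime_three⟩
  by_cases hf : (fixedPoints S (Fin n)).Nonempty
  · obtain ⟨x, hx⟩ := hf
    have : Nontrivial (Fin n) := Fin.nontrivial_iff_two_le.2 (by omega)
    obtain ⟨y, hy⟩ := exists_ne x
    have hxy : x ∉ orbit S y := by
      rintro ⟨s, hs⟩
      apply hy
      have h1 : s • y = x := hs
      rw [← inv_smul_smul s y, h1, hx]
    by_cases hz : ∀ z, z ≠ x → z ∈ orbit S y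
    · obtain ⟨a, ha⟩ := hS.card_orbit y
      have h1 : orbit S y = {x}ᶜ := by
        ext z
        exact ⟨fun h h' => hxy (h' ▸ h), fun h => hz z h⟩
      have h2 := Set.ncard_add_ncard_compl ({x} : Set (Fin n))
      rw [← h1, ← Nat.card_coe_set_eq (orbit S y), ha] at h2
      simp only [Set.ncard_singleton, Nat.card_eq_fintype_card, Fintype.card_fin] at h2
      refine Or.inr (Or.inr ⟨a, ?_, by omega⟩)
      by_contra h3
      have : a ≤ 1 := by omega
      interval_cases a <;> omega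
    · exfalso
      push Not at hz
      obtain ⟨z, hz1, hz2⟩ := hz
      have c1 := alternatingGroup.isCoatom_stabilizer_singleton (α := Fin n) (by simp; omega)
        (s := {x}) (Set.singleton_nonempty x) Set.subsingleton_singleton
      have h1 : S ≤ stabilizer (alternatingGroup (Fin n)) ({x} : Set (Fin n)) := fun s hs => by
        rw [stabilizer_singleton, mem_stabilizer_iff]
        exact hx ⟨s, hs⟩
      have h2 : M = stabilizer (alternatingGroup (Fin n)) ({x} : Set (Fin n)) :=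
        ((c1.le_iff_eq hM).1 (hle _ h1 c1.1))
      have h3 := hle _ (le_stab S y) (alternatingGroup.stabilizer_ne_top ⟨y, mem_orbit_self y⟩
        ⟨x, hxy, z, hz2, hz1.symm⟩)
      obtain ⟨g, hg, h4⟩ := alternatingGroup.exists_mem_stabilizer_smul_eq (α := Fin n) (by simp; omega)
        (t := (orbit S y)ᶜ) x hxy z hz2
      rw [stabilizer_compl] at hg
      have h5 := h3 hg
      rw [h2, stabilizer_singleton, mem_stabilizer_iff] at h5
      exact hz1 (h4.symm.trans h5)
  · have h3 : 3 ∣ n := by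
      by_contra h
      exact hf (hS.nonempty_fixed_point_of_prime_not_dvd_card (Fin n) (by simpa using h))
    obtain ⟨m, hm⟩ := h3
    have hm2 : 2 ≤ m := by omega
    obtain ⟨e, he⟩ := exists_part (m := m) (d := 3) (Or.inl rfl) (by omega) S hS
    have hM1 : St (bl e) ≤ M := hle _ he (St_ne_top hm2 le_rfl e)
    by_cases h9 : 9 ∣ n
    · obtain ⟨m', hm'⟩ := h9
      by_cases h1 : m' = 1
      · right; left; omega
      · exfalso
        have hm2' : 2 ≤ m' := by omega
        obtain ⟨e', he'⟩ := exists_part (m := m') (d := 9) (Or.inr rfl) (by omega) S hS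
        exact hM (top_of hm2 le_rfl e hm2' (by norm_num) e' (by norm_num) hM1
          (hle _ he' (St_ne_top hm2' (by norm_num) e')))
    · left
      by_contra h6
      obtain ⟨x, hx | hx⟩ := small_orbit (α := Fin n) hS (by simpa using h9)
      · apply hf
        refine ⟨x, fun s => ?_⟩
        have h1 := (Nat.card_eq_one_iff_unique.1 hx).1
        exact congrArg Subtype.val (Subsingleton.elim (⟨s • x, mem_orbit x s⟩ : orbit S x) ⟨x, mem_orbit_self x⟩)
      · rw [Nat.card_coe_set_eq] at hx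
        have h2 := Set.ncard_add_ncard_compl (orbit S x)
        simp only [Nat.card_eq_fintype_card, Fintype.card_fin] at h2
        obtain ⟨b, hb⟩ : (orbit S x)ᶜ.Nonempty := by
          rw [← Set.ncard_pos]; omega
        have c1 := alternatingGroup.isCoatom_stabilizer (α := Fin n) (s := orbit S x)
          ⟨x, mem_orbit_self x⟩ ⟨b, hb⟩ (by simp [hx]; omega)
        have h4 : M = stabilizer (alternatingGroup (Fin n)) (orbit S x) :=
          ((c1.le_iff_eq hM).1 (hle _ (le_stab S x) c1.1))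
        obtain ⟨g, hg, h5⟩ := trans_of hm2 le_rfl e hM1 x b
        rw [h4, mem_stabilizer_iff] at hg
        apply hb
        rw [← hg, ← h5]
        exact Set.smul_mem_smul_set (mem_orbit_self x)

end Cfsg.Agent.H94.AltMin
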