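import Cfsg.Agent.H17.KnDefs
import Cfsg.Agent.S2601
import Cfsg.Agent.S2064

/-!
# Groups between `GL₅(2)` or `M₂₄` and the automorphism group
-/

set_option autoImplicit false

namespace Cfsg.Agent.H94.KnR4l

open Subgroup Matrix Cfsg.Agent.H17.Kn Cfsg.Agent.H63

universe u

theorem gen {G : Type u} [Group G] [Finite G] (X : Subgroup G) [X.Normal] (hC : C[X] = ⊥)
    (h : Nat.card (Out X) ≤ 2) : X = ⊤ ∨ Nat.card (Out X) = 2 ∧ Nonempty (G ≃* MulAut X) := by
  have inj : Function.Injective (MulAut.conjNormal : G →* MulAut X) :=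
    (injective_iff_map_eq_one _).2 fun g e => mem_bot.1 (hC ▸ fun x hx => by
      have := congrArg (fun β : MulAut X => (β ⟨x, hx⟩ : G)) e
      simp only [MulAut.conjNormal_apply, MulAut.one_apply] at this
      exact (mul_inv_eq_iff_eq_mul.1 this).symm)
  have k : ∀ x : X, MulAut.conjNormal (x : G) = MulAut.conj x := fun x => by ext y; simp
  have le : Inn X ≤ (MulAut.conjNormal : G →* MulAut X).range := by
    rintro _ ⟨x, rfl⟩; exact ⟨x, k x⟩
  have e : _ = Nat.card (Out X) := relIndex_mul_index le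
  have e0 : 0 < Nat.card (Out X) := Nat.card_pos
  by_cases r : (Inn X).relIndex (MulAut.conjNormal : G →* MulAut X).range = 1
  · refine Or.inl (eq_top_iff.2 fun g _ => ?_)
    obtain ⟨x, e⟩ := relIndex_eq_one.1 r ⟨g, rfl⟩
    exact inj ((k x).trans e) ▸ x.2
  · have i1 : (MulAut.conjNormal : G →* MulAut X).range.index = 1 := by
      rw [← e] at h e0
      have h1 := Nat.pos_of_mul_pos_left e0
      have h2 := Nat.pos_of_mul_pos_right e0
      nlinarith [show 2 ≤ (Inn X).relIndex (MulAut.conjNormal : G →* MulAut X).range by omega]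
    rw [i1] at e
    exact Or.inr ⟨by omega,
      ⟨MulEquiv.ofBijective _ ⟨inj, MonoidHom.range_eq_top.1 (index_eq_one.1 i1)⟩⟩⟩

theorem sl_gl (n : ℕ) : Nonempty (SpecialLinearGroup (Fin n) (ZMod 2) ≃* GL (Fin n) (ZMod 2)) :=
  ⟨MulEquiv.ofBijective SpecialLinearGroup.toGL ⟨SpecialLinearGroup.toGL_injective, fun A =>
    ⟨⟨A, (by decide : ∀ r : ZMod 2, r ≠ 0 → r = 1) _ A.det_ne_zero⟩, Units.ext rfl⟩⟩⟩

theorem out_gl : Nat.card (Out (GL (Fin 5) (ZMod 2))) = 2 := by
  have cen : center (SpecialLinearGroup (Fin 5) (ZMod 2)) = ⊥ := eq_bot_iff.2 fun A hA => by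
    obtain ⟨r, hr, hA⟩ := Matrix.SpecialLinearGroup.mem_center_iff.1 hA
    have : r = 1 := by
      clear hA; revert r; simp only [Fintype.card_fin]; decide
    exact Subtype.ext (by rw [← hA, this, map_one]; rfl)
  have e1 : SpecialLinearGroup (Fin 5) (ZMod 2) ≃* ProjectiveSpecialLinearGroup (Fin 5) (ZMod 2) :=
    MulEquiv.ofBijective (QuotientGroup.mk' _) ⟨(MonoidHom.ker_eq_bot_iff _).1
      ((QuotientGroup.ker_mk' _).trans cen), QuotientGroup.mk'_surjective _⟩
  obtain ⟨e2⟩ := sl_gl 5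
  obtain ⟨φ, h1, -, h2⟩ := S2601.result (F := ZMod 2) (p := 2) (f := 1) (n := 5) le_rfl (ZMod.card 2)
    (by norm_num)
  rw [H42.card_Out_congr (e2.symm.trans e1), ← card_mul_index φ.ker, h2, index_ker,
    MonoidHom.range_eq_top.2 h1]
  simp

theorem r4l : R4lStmt.{u} := by
  rintro G _ _ X hX hC (⟨⟨e⟩⟩ | ⟨⟨e⟩⟩)
  · rcases gen X hC ((H42.card_Out_congr e).trans out_gl).le with rfl | ⟨-, ⟨f⟩⟩
    · exact Or.inl (Or.inl ⟨topEquiv.symm.trans e⟩)
    · exact Or.inr ⟨f.trans (MulAut.congr e)⟩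
  · have k := (H42.card_Out_congr e).trans S2064.result
    rcases gen X hC (by omega) with rfl | ⟨k', -⟩
    · exact Or.inl (Or.inr ⟨topEquiv.symm.trans e⟩)
    · omega

end Cfsg.Agent.H94.KnR4l
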