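import Mathlib
import Cfsg.Agent.H94.FiMod

/-! `U₄(2) = Ω₅(3)` for the models of Fischer sets. -/

set_option autoImplicit false

namespace Cfsg.Agent.H94

open Cfsg Module H50
open H28 (K4 card_K4 dec4)
open scoped H28

universe u

def tabA : ℕ := 0xa91a6294a499166194668962649524a51962549495156154568561645516a168661586916465154401a91a499164a5194951540101010100
def tabU : ℕ := 0x59fdd5755da99565114114440d0990d0f9adb5e57ddd99699d6de9b984248121f5edbd79d931c134c4a5550550
def tabT : ℕ := 0x2c06aa429e18a48e59837d149c3061cf4082544dd79760b29b38d55665a144828ac006baa9a028e49668a18034d431b10528b34e75e4912485567176103c719969f9ec02caea0218c29649e2a114c37451da30e2102947d28162d82593d53576c67047a6069b2b0298a49829e3a2149478310631924d2cf7d38112952176964183876c571d941a82ae18a80669648e9aa030a2c36cd3935041576071903d969f75e24849155672c9c0b028e40679a5a6a8a131f2097033d018745214455665a38d80b29d7976144dbae80218c2a689e6024ae2b092de30d3c36521141961d81506ce71d7ca8084d54576aa0658a4a82a27025ae3b2120a31d3906831511d3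1951176cf70d78b7c9816518499a419ac96a9e8a66ae400184f14e1932522835d631471a2d081e1d54596c835d7c46028a3b269e9a2aae50238814041cd5082d160331571329980f19d59a4896de3857d70a1925aeaa299e6b018e200735010b45421830355a2526de14e7d770a4d98063dd5829219aba29aa7b2590102118e14f2922533175832196d111d7cd60b71a50781e4150a3883ad14a830920f4071a005e7426d55985d96944e9aa39041672ca9a58a134eb1c7c0b034d43272ca14434e05f79d7025d865a595a6a491187862a2694920f4248eb6e00114c3a4a22630e1d01607de0155c26586d6714ad2b221241a52e82678cd84fa9a05d494a832c932518d10f81f01d5986826d7715ad3b111611e39a82a720e9108a96417ac3051039cd39350b2827d559c05a6585dd7a39082503e59ab8a14521c6aa9a206c032b1c6a033d02484528025d805b69975e59528b86296638db135248eaa451277dc00612a30d3c39522d42555c275c6da0187d68222242909cea298d18531ec16b99e0591c532939098329121359878271b0197d78152612e39cfa0da929148ac1ab12574168f28e2531921438e232065e6dc75a7d8001554a26110b2a2212eba4d1e795190259740b20d50711190332181a6dd71e7d9017581a13165b0f2698ab28eaa71929a30956083502c44541e43038597de71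d6da8015d60261929ea28eae3a4f26c95316888261524e28f15219332388369f71d79b8196010151e59d12e9acd910aac2149a81210975ac76a7d71561a471a220a5eae32a2258a261d40014423ce30d2db6615659c40d0493b1e7e96041d572325982aadd90b221a171a501348140230d39b2a26a65859c33d151daea80755811a2a26e97deb088642e61569c14d201030234f66325ca065e50ce5117ab8291961572d96e1a9fb1d2622a31259d550101130f38242469c207a266033534972562a86666e481e1231a215c95a9d8b2a2c24d2310001351569ac81df7610d438f6082d5a1a6e582315d9071217269d9b172a950231100f3814aa589adf1a27834cd40b5582199e671e1a27c48641e56daa2a256ad43024413ce013b0a5e97631600d240d2962576a77251dd7e11621a399ba19229ad531348240100d50bb2a6247a010344f39b71969f81d795597627a259abb29aa18a390d38f41149350c2ca2481c61440c20403973d67677e545a7218267a88938d262ba5051b66456ab0d30b0012021850c41c928d61541e9e67d94a272096876151192b5cfa9b4e36a958eb0c00a2411c20c414620b550358a1d8256e34da99f7a7464854a4e5ac66249cacf5ea3012890070c210614b2163d73a87a68246d95257e77528d388daac56169c450ae960c2c10080c61421c428966b6e94974d63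5e82188f8ce72a6ac627954566a1141f7643022890c70011082c519aaea6d161551d3a282140d91ca6c6675d39a5592a1f3e378c2c20c800614124a107b197295544587e33de364850a9b6ab9525a89d35e67623a030b0c220118500a24712c6aa7164d74a47dd40e8cf8a96eb6519a85549e56217a034c0ca2421c10042c818581f79d71b699617595b2baa9a279a59238a151349140f38d3041461c824a2c30810289e696caeaa648e285c6da6607de7585d65503ce3544d244c1c61442ca2480c2040aecaa99e89a58a19237e079d6dc69959561749151338d40f30920b28510718308102cae9aa89e59a39218a07dd79c6d969761559351148f40d38c28b2091871050c2040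

def vA (i : Fin 45) : Fin 5 → F3 := fun k => ((tabA >>> (10 * i.val + 2 * k.val)) % 4 : ℕ)
def vU (i : Fin 45) : Fin 4 → K4 := fun k => dec4 (tabU >>> (8 * i.val + 2 * k.val))
def opT (i j : Fin 45) : Fin 45 := Fin.ofNat 45 ((tabT >>> (6 * (45 * i.val + j.val))) % 64)

def hU (x y : Fin 4 → K4) : K4 := x 0 ^ 2 * y 0 + x 1 ^ 2 * y 1 + x 2 ^ 2 * y 2 + x 3 ^ 2 * y 3
def dA (x y : Fin 5 → F3) : F3 := x 0 * y 0 + x 1 * y 1 + x 2 * y 2 + x 3 * y 3 + x 4 * y 4

theorem u_1 : ∀ i, vU i ≠ 0 ∧ hU (vU i) (vU i) = 0 := by decide +kernel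
theorem u_2 : ∀ a b c d : K4, ![a, b, c, d] ≠ 0 → hU ![a, b, c, d] ![a, b, c, d] = 0 →
    ∃ i, ∃ e : K4, e ≠ 0 ∧ vU i = e • ![a, b, c, d] := by decide +kernel
theorem u_3 : ∀ i j, (∃ e : K4, e ≠ 0 ∧ vU i = e • vU j) ↔ i = j := by decide +kernel
theorem u_4 : ∀ i j, ∃ e : K4, e ≠ 0 ∧ vU j + hU (vU i) (vU j) • vU i = e • vU (opT i j) := by
  decide +kernel
theorem a_1 : ∀ i, dA (vA i) (vA i) = 1 := by decide +kernel
theorem a_2 : ∀ a b c d e : F3, dA ![a, b, c, d, e] ![a, b, c, d, e] = 1 →
    ∃ i, ![a, b, c, d, e] = vA i ∨ ![a, b, c, d, e] = -vA i := by decide +kernel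
theorem a_3 : ∀ i j, (vA i = vA j ∨ vA i = -vA j) → i = j := by decide +kernel
theorem a_4 : ∀ i j, vA j + dA (vA i) (vA j) • vA i = vA (opT i j) ∨
    vA j + dA (vA i) (vA j) • vA i = -vA (opT i j) := by decide +kernel

def bA : LinearMap.BilinForm F3 (Fin 5 → F3) :=
  LinearMap.mk₂ F3 dA (fun _ _ _ => by simp only [dA, Pi.add_apply]; ring)
    (fun _ _ _ => by simp only [dA, Pi.smul_apply, smul_eq_mul]; ring)
    (fun _ _ _ => by simp only [dA, Pi.add_apply]; ring)
    (fun _ _ _ => by simp only [dA, Pi.smul_apply, smul_eq_mul]; ring)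

theorem bA_apply (x y : Fin 5 → F3) : bA x y = dA x y := rfl

theorem sp3_bA : Sp3 bA 5 :=
  ⟨inferInstance, by simp, fun u v => by simp only [bA_apply, dA]; ring, fun u hu => by
    funext k
    have := hu (Pi.single k 1)
    fin_cases k <;> simpa [bA_apply, dA] using this⟩

theorem u4 : U4Stmt.{u} := by
  intro G _ E hE
  obtain ⟨V, i1, i2, i3, B, hn, hB, p, hp⟩ := hE
  obtain ⟨β, hβ⟩ := hB.exists_on_basis hn
  have hf : ∀ x y, B (β.equivFun.symm x) (β.equivFun.symm y) = hU x y := fun x y => by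
    rw [hβ.form_equivFun_symm, H31.stdB_apply, Fin.sum_univ_four]; rfl
  have P1 : Param E (Set.univ : Set (Fin 45)) opT Eq (fun i => p (β.equivFun.symm (vU i))) := by
    refine hp.comp (fun i => β.equivFun.symm (vU i)) (fun i _ => ⟨β.equivFun.symm.map_ne_zero_iff.2 (u_1 i).1, by
      rw [hf]; exact (u_1 i).2⟩) (fun v hv => ?_) (fun i _ j _ => ?_) (fun i _ j _ => ?_)
      (fun _ _ _ _ => trivial)
    · obtain ⟨x, rfl⟩ := β.equivFun.symm.surjective v
      have ex : x = ![x 0, x 1, x 2, x 3] := by funext k; fin_cases k <;> rfl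
      obtain ⟨i, e, he, hi⟩ := u_2 (x 0) (x 1) (x 2) (x 3) (by rw [← ex]; exact β.equivFun.symm.map_ne_zero_iff.1 hv.1)
        (by rw [← ex, ← hf]; exact hv.2)
      exact ⟨i, trivial, e, he, by rw [hi, ← ex, map_smul]⟩
    · rw [← u_3]
      refine exists_congr fun e => and_congr_right fun _ => ?_
      rw [← map_smul, β.equivFun.symm.injective.eq_iff]
    · obtain ⟨e, he, hi⟩ := u_4 i j
      exact ⟨e, he, by rw [hf, ← map_smul, ← map_smul, ← map_add, hi]⟩
  have ex : ∀ x : Fin 5 → F3, bA x x = 1 → ∃ i, x = vA i ∨ x = -vA i := fun x hx => by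
    have ex : x = ![x 0, x 1, x 2, x 3, x 4] := by funext k; fin_cases k <;> rfl
    rw [ex] at hx ⊢
    exact a_2 _ _ _ _ _ hx
  choose! φ hφ using ex
  have uq : ∀ x, bA x x = 1 → ∀ i, (x = vA i ∨ x = -vA i) → φ x = i := fun x hx i hi => by
    refine a_3 _ _ ?_
    rcases hφ x hx with e | e <;> rcases hi with e' | e'
    · exact Or.inl (e.symm.trans e')
    · exact Or.inr (e.symm.trans e')
    · exact Or.inr (neg_eq_iff_eq_neg.1 (e.symm.trans e'))
    · exact Or.inl (neg_injective (e.symm.trans e'))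
  refine isQ_of_param sp3_bA (p := fun x => p (β.equivFun.symm (vU (φ x)))) (P1.comp φ (fun _ _ => trivial)
    (fun i _ => ⟨vA i, a_1 i, uq _ (a_1 i) i (Or.inl rfl)⟩) (fun v hv w hw => ⟨fun e => ?_, fun e => ?_⟩)
    (fun v hv w hw => (uq _ ((sp3_bA.op_norm hv).trans hw) _ ?_).symm)
    (fun v hv w hw => (sp3_bA.op_norm hv).trans hw))
  · have h1 := hφ v hv
    have h2 := hφ w hw
    rw [e] at h1
    rcases h1 with a | a <;> rcases h2 with c | c
    · exact Or.inl (a.trans c.symm)
    · exact Or.inr (by rw [a]; nth_rewrite 2 [c]; rw [neg_neg])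
    · exact Or.inr (by rw [a, ← c])
    · exact Or.inl (a.trans c.symm)
  · refine uq v hv _ ?_
    rcases e with rfl | rfl
    · exact hφ v hv
    · rcases hφ w hw with c | c
      · exact Or.inr (congrArg Neg.neg c)
      · exact Or.inl (neg_eq_iff_eq_neg.2 c)
  · have h := a_4 (φ v) (φ w)
    rw [← bA_apply] at h
    have h1 := hφ v hv
    have h2 := hφ w hw
    generalize φ v = i at *
    generalize φ w = j at *
    rcases h1 with rfl | rfl <;> rcases h2 with rfl | rfl
    · exact h
    · rcases h with h | h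
      · exact Or.inr (by rw [← h]; simp [add_comm])
      · exact Or.inl (by rw [← neg_neg (vA (opT i j)), ← h]; simp [add_comm])
    · simpa using h
    · rcases h with h | h
      · exact Or.inr (by rw [← h]; simp [add_comm])
      · exact Or.inl (by rw [← neg_neg (vA (opT i j)), ← h]; simp [add_comm])

end Cfsg.Agent.H94
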