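import Mathlib
import Cfsg.Agent.H94.BenderIso
import Cfsg.Agent.H94.BinarySz
import Cfsg.Agent.H94.BinaryU3
import Cfsg.Agent.H87.GoldFacts
import Cfsg.Agent.S5736

/-!
Binary coset actions of simple groups with one class of involutions.
-/

set_option autoImplicit false

namespace Cfsg.Agent.H94

open Cfsg.Agent.H29 Cfsg.Agent.H87 Cfsg.Agent.H31 MulAction
open scoped MatrixGroups

variable {G Γ : Type*} [Group G] [Group Γ] {H : Subgroup G}

lemma isBinary_comap (h : IsBinary G (G ⧸ H)) {φ : Γ →* G} (hφ : Function.Surjective φ) :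
    IsBinary Γ (Γ ⧸ H.comap φ) := by
  intro n I J hn hp
  choose a ha using fun i => QuotientGroup.mk_surjective (I i)
  choose b hb using fun i => QuotientGroup.mk_surjective (J i)
  have key : ∀ (g : Γ) i, g • I i = J i ↔ φ g • (φ (a i) : G ⧸ H) = (φ (b i) : G ⧸ H) :=
    fun g i => by
      rw [← ha, ← hb, smul_coe_eq_iff, smul_coe_eq_iff, Subgroup.mem_comap, map_mul, map_mul,
        map_inv]
  obtain ⟨g, hg⟩ := h n (fun i => (φ (a i) : G ⧸ H)) (fun i => (φ (b i) : G ⧸ H)) hn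
    fun i j hij => by
      obtain ⟨g, h1, h2⟩ := hp i j hij
      exact ⟨φ g, (key g i).1 h1, (key g j).1 h2⟩
  obtain ⟨g, rfl⟩ := hφ g
  exact ⟨g, fun i => (key g i).2 (hg i)⟩

variable [Finite G]

omit [Finite G] in
lemma isBinary_of_omega (hT : TI2 G) (P : Sylow 2 G)
    (hH : ∀ x, x ∈ H ↔ x ∈ (P : Subgroup G) ∧ x * x = 1) : IsBinary G (G ⧸ H) := by
  refine isBinary_of fun x1 x2 x3 s t hs ht a1 a2 a3 g hg => ?_
  have sq : ∀ {x y : G}, x⁻¹ * y * x ∈ H → y * y = 1 := fun {x y} h => by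
    have := ((hH _).1 h).2
    calc y * y = x * (x⁻¹ * y * x * (x⁻¹ * y * x)) * x⁻¹ := by group
      _ = 1 := by rw [this]; group
  have e := sq a3
  have e1 := sq a1
  have e2 := sq a2
  have hc : t * s = s * t := by
    rw [inv_eq_of_mul_eq_one_right e1] at e
    calc t * s = s * (s * t * (s * t)) * t := by
          calc _ = (s * s) * t * s * (t * t) := by rw [e1, e2]; group
            _ = _ := by group
      _ = _ := by rw [e, mul_one]
  obtain ⟨Q, hQ⟩ := (H10.isPGroup_closure_pair e1 e2 hc.symm).exists_le_sylow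
  have key : ∀ {x y : G}, x⁻¹ * y * x ∈ H → y ≠ 1 → y ∈ (Q : Subgroup G) → Q = x • P :=
    fun {x y} h h1 hy => hT _ _ fun e => h1 (Subgroup.mem_bot.1
      (e ▸ Subgroup.mem_inf.2 ⟨hy, H10.mem_smul_sylow.2 ((hH _).1 h).1⟩))
  have h1 := key a1 hs (hQ (Subgroup.subset_closure (by simp)))
  have h2 := key a2 ht (hQ (Subgroup.subset_closure (by simp)))
  refine (hH _).2 ⟨H10.mem_smul_sylow.1 (h2 ▸ h1 ▸ H10.mem_smul_sylow.2 ((hH _).1 hg).1), ?_⟩
  calc _ = x2⁻¹ * (g * g) * x2 := by group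
    _ = 1 := by rw [sq hg]; group

omit [Finite G] in
lemma hconj_of (hone : ∀ s t : G, orderOf s = 2 → orderOf t = 2 → IsConj s t) (s t : G)
    (hs1 : s ≠ 1) (ht1 : t ≠ 1) (hs : s * s = 1) (ht : t * t = 1) : IsConj s t :=
  hone s t (H10.orderOf_eq_two_of hs hs1) (H10.orderOf_eq_two_of ht ht1)

lemma omega_psu3 {F : Type*} [Field F] [Fintype F] {n : ℕ} (hF : Fintype.card F = (2 ^ n) ^ 2)
    (e : G ≃* PSU 3 F (2 ^ n)) (P : Sylow 2 G) (x : G) :
    x ∈ (Subgroup.center (P : Subgroup G)).map (P : Subgroup G).subtype ↔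
      x ∈ (P : Subgroup G) ∧ x * x = 1 := by
  have h2 : (2 : F) = 0 := two_eq_zero_of_card (hF.trans (pow_mul 2 n 2).symm)
  have : Finite (PSU 3 F (2 ^ n)) := Finite.of_equiv _ e.toEquiv
  obtain ⟨T⟩ : Nonempty (Sylow 2 (PSU 3 F (2 ^ n))) := inferInstance
  obtain ⟨e1⟩ := sylow_equiv_of_equiv e P T
  obtain ⟨e2⟩ := nonempty_sylow_psu3_equiv rfl hF T
  have key : ∀ y : (P : Subgroup G), y ∈ Subgroup.center (P : Subgroup G) ↔ y ^ 2 = 1 := fun y => by
    rw [← (e1.trans e2).map_eq_one_iff, map_pow, heis_sq h2, ← Heis.mem_center_iff,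
      Subgroup.mem_center_iff, Subgroup.mem_center_iff]
    refine ⟨fun h g => ?_, fun h g => (e1.trans e2).injective (by rw [map_mul, map_mul, h])⟩
    obtain ⟨g, rfl⟩ := (e1.trans e2).surjective g
    rw [← map_mul, ← map_mul, h]
  constructor
  · rintro ⟨y, hy, rfl⟩
    exact ⟨y.2, by simpa [sq] using congrArg Subtype.val ((key y).1 hy)⟩
  · rintro ⟨h1, h3⟩
    exact ⟨⟨x, h1⟩, (key _).2 (Subtype.ext (by simpa [sq] using h3)), rfl⟩

lemma sq_of_psu3 {F : Type*} [Field F] [Fintype F] {n : ℕ} (hn : 2 ≤ n)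
    (hF : Fintype.card F = (2 ^ n) ^ 2) (e : G ≃* PSU 3 F (2 ^ n)) (h : IsBinary G (G ⧸ H))
    (hne : H ≠ ⊤) (heven : Even (Nat.card H)) : ∀ g ∈ H, g * g = 1 := by
  have h2 : (2 : F) = 0 := two_eq_zero_of_card (hF.trans (pow_mul 2 n 2).symm)
  have : CharP F 2 := CharTwo.of_one_ne_zero_of_two_eq_zero one_ne_zero h2
  obtain ⟨e'⟩ := nonempty_psu3_equiv hF
  set σ := frobQ hF
  have hσ : IsInvol σ := isInvol_frobQ hF
  have hb := exists_fixed_ne (σ := σ) hF (fun _ => rfl) (by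
    have := Nat.pow_le_pow_right (n := 2) (by norm_num) hn
    omega)
  have : Finite (U3.A F) := Finite.of_injective (fun g : U3.A F => (g : (Fin 3 → F) → Fin 3 → F))
    DFunLike.coe_injective
  let φ : sisom (hyp3 σ) →* G :=
    (e'.trans e.symm).toMonoidHom.comp (QuotientGroup.mk' (Subgroup.center _))
  have hφ : Function.Surjective φ :=
    (e'.trans e.symm).surjective.comp (QuotientGroup.mk'_surjective _)
  have hB := isBinary_comap h hφ
  set H' := H.comap φ with hH'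
  have hmem : ∀ g : sisom (hyp3 σ), g.1 ∈ H'.map (sisom (hyp3 σ)).subtype ↔ g ∈ H' := fun g =>
    Subgroup.mem_map_iff_mem Subtype.val_injective
  have hle : H'.map (sisom (hyp3 σ)).subtype ≤ sisom (hyp3 σ) := Subgroup.map_subtype_le _
  have hP : U3.BinP σ (H'.map (sisom (hyp3 σ)).subtype) := ⟨hle, by
    intro x0 h0 x1 h1 x2 h2 x3 h3 s t a0 a1 a2 a3
    have hs : s ∈ sisom (hyp3 σ) := by
      simpa [mul_assoc] using mul_mem (mul_mem h1 (hle a1)) (inv_mem h1)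
    have ht : t ∈ sisom (hyp3 σ) := by
      simpa [mul_assoc] using mul_mem (mul_mem h2 (hle a2)) (inv_mem h2)
    obtain ⟨f, b0, b1, b2, b3⟩ := bin_four hB ⟨x0, h0⟩ ⟨x1, h1⟩ ⟨x2, h2⟩ ⟨x3, h3⟩ ⟨s, hs⟩ ⟨t, ht⟩
      ((hmem _).1 a0) ((hmem _).1 a1) ((hmem _).1 a2) ((hmem _).1 a3)
    exact ⟨f, (hmem _).2 b0, (hmem _).2 b1, (hmem _).2 b2, (hmem _).2 b3⟩⟩
  obtain ⟨s, hs, hs2⟩ : ∃ s ∈ H', orderOf s = 2 := by
    obtain ⟨s, hs, hs2⟩ := H10.even_card_iff.1 heven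
    obtain ⟨s, rfl⟩ := hφ s
    exact H10.even_card_iff.1 (even_iff_two_dvd.2 ((hs2 ▸ orderOf_map_dvd φ s).trans
      (H'.orderOf_dvd_natCard hs)))
  have hs1 := H10.ne_one_of_orderOf_two hs2
  have hss := H10.mul_self_of_orderOf_two hs2
  have hinv : ∀ s : sisom (hyp3 σ), s ≠ 1 → s * s = 1 →
      ∃ k ∈ sisom (hyp3 σ), s.1 = k * uni3 σ 0 1 * k⁻¹ := fun s h1 h2 =>
    U3.exists_conj_invol hσ s.2 (fun e => h1 (Subtype.ext e)) (congrArg Subtype.val h2)
  obtain ⟨k, hk, ek⟩ := hinv s hs1 hss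
  have hZ : U3.HasZ σ (U3.cj k (H'.map (sisom (hyp3 σ)).subtype)) := fun y hy => by
    have hu := uni3_mem_sisom hσ (U3.fix_iff.2 hy)
    refine (hmem ⟨_, mul_mem (mul_mem hk hu) (inv_mem hk)⟩).2 (bin_inv hB (fun a b a1 b1 a2 b2 => ?_)
      hs hs1 hss (Subtype.ext ?_) (Subtype.ext ?_))
    · obtain ⟨c, hc, ec⟩ := hinv a a1 a2
      obtain ⟨d, hd, ed⟩ := hinv b b1 b2
      refine isConj_iff.2 ⟨⟨d, hd⟩ * ⟨c, hc⟩⁻¹, Subtype.ext ?_⟩
      change d * c⁻¹ * a.1 * (d * c⁻¹)⁻¹ = b.1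
      rw [ec, ed]; group
    · change k * uni3 σ 0 y * k⁻¹ * (k * uni3 σ 0 y * k⁻¹) = 1
      rw [conj_mul, U3.u_mul, CharTwo.add_self_eq_zero, CharTwo.add_self_eq_zero, mul_zero,
        add_zero, uni3_zero]
      group
    · change s.1 * (k * uni3 σ 0 y * k⁻¹) = k * uni3 σ 0 y * k⁻¹ * s.1
      rw [ek, conj_mul, conj_mul, U3.u_mul, U3.u_mul, add_comm y]
  intro g hg
  obtain ⟨g, rfl⟩ := hφ g
  obtain ⟨c, hc⟩ := (hP.cj hk).sq_scalar hσ hb (fun hle' => hne (eq_top_iff.2 fun x _ => by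
    obtain ⟨x, rfl⟩ := hφ x
    have := hle' (mul_mem (mul_mem (inv_mem hk) x.2) hk)
    rw [U3.mem_cj] at this
    exact (hmem x).1 (by simpa [mul_assoc] using this))) hZ (g := k⁻¹ * g * k) (by
      rw [U3.mem_cj]
      have := (hmem g).2 hg
      convert this using 1
      group)
  have : g * g ∈ Subgroup.center (sisom (hyp3 σ)) :=
    ((isHerm_hyp3 hσ).mem_center_sisom_iff (by simp)).2 ⟨c, fun v => by
      have := hc (k⁻¹ v)
      have e1 : k⁻¹ * g * k * (k⁻¹ * g * k) = k⁻¹ * (g * g) * k := by group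
      rw [e1, ← map_smul] at this
      exact k⁻¹.injective (by simpa using this)⟩
  rw [← map_mul]
  change (e'.trans e.symm) (QuotientGroup.mk (g * g)) = 1
  rw [(QuotientGroup.eq_one_iff _).2 this, map_one]

lemma eq_of_sq (hone : ∀ s t : G, orderOf s = 2 → orderOf t = 2 → IsConj s t)
    (h : IsBinary G (G ⧸ H)) (heven : Even (Nat.card H)) (hsq : ∀ g ∈ H, g * g = 1) :
    ∃ P : Sylow 2 G, H ≤ P ∧
      ∀ x ∈ (Subgroup.center (P : Subgroup G)).map (P : Subgroup G).subtype, x * x = 1 → x ∈ H := by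
  obtain ⟨s, hs, hs2⟩ := H10.even_card_iff.1 heven
  have hp : IsPGroup 2 H := fun x => ⟨1, Subtype.ext (by simpa [sq] using hsq x x.2)⟩
  obtain ⟨P, hP⟩ := hp.exists_le_sylow
  refine ⟨P, hP, ?_⟩
  rintro _ ⟨y, hy, rfl⟩ hy2
  exact bin_inv h (hconj_of hone) hs (H10.ne_one_of_orderOf_two hs2) (hsq s hs) hy2
    (congrArg Subtype.val (Subgroup.mem_center_iff.1 hy ⟨s, hP hs⟩))

omit [Finite G] in
lemma nonempty_psl_equiv_sl (F : Type*) [Field F] [CharP F 2] : Nonempty (PSL(2, F) ≃* SL(2, F)) := by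
  have : Subgroup.center SL(2, F) = ⊥ := eq_bot_iff.2 fun A hA => by
    obtain ⟨r, hr, e⟩ := Matrix.SpecialLinearGroup.mem_center_iff.1 hA
    have : r = 1 := by
      simp only [Fintype.card_fin] at hr
      grind
    rw [this, map_one] at e
    exact Subgroup.mem_bot.2 (Subtype.ext e.symm)
  exact ⟨(QuotientGroup.quotientMulEquivOfEq this).trans QuotientGroup.quotientBot⟩

end Cfsg.Agent.H94
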