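import Cfsg.Agent.H54.VKit0
import Cfsg.Agent.H79.InvolU
import Cfsg.Agent.H73.GraphForm
import Cfsg.Agent.H27.SympSimple
import Cfsg.Agent.S0247

/-! Project U52: centralizers of outer involutions of `U₅(2)`. -/

set_option autoImplicit false
set_option linter.unusedSectionVars false
set_option linter.style.haveILetI false

namespace Cfsg.Agent.H54V.H94.Cls

open Cfsg Cfsg.Agent.H63 Cfsg.Agent.H63.SL Cfsg.Agent.H34 Cfsg.Agent.H34.TW Cfsg.Agent.H34.UM
  Cfsg.Agent.H31 Subgroup Module
open Cfsg.Agent.H27.End (mem_C comm_of_C is2_of_sq is2_of_mem conj_mem)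
open scoped commutatorElement

universe u v

variable {F E V : Type v} [Field F] [Field E] [AddCommGroup V] [Module E V] {i : F →+* E}
  {σ : E ≃+* E} {B : V →ₛₗ[(σ : E →+* E)] V →ₗ[E] E} {G : Type u} [Group G] {φ : sisom B →* G}
  {L : Subgroup G}

theorem act_mul {g g' : G} {f f' : V ≃+ V} (h : Act φ g f) (h' : Act φ g' f') :
    Act φ (g * g') (f'.trans f) := fun s => by
  obtain ⟨s1, e1, k1⟩ := h' s
  obtain ⟨s2, e2, k2⟩ := h s1
  exact ⟨s2, fun x => by rw [AddEquiv.trans_apply, e2, e1, AddEquiv.trans_apply],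
    by rw [← k2, ← k1]; group⟩

theorem act_inv [Finite V] {g : G} {f : V ≃+ V} (h : Act φ g f) : Act φ g⁻¹ f.symm := fun s => by
  choose T h1 h2 using h
  haveI : Finite (sisom B) := .of_injective (fun s : sisom B => (s.1 : V → V)) fun _ _ e =>
    s_ext (congrFun e)
  obtain ⟨s', rfl⟩ := Finite.surjective_of_injective (f := T) (fun a b e => s_ext fun x =>
    f.injective (by rw [← h1, ← h1, e])) s
  exact ⟨s', fun x => f.injective (by rw [← h1, f.apply_symm_apply, f.apply_symm_apply]),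
    by rw [← h2]; group⟩

theorem act_phi (s : sisom B) : Act φ (φ s) s.1.toAddEquiv := fun s' =>
  ⟨s * s' * s⁻¹, fun x => by
    rw [mul_app, mul_app]; exact congrArg _ (congrArg _ (inv_app s x)), by
    rw [map_mul, map_mul, map_inv]⟩

theorem semi_phi (s : sisom B) : Semi B s.1.toAddEquiv (RingEquiv.refl E) :=
  ⟨fun d x => map_smul s.1 d x, iso_map s⟩

theorem semi_mul {f f' : V ≃+ V} {θ θ' : E ≃+* E} (h : Semi B f θ) (h' : Semi B f' θ') :
    Semi B (f'.trans f) (θ'.trans θ) :=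
  ⟨fun d x => by simp [h.smul, h'.smul], fun x y => by simp [h.form, h'.form]⟩

theorem semi_inv {f : V ≃+ V} {θ : E ≃+* E} (h : Semi B f θ) : Semi B f.symm θ.symm :=
  ⟨fun d x => f.injective (by simp [h.smul]), fun x y => θ.injective (by simp [← h.form])⟩

variable (c : UCtx i φ L)
include c

theorem cent {k : G} {f : V ≃+ V} (h : Act φ k f) {d : E} (hd : d ≠ 0) (e : ∀ x, f x = d • x) :
    k ∈ C[L] := mem_C fun y hy => by
  obtain ⟨s, rfl⟩ := c.surj hy
  obtain ⟨s', h1, h2⟩ := h s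
  have : s' = s := s_ext fun x => smul_right_injective V hd (by
    simpa only [e, map_smul] using h1 x)
  exact mul_inv_eq_iff_eq_mul.1 (this ▸ h2)

theorem nontriv : ∃ x y, B x y = 1 := by
  have : Nontrivial V := Module.nontrivial_of_finrank_pos (R := E) (by have := c.four; omega)
  obtain ⟨x, hx⟩ := exists_ne (0 : V)
  exact ⟨x, c.herm.exists_eq_one hx⟩

variable [FiniteDimensional E V] [Finite E]

/-- An element of `C(L)` acts as a scalar. -/
theorem scal (K : KitA i φ L) {k : G} (hk : k ∈ C[L]) {f : V ≃+ V} {θ : E ≃+* E}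
    (hs : Semi B f θ) (h : Act φ k f) :
    θ = RingEquiv.refl E ∧ ∃ d, d * σ d = 1 ∧ ∀ x, f x = d • x := by
  obtain ⟨ψ, h1, -⟩ := K.out
  have hN := centralizer_le_normalizer _ hk
  have e : θ = RingEquiv.refl E := (h1 ⟨k, hN⟩ f θ hs h).symm.trans (h1 ⟨k, hN⟩ (AddEquiv.refl V) _
    ⟨fun _ _ => rfl, fun _ _ => rfl⟩ fun s => ⟨s, fun _ => rfl,
      mul_inv_eq_iff_eq_mul.2 (comm_of_C hk (c.mem s))⟩)
  subst e
  have sm : ∀ (d : E) x, f (d • x) = d • f x := hs.smul
  have key : ∀ v, B v v = 0 → ∀ x, B v x • f v = B v (f x) • v := fun v hv x => by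
    obtain ⟨s, e1, -⟩ := c.tt hv 1
    obtain ⟨s', e2, e3⟩ := h s
    have s2 := c.tt_sq hv e1
    have : s' = s := c.inj2 (is2_of_sq (s_ext fun y => by
      obtain ⟨y, rfl⟩ := f.surjective y
      rw [mul_app, e2, e2, ← mul_app, s2]; rfl)) (is2_of_sq s2)
      (e3.symm.trans (mul_inv_eq_iff_eq_mul.2 (comm_of_C hk (c.mem s))))
    have e4 := e2 x
    rw [this, e1, e1, map_add, sm, map_one, one_mul, one_mul, add_right_inj] at e4
    exact e4.symm
  obtain ⟨e, he⟩ := c.exists_pt
  obtain ⟨e', he', hee⟩ := c.hyp he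
  have k1 : f e = B e (f e') • e := by simpa [hee] using key e he.1 e'
  generalize B e (f e') = d at k1
  have k2 : ∀ v w, Pt B w → B v v = 0 → f w = d • w → B v w ≠ 0 → f v = d • v :=
    fun v w _ hv hw h0 => smul_right_injective V h0 (by
      have := key v hv w
      rwa [hw, sm_right, mul_comm, mul_smul] at this)
  have pe' : Pt B e' := ⟨he', fun e0 => by simp [e0] at hee⟩
  have k3 : f e' = d • e' := k2 e' e he he' k1 (by simp [c.flip1 hee])
  have k4 : ∀ v, B v v = 0 → f v = d • v := fun v hv => by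
    by_cases h1 : B v e = 0
    · by_cases h2 : B v e' = 0
      · have := k2 (e + v) e' pe' (c.iso_add he.1 hv (c.flip h1)) k3 (by simp [hee, h2])
        rwa [map_add, k1, smul_add, add_right_inj] at this
      · exact k2 v e' pe' hv k3 h2
    · exact k2 v e he hv k1 h1
  have k5 : ∀ x, f x = d • x := fun x => by
    obtain ⟨y, -, z, -, hy, hz, rfl⟩ := c.herm.exists_add_isotropic c.herm.nondegOn_top
      (by rw [finrank_top]; have := c.four; omega) (Submodule.mem_top (x := x))
    rw [map_add, k4 y hy, k4 z hz, smul_add]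
  refine ⟨rfl, d, ?_, k5⟩
  have := hs.form e e'
  rwa [k1, k3, sm_left, sm_right, hee, mul_one, mul_comm] at this

omit [FiniteDimensional E V] in
theorem eq_σ {θ : E ≃+* E} (h : ∀ a, θ (θ a) = a) (h1 : θ ≠ RingEquiv.refl E) : θ = σ := by
  haveI := Fintype.ofFinite E
  obtain ⟨n, e1, e2⟩ := IsInvol.exists_q (σ := (θ : E →+* E)) ⟨h, by
    by_contra e
    push Not at e
    exact h1 (RingEquiv.ext e)⟩
  rw [← Nat.card_eq_fintype_card, c.qf.card] at e1
  ext a
  rw [c.qf.σ_pow, Nat.pow_left_injective two_ne_zero e1]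
  exact e2 a

section Form

variable {f : V ≃+ V} (hf : Semi B f σ) (ff : ∀ x, f (f x) = x) {ω : E} (hω : σ ω = ω + 1)
include hf ff hω

omit [FiniteDimensional E V] [Finite E] in
theorem split (v : V) : ∃ a b, f a = a ∧ f b = b ∧ v = a + ω • b := by
  refine ⟨v + ω • (v + f v), v + f v, ?_, by rw [map_add, ff, add_comm], ?_⟩
  · rw [map_add, hf.smul, map_add, ff, hω]
    linear_combination (norm := module) c.add_self (f v)
  · rw [add_assoc, c.add_self, add_zero]

omit [FiniteDimensional E V] [Finite E] ff in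
theorem f_split {a b : V} (ha : f a = a) (hb : f b = b) : f (a + ω • b) = a + b + ω • b := by
  rw [map_add, hf.smul, ha, hb, hω]; module

omit [Finite E] in
theorem det_semi {y z : V →ₗ[E] V} (h : ∀ v, z (f v) = f (y v)) :
    LinearMap.det z = σ (LinearMap.det y) := by
  classical
  have hs : ⊤ ≤ Submodule.span E {v | f v = v} := fun v _ => by
    obtain ⟨a, b, ha, hb, rfl⟩ := split c hf ff hω v
    exact add_mem (Submodule.subset_span ha) (Submodule.smul_mem _ _ (Submodule.subset_span hb))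
  let b := Basis.ofSpan hs
  have hb : ∀ j, f (b j) = b j := fun j => Basis.ofSpan_subset hs ⟨j, rfl⟩
  haveI := FiniteDimensional.fintypeBasisIndex b
  have e : ∀ v j, b.repr (f v) j = σ (b.repr v j) := fun v j => by
    conv_lhs => rw [← b.sum_repr v, map_sum]
    simp only [hf.smul, hb, b.repr_sum_self]
  rw [← LinearMap.det_toMatrix b, ← LinearMap.det_toMatrix b, RingEquiv.map_det]
  congr 1
  ext j k
  simp only [LinearMap.toMatrix_apply, RingEquiv.mapMatrix_apply, Matrix.map_apply]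
  rw [← e, ← h, hb]

end Form

end Cfsg.Agent.H54V.H94.Cls

namespace Cfsg.Agent.H54V.H94.Out

open Cfsg Cfsg.Agent.H63 Cfsg.Agent.H63.SL Cfsg.Agent.H34 Cfsg.Agent.H34.TW Cfsg.Agent.H34.UM
  Cfsg.Agent.H31 Subgroup Module
open Cfsg.Agent.H63.WR (cc)
open Cfsg.Agent.H54V.H94.Cls (split det_semi nontriv eq_σ semi_mul act_mul)
open Cfsg.Agent.H27 (isomGroup spOrder)
open Cfsg.Agent.H27.End (mem_C comm_of_C is2_of_sq)
open scoped commutatorElement

universe u v

theorem equiv_of_rel {A A' : Type*} [Group A] [Group A'] (R : A → A' → Prop)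
    (h1 : ∀ a, ∃ b, R a b) (h2 : ∀ b, ∃ a, R a b) (u1 : ∀ a b b', R a b → R a b' → b = b')
    (u2 : ∀ a a' b, R a b → R a' b → a = a')
    (mul : ∀ a a' b b', R a b → R a' b' → R (a * a') (b * b')) : Nonempty (A ≃* A') := by
  choose T hT using h1
  let T' : A →* A' := MonoidHom.mk' T fun a a' => u1 _ _ _ (hT _) (mul _ _ _ _ (hT a) (hT a'))
  refine ⟨MulEquiv.ofBijective T' ⟨fun a a' e => u2 _ _ _ (hT a) ?_, fun b => ?_⟩⟩
  · have e' : T a = T a' := e
    rw [e']; exact hT a'
  · obtain ⟨a, ha⟩ := h2 b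
    exact ⟨a, u1 _ _ _ (hT a) ha⟩

theorem alt6 : ⁅alternatingGroup (Fin 6), alternatingGroup (Fin 6)⁆ = alternatingGroup (Fin 6) :=
  commutator_alternatingGroup_eq_self (by simp)

/-! ### Arithmetic -/

theorem odd_prod {q : ℕ} (hq : Even q) (h0 : q ≠ 0) (l : ℕ) :
    ∃ r, Odd r ∧ spOrder q l = q ^ l ^ 2 * r := by
  refine ⟨_, ?_, rfl⟩
  refine Finset.prod_induction _ Odd (fun a b ha hb => ha.mul hb) odd_one fun j _ => ?_
  exact Nat.Even.sub_odd (Nat.one_le_pow _ _ (Nat.pos_of_ne_zero h0))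
    (hq.pow_of_ne_zero (by omega)) odd_one

theorem two_pow_fact {q k n r N : ℕ} (hq : q = 2 ^ k) (hr : Odd r) (h : N = q ^ n * r) :
    2 ^ N.factorization 2 = q ^ n := by
  have r0 : r ≠ 0 := by rintro rfl; simp at hr
  rw [h, hq, ← pow_mul, Nat.factorization_mul (by positivity) r0, Nat.Prime.factorization_pow
    Nat.prime_two, Finsupp.add_apply, Finsupp.single_eq_same,
    Nat.factorization_eq_zero_of_not_dvd (by rw [← even_iff_two_dvd]; simpa using hr), add_zero]

theorem not_dvd_odd {p q : ℕ} (hp : p.Prime) (hq : Even q) (h : p ∣ q ^ 2 + 1) (j : ℕ) :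
    ¬ p ∣ q ^ (2 * j + 1) + 1 := by
  intro k
  haveI := Fact.mk hp
  have h1 : (q : ZMod p) ^ 2 = -1 := by
    have := (ZMod.natCast_eq_zero_iff _ _).2 h
    push_cast at this
    linear_combination this
  have h2 : (q : ZMod p) ^ (2 * j + 1) = -1 := by
    have := (ZMod.natCast_eq_zero_iff _ _).2 k
    push_cast at this
    linear_combination this
  have h3 : ((q : ZMod p) ^ (2 * j + 1)) ^ 2 = -1 := by
    rw [← pow_mul, mul_comm, pow_mul, h1, Odd.neg_one_pow ⟨j, rfl⟩]
  have h4 : ((2 : ℕ) : ZMod p) = 0 := by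
    rw [h2] at h3
    push_cast
    linear_combination h3
  have h5 : p = 2 := (Nat.prime_dvd_prime_iff_eq hp Nat.prime_two).1
    ((ZMod.natCast_eq_zero_iff _ _).1 h4)
  subst h5
  have : Odd (q ^ 2 + 1) := (hq.pow_of_ne_zero two_ne_zero).add_one
  exact (Nat.not_even_iff_odd.2 this) (even_iff_two_dvd.2 h)

theorem not_dvd_q {p q : ℕ} (hp : p.Prime) (h : p ∣ q ^ 2 + 1) (j : ℕ) : ¬ p ∣ q ^ j := fun k =>
  hp.one_lt.ne' (Nat.dvd_one.1 ((Nat.dvd_add_right
    (dvd_pow (hp.dvd_of_dvd_pow k) two_ne_zero)).1 h))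

theorem ordGU_odd {p q : ℕ} (hp : p.Prime) (hq : Even q) (h : p ∣ q ^ 2 + 1) (l : ℕ) :
    ∃ r, ¬ p ∣ r ∧ ordGU q (2 * l + 1) = r * spOrder q l := by
  induction l with
  | zero =>
    refine ⟨q ^ (2 * 0 + 1) + 1, not_dvd_odd hp hq h 0, ?_⟩
    simp [ordGU, spOrder]
  | succ l ih =>
    obtain ⟨r, h1, h2⟩ := ih
    refine ⟨q ^ (2 * l + 2) * (q ^ (2 * (l + 1) + 1) + 1) * r, fun k => ?_, ?_⟩
    · rcases hp.dvd_mul.1 k with k | k
      · rcases hp.dvd_mul.1 k with k | k
        · exact not_dvd_q hp h _ k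
        · exact not_dvd_odd hp hq h _ k
      · exact h1 k
    · rw [show 2 * (l + 1) + 1 = 2 * l + 1 + 1 + 1 by ring, ordGU_succ, ordGU_succ, h2,
        H27.spOrder_succ, cN, cN, if_neg (by simp [parity_simps]), if_pos (by simp [parity_simps])]
      simp only [Nat.add_sub_cancel, show 2 * (l + 1) = 2 * l + 1 + 1 by ring]
      ring

theorem dvd_spOrder {q l : ℕ} (hl : 2 ≤ l) : q ^ 2 + 1 ∣ spOrder q l := by
  refine Dvd.dvd.mul_left ((Dvd.intro (q ^ 2 - 1) ?_).trans
    (Finset.dvd_prod_of_mem _ (Finset.mem_range.2 (show 1 < l by omega)))) _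
  rw [← Nat.sq_sub_sq, ← pow_mul, one_pow]

/-! ### The form over the fixed field -/

variable {F E V : Type v} [Field F] [Field E] [AddCommGroup V] [Module E V] {i : F →+* E}
  {σ : E ≃+* E} {B : V →ₛₗ[(σ : E →+* E)] V →ₗ[E] E} {G : Type u} [Group G] {φ : sisom B →* G}
  {L : Subgroup G} (c : UCtx i φ L) [FiniteDimensional E V] [Finite E]
include c

section Form

variable {f : V ≃+ V} (hf : Semi B f σ) (ff : ∀ x, f (f x) = x)
include hf ff

theorem exists_emb : ∃ (b : Basis (Fin (finrank E V)) E V) (ε : (Fin (finrank E V) → F) →+ V),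
    (∀ (a : F) w, ε (a • w) = i a • ε w) ∧ Function.Injective ε ∧
      (∀ x, f x = x ↔ ∃ w, ε w = x) ∧ ∀ j, ε (Pi.single j 1) = b j := by
  classical
  obtain ⟨ω, hω⟩ := c.qf.tr
  have hs : ⊤ ≤ Submodule.span E {v | f v = v} := fun v _ => by
    obtain ⟨a, b, ha, hb, rfl⟩ := split c hf ff hω v
    exact add_mem (Submodule.subset_span ha) (Submodule.smul_mem _ _ (Submodule.subset_span hb))
  let b' := Basis.ofSpan hs
  have hb' : ∀ j, f (b' j) = b' j := fun j => Basis.ofSpan_subset hs ⟨j, rfl⟩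
  haveI := FiniteDimensional.fintypeBasisIndex b'
  let b := b'.reindex (Fintype.equivFinOfCardEq (finrank_eq_card_basis b').symm)
  have hb : ∀ j, f (b j) = b j := fun j => by simp only [b, Basis.reindex_apply, hb']
  have e : ∀ v j, b.repr (f v) j = σ (b.repr v j) := fun v j => by
    conv_lhs => rw [← b.sum_repr v, map_sum]
    simp only [hf.smul, hb, b.repr_sum_self]
  let ε : (Fin (finrank E V) → F) →+ V :=
    { toFun := fun w => ∑ j, i (w j) • b j
      map_zero' := by simp
      map_add' := fun w w' => by simp [add_smul, Finset.sum_add_distrib] }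
  have hε : ∀ w j, b.repr (ε w) j = i (w j) := fun w j => by
    change b.repr (∑ j, i (w j) • b j) j = _
    simp only [b.repr_sum_self]
  refine ⟨b, ε, fun a w => b.ext_elem fun j => by simp [hε], fun w w' k => funext fun j =>
    i.injective (by rw [← hε, ← hε, k]), fun x => ⟨fun h => ?_, ?_⟩,
    fun j => b.ext_elem fun k => ?_⟩
  · choose w hw using fun j => (c.qf.fix (b.repr x j)).1 (by rw [← e, h])
    exact ⟨w, b.ext_elem fun j => by rw [hε, hw]⟩
  · rintro ⟨w, rfl⟩
    exact b.ext_elem fun j => by rw [e, hε, c.qf.σ_i]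
  · rw [hε, b.repr_self, Finsupp.single_apply, Pi.single_apply]
    by_cases h : k = j
    · simp [h]
    · simp [h, Ne.symm h]

theorem det_one {x : V ≃ₗ[E] V} (hx : x ∈ isom B) (h : ∀ v, x (f v) = f (x v)) : x ∈ sisom B := by
  obtain ⟨ω, hω⟩ := c.qf.tr
  have e1 := det_semi c hf ff hω (y := x) (z := x) h
  have e2 := c.herm.det_norm hx
  rw [RingHom.coe_coe, ← e1] at e2
  exact mem_sisom'.2 ⟨hx, c.qf.eq_one_of_pow (k := 1) (by rw [pow_one, pow_two, e2])⟩

/-- The centralizer of a graph involution is the isometry group of a symmetric form. -/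
theorem cent_iso [Finite V] {e : G} (ha : Act φ e f) :
    ∃ b0 : LinearMap.BilinForm F (Fin (finrank E V) → F), b0.IsSymm ∧ b0.Nondegenerate ∧
      Nonempty (isomGroup b0 ≃* ↥(L ⊓ C1[e])) := by
  classical
  obtain ⟨b, ε, sm, inj, fix, sg⟩ := exists_emb c hf ff
  have fε : ∀ w, f (ε w) = ε w := fun w => (fix _).2 ⟨w, rfl⟩
  have fx : ∀ x y, σ (B (ε x) (ε y)) = B (ε x) (ε y) := fun x y => by rw [← hf.form, fε, fε]
  choose τ hτ using fun x y => (c.qf.fix _).1 (fx x y)
  let b0 : LinearMap.BilinForm F (Fin (finrank E V) → F) := LinearMap.mk₂ F τ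
    (fun x y z => i.injective (by simp [← hτ]))
    (fun a x y => i.injective (by rw [smul_eq_mul, map_mul, ← hτ, ← hτ, sm, sm_left, c.qf.σ_i]))
    (fun x y z => i.injective (by simp [← hτ]))
    (fun a x y => i.injective (by rw [smul_eq_mul, map_mul, ← hτ, ← hτ, sm, sm_right]))
  have hb : ∀ x y, i (b0 x y) = B (ε x) (ε y) := fun x y => (hτ x y).symm
  have hs : b0.IsSymm := ⟨fun x y => i.injective (by rw [hb, hb, ← c.symm, fx])⟩
  have nd : ∀ x, (∀ y, b0 x y = 0) → x = 0 := fun x hx => inj (by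
    rw [map_zero]
    refine c.herm.nondeg _ fun v => ?_
    have : B (ε x) = 0 := b.ext fun j => by rw [← sg, ← hb, hx]; simp
    simp [this])
  have ex : ∀ s s' : sisom B, (∀ w, s.1 (ε w) = s'.1 (ε w)) → s = s' := fun s s' h =>
    Subtype.ext (b.ext' fun j => by rw [← sg, h])
  have fb : ∀ v, f v = ∑ j, σ (b.repr v j) • b j := fun v => by
    conv_lhs => rw [← b.sum_repr v, map_sum]
    simp only [hf.smul, ← sg, fε]
  refine ⟨b0, hs, ⟨nd, fun x hx => nd x fun y => hs.isRefl _ _ (hx y)⟩,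
    equiv_of_rel (fun g y => ∃ s : sisom B, φ s = y ∧ ∀ w, s.1 (ε w) = ε (g.1 w))
      (fun g => ?_) (fun y => ?_) ?_ ?_ ?_⟩
  · let x : V →ₗ[E] V := b.constr E fun j => ε (g.1 (Pi.single j 1))
    have hx : ∀ j, x (b j) = ε (g.1 (Pi.single j 1)) := fun j => b.constr_basis E _ j
    have iso : ∀ v w, B (x v) (x w) = B v w := fun v w => by
      have : ∀ j k, B (x (b j)) (x (b k)) = B (b j) (b k) := fun j k => by
        rw [hx, hx, ← hb, g.2, hb, sg, sg]
      rw [← b.sum_repr v, ← b.sum_repr w]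
      simp only [map_sum, map_smul, LinearMap.sum_apply, sm_left, this]
    have hi : Function.Injective x := (injective_iff_map_eq_zero x).2 fun v hv =>
      c.herm.nondeg v fun y => by rw [← iso, hv]; simp
    have xf : ∀ v, x (f v) = f (x v) := fun v => by
      conv_rhs => rw [← b.sum_repr v]
      simp only [fb v, map_sum, map_smul, hf.smul, hx, fε]
    let s : sisom B := ⟨LinearEquiv.ofInjectiveEndo x hi, det_one c hf ff iso xf⟩
    refine ⟨⟨φ s, c.mem s, mem_centralizer_singleton_iff.2 ?_⟩, s, rfl, fun w => ?_⟩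
    · obtain ⟨s', e1, e2⟩ := ha s
      have : s' = s := s_ext fun v => by
        obtain ⟨v, rfl⟩ := f.surjective v
        rw [e1]; exact (xf v).symm
      rw [this] at e2
      exact (mul_inv_eq_iff_eq_mul.1 e2).symm
    · change x (ε w) = _
      conv_lhs => rw [← Finset.univ_sum_single w]
      conv_rhs => rw [← Finset.univ_sum_single w]
      simp only [map_sum]
      refine Finset.sum_congr rfl fun j _ => ?_
      rw [show (Pi.single j (w j) : Fin (finrank E V) → F) = w j • Pi.single j 1 by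
        rw [← Pi.single_smul, smul_eq_mul, mul_one], sm, map_smul, map_smul, sm, sg, hx]
  · obtain ⟨s, hs⟩ := c.surj y.2.1
    obtain ⟨s', e1, e2⟩ := ha s
    have e3 : φ (s' * s⁻¹) = 1 := by
      rw [map_mul, map_inv, ← e2, hs, ← mem_centralizer_singleton_iff.1 y.2.2]; group
    obtain ⟨d, d1, d2⟩ := c.scal (s := s' * s⁻¹) (e3 ▸ one_mem _)
    obtain ⟨n, hn⟩ : Even (Nat.card E) := by
      rw [c.qf.card]; exact c.qf.even_card.pow_of_ne_zero two_ne_zero
    have d3 : d ^ n * d ^ n = d := by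
      haveI := Fintype.ofFinite E
      rw [← pow_add, ← hn, Nat.card_eq_fintype_card, FiniteField.pow_card]
    have d4 : ∀ k x, ((s' * s⁻¹) ^ k).1 x = d ^ k • x := fun k => by
      induction k with
      | zero => simp
      | succ k ih => intro x; rw [pow_succ, mul_app, ih, d2, smul_smul, pow_succ]
    let t := (s' * s⁻¹) ^ n * s
    have tf : ∀ v, t.1 (f v) = f (t.1 v) := fun v => by
      have := d2 (s.1 (f v))
      rw [mul_app, inv_app, e1] at this
      rw [mul_app, mul_app, d4, d4, hf.smul, this, smul_smul, map_pow]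
      congr 1
      have d5 : d ^ n * σ d ^ n = 1 := by rw [← mul_pow, d1, one_pow]
      linear_combination σ d ^ n * d3 - d ^ n * d5
    choose g hg using fun w => (fix (t.1 (ε w))).1 (by rw [← tf, fε])
    let g' : (Fin (finrank E V) → F) →ₗ[F] (Fin (finrank E V) → F) :=
      { toFun := g
        map_add' := fun w w' => inj (by simp only [map_add, hg])
        map_smul' := fun a w => inj (by simp only [RingHom.id_apply, sm, hg, map_smul]) }
    have hi : Function.Injective g' := fun w w' k => inj (t.1.injective (by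
      rw [← hg, ← hg]; exact congrArg ε k))
    refine ⟨⟨LinearEquiv.ofInjectiveEndo g' hi, fun w w' => i.injective ?_⟩, t, ?_,
      fun w => (hg w).symm⟩
    · change i (b0 (g w) (g w')) = _
      rw [hb, hb, hg, hg, iso_map]
    · rw [map_mul, map_pow, e3, one_pow, one_mul, hs]
  · rintro g y y' ⟨s, h1, h2⟩ ⟨s', h1', h2'⟩
    exact Subtype.ext (by rw [← h1, ← h1', ex s s' fun w => by rw [h2, h2']])
  · rintro g g' y ⟨s, h1, h2⟩ ⟨s', h1', h2'⟩
    obtain ⟨d, d1, d2⟩ := c.scal (s := s' * s⁻¹) (by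
      rw [map_mul, map_inv, h1, h1', mul_inv_cancel]; exact one_mem _)
    have d3 : ∀ w, ε (g'.1 w) = d • ε (g.1 w) := fun w => by rw [← h2, ← d2, mul_app, inv_app, h2']
    let j : Fin (finrank E V) := ⟨0, by have := c.four; omega⟩
    have d4 := fε (g'.1 (g.1.symm (Pi.single j 1)))
    rw [d3, hf.smul, fε, LinearEquiv.apply_symm_apply, sg] at d4
    have d5 : σ d = d := smul_left_injective E (b.ne_zero j) d4
    have d6 : d = 1 := c.qf.eq_one_of_pow (k := 1) (by rw [pow_one, pow_two, ← d1, d5])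
    exact Subtype.ext (LinearEquiv.ext fun w => inj (by rw [d3, d6, one_smul]))
  · rintro g g' y y' ⟨s, h1, h2⟩ ⟨s', h1', h2'⟩
    exact ⟨s * s', by rw [map_mul, h1, h1']; rfl, fun w => by rw [mul_app, h2', h2]; rfl⟩

end Form

theorem graph (K : KitA i φ L) {e : G} (he : e ∈ N[L]) (h2 : Is2 e) (ee : e * e ∈ C[L])
    (hn : e ∉ L ⊔ C[L]) : ∃ f, Semi B f σ ∧ (∀ x, f (f x) = x) ∧ Act φ e f := by
  obtain ⟨f, θ, hf, ha⟩ := c.mod.ext e he
  have e1 : θ ≠ RingEquiv.refl E := fun e1 => by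
    obtain ⟨ψ, h1, h3⟩ := K.out
    obtain ⟨m, hm, h4⟩ := h3 ⟨e, he⟩ ((h1 _ f θ hf ha).trans e1)
    obtain ⟨k, hk⟩ := h2
    exact hn ((zpowers_le.2 h4 : zpowers (e ^ m) ≤ _) (mem_zpowers_pow_iff.2
      (Nat.Coprime.coprime_dvd_right (orderOf_dvd_of_pow_eq_one hk)
        ((Nat.coprime_two_right.2 hm).pow_right k))))
  obtain ⟨e2, d, d1, d2⟩ := Cls.scal c K ee (semi_mul hf hf) (act_mul ha ha)
  obtain rfl := eq_σ c (fun a => DFunLike.congr_fun e2 a) e1
  obtain ⟨x0, y0, e0⟩ := nontriv c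
  have x00 : x0 ≠ 0 := fun e => by simp [e] at e0
  have d3 : ∀ x, f (f x) = d • x := d2
  have d4 : θ d = d := smul_left_injective E (f.map_ne_zero_iff.2 x00) (by
    simp only [← hf.smul, ← d3])
  have d5 : d = 1 := c.qf.eq_one_of_pow (k := 1) (by rw [pow_one, pow_two, ← d1, d4])
  exact ⟨f, hf, by simp [d3, d5], ha⟩

theorem not_dvd [Finite G] {p : ℕ} (hp : p.Prime) (h : p ∣ Nat.card F ^ 2 + 1) {H : Type*} [Group H]
    [Finite H] (k : ∀ x : H, x ^ (Nat.card F + 1) = 1) : ¬ p ∣ Nat.card H := fun h1 => by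
  haveI := Fact.mk hp
  obtain ⟨x, hx⟩ := exists_prime_orderOf_dvd_card' p h1
  exact not_dvd_odd hp c.qf.even_card h 0 (by
    simpa [hx] using orderOf_dvd_of_pow_eq_one (k x))

omit c in
theorem out : H54V.OutStmt.{u, v} := by
  intro F E V _ _ _ _ _ _ _ _ i σ B G _ _ φ L c K _
  haveI := Fintype.ofFinite F
  haveI := Fintype.ofFinite E
  have q0 : Nat.card F ≠ 0 := Nat.card_pos.ne'
  have ev := c.qf.even_card
  refine ⟨fun e he h2 ee hn => ?_, fun ⟨l, hl⟩ => ?_⟩
  · obtain ⟨f, hf, ff, ha⟩ := graph c K he h2 ee hn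
    obtain ⟨b0, hs, nd, ⟨ψ⟩⟩ := cent_iso c hf ff ha
    haveI := H79.charP_two_of c.qf.twoF
    obtain ⟨k, -, hk⟩ := FiniteField.card F 2
    rw [← Nat.card_eq_fintype_card] at hk
    have fr : finrank F (Fin (finrank E V) → F) = finrank E V := finrank_fin_fun F
    have h4 := c.four
    unfold cc
    rw [← Nat.card_congr ψ.toEquiv]
    by_cases hA : b0.IsAlt
    · obtain ⟨l, hl⟩ := H27.even_finrank_of_alt nd hA
      obtain ⟨r, h1, h3⟩ := odd_prod ev q0 l
      rw [show finrank E V / 2 = l by omega]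
      exact two_pow_fact hk h1 (by
        rw [H27.card_isomGroup nd hA (m := l) (by omega), ← Nat.card_eq_fintype_card, h3])
    · obtain ⟨k1, k2⟩ := H79.card_isom_symm c.qf.twoF hs nd hA
      rw [← Nat.card_eq_fintype_card] at k1 k2
      rcases Nat.even_or_odd' (finrank E V) with ⟨l, hl | hl⟩
      · obtain ⟨l, rfl⟩ : ∃ l', l = l' + 1 := ⟨l - 1, by omega⟩
        obtain ⟨r, h1, h3⟩ := odd_prod ev q0 l
        rw [show finrank E V / 2 = l + 1 by omega]
        exact two_pow_fact hk h1 (by rw [k2 l (by omega), h3]; ring)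
      · obtain ⟨r, h1, h3⟩ := odd_prod ev q0 l
        rw [show finrank E V / 2 = l by omega]
        exact two_pow_fact hk h1 (by rw [k1 l (by omega), h3])
  · have h4 := c.four
    obtain ⟨p, hp, h⟩ := Nat.exists_prime_and_dvd (n := Nat.card F ^ 2 + 1) (by
      have := pow_ne_zero 2 q0; omega)
    haveI : Finite (sisom B) := .of_injective (fun s : sisom B => (s.1 : V → V)) fun _ _ e =>
      s_ext (congrFun e)
    have o1 := c.herm.card_sisom (q := Nat.card F) (by rw [← c.qf.card, Nat.card_eq_fintype_card])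
      c.qf.σ_pow (by omega)
    have o2 : Nat.card (sisom B) = Nat.card L * Nat.card φ.ker := by
      rw [card_eq_card_quotient_mul_card_subgroup φ.ker, ← c.mod.rng,
        Nat.card_congr (QuotientGroup.quotientKerEquivRange φ).toEquiv]
    obtain ⟨r, h1, h3⟩ := ordGU_odd hp ev h l
    rw [o2, hl, h3] at o1
    have s0 : spOrder (Nat.card F) l ≠ 0 := (H27.spOrder_pos Finite.one_lt_card l).ne'
    have r0 : r ≠ 0 := by rintro rfl; exact h1 (dvd_zero p)
    refine ⟨p, hp, not_dvd c hp h fun x => ?_, ?_, fun e he e2 hn => ?_⟩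
    · obtain ⟨s, hs⟩ := c.surj x.2.1
      exact Subtype.ext (by
        rw [SubgroupClass.coe_pow, ← hs, ← map_pow, c.pow_of_C (hs ▸ x.2.2), map_one]; rfl)
    · have : p ∣ (Nat.card F + 1) * (Nat.card L * Nat.card φ.ker) :=
        o1 ▸ ((h.trans (dvd_spOrder (by omega))).mul_left r)
      rcases hp.dvd_mul.1 this with k | k
      · exact absurd (by simpa using k) (not_dvd_odd hp ev h 0)
      · exact (hp.dvd_mul.1 k).resolve_right (not_dvd c hp h fun x => Subtype.ext
          (c.pow_of_C (by rw [x.2]; exact one_mem _)))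
    · obtain ⟨f, hf, ff, ha⟩ := graph c K he (is2_of_sq e2) (e2 ▸ one_mem _) hn
      obtain ⟨b0, hs, nd, ⟨ψ⟩⟩ := cent_iso c hf ff ha
      have fr : finrank F (Fin (finrank E V) → F) = 2 * l + 1 := (finrank_fin_fun F).trans hl
      have hA : ¬ b0.IsAlt := fun hA => by
        obtain ⟨l', h'⟩ := H27.even_finrank_of_alt nd hA
        omega
      obtain ⟨χ⟩ := (H73.isom_symm_two c.qf.twoF hs nd hA).1 fr
      obtain rfl : l = 2 := by have := c.dim.2; omega
      obtain ⟨ξ⟩ := S0247.result (F := F) (by rw [← Nat.card_eq_fintype_card]; exact c.dim.1)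
      let g : Equiv.Perm (Fin 6) →* G := (L ⊓ C1[e]).subtype.comp (ψ.symm.trans (χ.trans ξ)).symm.toMonoidHom
      have gi : Function.Injective g := Subtype.val_injective.comp (MulEquiv.injective _)
      refine ⟨(alternatingGroup (Fin 6)).map g, ?_, ?_, ?_⟩
      · rintro _ ⟨x, -, rfl⟩
        exact Subtype.property _
      · rw [← map_commutator, alt6]
      · have p2 : ¬ p ∣ 2 := fun k => by
          rw [(Nat.prime_dvd_prime_iff_eq hp Nat.prime_two).1 k, c.dim.1] at h
          omega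
        have k1 : spOrder (Nat.card F) 2 = 2 * Nat.card ((alternatingGroup (Fin 6)).map g) := by
          rw [Nat.card_eq_fintype_card (α := F), ← (H79.card_isom_symm c.qf.twoF hs nd hA).1 2 fr,
            Nat.card_congr (χ.trans ξ).toEquiv, card_map_of_injective gi,
            two_mul_nat_card_alternatingGroup]
        have k2 : (spOrder (Nat.card F) 2).factorization p =
            (Nat.card ((alternatingGroup (Fin 6)).map g)).factorization p := by
          rw [k1, Nat.factorization_mul two_ne_zero Nat.card_pos.ne', Finsupp.add_apply,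
            Nat.factorization_eq_zero_of_not_dvd p2, zero_add]
        rw [← k2]
        have d : Nat.card L ∣ r * spOrder (Nat.card F) 2 :=
          o1 ▸ (dvd_mul_right _ _).mul_left _
        have := (Nat.factorization_le_iff_dvd Nat.card_pos.ne' (mul_ne_zero r0 s0)).2 d p
        rwa [Nat.factorization_mul r0 s0, Finsupp.add_apply,
          Nat.factorization_eq_zero_of_not_dvd h1, zero_add] at this

end Cfsg.Agent.H54V.H94.Out
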