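import Cfsg.Agent.H63.A8Defs

set_option autoImplicit false
set_option maxRecDepth 100000

namespace Cfsg.Agent.H94.A8I3

open Cfsg Cfsg.Agent.H63 Cfsg.Agent.H63.SL Cfsg.Agent.H63.WR Cfsg.Agent.H63.A8 Subgroup
open Equiv (swap)
open Equiv.Perm (sign)

universe u

theorem vv_mul : ∀ k l : Fin 16, vv k * vv l = vv (k ^^^ l) := by decide +kernel

theorem vv_one : ∀ k : Fin 16, vv k = 1 → k = 0 := by decide +kernel

theorem vv_sq : ∀ k : Fin 16, vv k * vv k = 1 := by decide +kernel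

theorem vv_inj : Function.Injective vv := by
  have : ∀ k l : Fin 16, vv k = vv l → k = l := by decide +kernel
  exact this

theorem vv_fix : ∀ k : Fin 16, ∀ i, (vv k).1 i = i → k ∈ ({0, 1, 2, 3, 4, 8, 12} : Finset (Fin 16)) := by
  decide +kernel

theorem fin : ∀ k ∈ ({1, 2, 3, 4, 8, 12} : Finset (Fin 16)), ∀ l ∈ ({1, 2, 3, 4, 8, 12} : Finset (Fin 16)),
    ∀ m ∈ ({1, 2, 3, 4, 8, 12} : Finset (Fin 16)), k ^^^ l ^^^ m ∈ ({1, 2, 3, 4, 8, 12} : Finset (Fin 16)) →
    k = l ∨ k = m ∨ l = m := by decide +kernel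

/-- the group `V × V` -/
def VV : Subgroup Alt where
  carrier := Set.range vv
  one_mem' := ⟨0, by decide +kernel⟩
  mul_mem' := by rintro _ _ ⟨k, rfl⟩ ⟨l, rfl⟩; exact ⟨_, (vv_mul k l).symm⟩
  inv_mem' := by rintro _ ⟨k, rfl⟩; exact ⟨k, eq_inv_of_mul_eq_one_left (vv_sq k)⟩

theorem card_VV : Nat.card VV = 16 := by
  change Nat.card (Set.range vv) = 16
  rw [Nat.card_range_of_injective vv_inj]; simp

theorem w_comm : ∀ k, vv k * w = w * vv k := by decide +kernel

theorem cj4 : y * w * y⁻¹ = vv 4 := by decide +kernel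
theorem cj8 : ev 5 6 6 7 * vv 4 * (ev 5 6 6 7)⁻¹ = vv 8 := by decide +kernel
theorem cj12 : ev 5 6 6 7 * vv 8 * (ev 5 6 6 7)⁻¹ = vv 12 := by decide +kernel

variable {G : Type u} [Group G] {ι : Alt →* G} {π : G → S8} {t : G}

theorem cj (h : Hy ι π t) {a : Alt} (b : Alt) (e : IsConj t (t * ι a)) : IsConj t (t * ι (b * a * b⁻¹)) :=
  e.trans (isConj_iff.2 ⟨ι b, by
    rw [map_mul, map_mul, map_inv, ← mul_assoc, ← mul_assoc, ← mul_assoc, (h.tc b).eq]⟩)

theorem sq_of (h : Hy ι π t) {d : G} (e : IsConj t d) : d * d = 1 := by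
  obtain ⟨c, rfl⟩ := isConj_iff.1 e
  calc c * t * c⁻¹ * (c * t * c⁻¹) = c * (t * t) * c⁻¹ := by group
    _ = 1 := by rw [h.t2]; group

theorem i3 : I3Stmt.{u} := by
  intro f G _ _ ι π t h k hz
  by_contra hc
  push Not at hc
  have hev : ∀ d, Commute d t → d * d = 1 → sign (π d) = 1 := fun d h1 h2 =>
    (Int.units_eq_one_or _).resolve_right (hc d h1 h2)
  have is2 : ∀ d : G, d * d = 1 → Is2 d := fun d e => ⟨1, by simpa [sq] using e⟩
  have form : ∀ d, IsConj t d → Commute d t → ∀ a : Alt, π d = a.1 → d = t * ι a := fun d h1 h2 a ha =>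
    (k.ev d h2 (is2 d (sq_of h h1)) a ha).resolve_left fun e => k.nl a (e ▸ h1)
  have hw : IsConj t (t * ι w) := by
    obtain ⟨d, h1, h2, h3⟩ := h.iso
    have h4 := hev d h2 (sq_of h h1)
    have h5 := form d h1 h2 ⟨π d, h4⟩ rfl
    obtain ⟨b, e | e | e | e | e⟩ := f.inv (π d) (by rw [← h.mul d d h2 h2, sq_of h h1, k.one])
    · exact absurd (by rw [h5, show (⟨π d, h4⟩ : Alt) = 1 from Subtype.ext e]; simp) h3
    · have := congrArg sign e
      simp [h4] at this
    · have := cj h b (h5 ▸ h1)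
      rwa [show b * ⟨π d, h4⟩ * b⁻¹ = w from Subtype.ext e] at this
    · have := congrArg sign e
      have h6 : sign w.1 = 1 := w.2
      simp [h4, h6] at this
    · have := cj h b (h5 ▸ h1)
      rw [show b * ⟨π d, h4⟩ * b⁻¹ = z from Subtype.ext e] at this
      exact absurd this hz
  have fix : ∀ l, IsConj t (t * ι (vv l)) → l ∈ ({0, 1, 2, 3, 4, 8, 12} : Finset (Fin 16)) := by
    intro l hl
    have key : ∀ (b : Alt) (p : S8), b.1 * (vv l).1 * b.1⁻¹ = p → p 6 = 6 →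
        l ∈ ({0, 1, 2, 3, 4, 8, 12} : Finset (Fin 16)) := fun b p e e6 => vv_fix l (b.1⁻¹ 6) (by
      rw [← e] at e6
      exact b.1.injective (by simpa using e6))
    obtain ⟨b, e | e | e | e | e⟩ := f.inv (vv l).1 (congrArg Subtype.val (vv_sq l))
    · rw [vv_one l (Subtype.ext e)]; simp
    · exact key b _ e (by decide)
    · exact key b _ e (by decide)
    · exact key b _ e (by decide)
    · have := cj h b hl
      rw [show b * vv l * b⁻¹ = z from Subtype.ext e] at this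
      exact absurd this hz
  obtain ⟨g, hg⟩ := isConj_iff.1 hw.symm
  have com : ∀ x, Commute x (t * ι w) → Commute (g * x * g⁻¹) t := fun x e => by
    rw [← hg]
    change _ = _
    calc g * x * g⁻¹ * (g * (t * ι w) * g⁻¹) = g * (x * (t * ι w)) * g⁻¹ := by group
      _ = _ := by rw [e.eq]; group
  have com1 : ∀ a : VV, Commute (g * ι a * g⁻¹) t := fun ⟨_, l, e⟩ => com _ (by
    subst e
    exact (h.tc _).mul_right (Commute.map (w_comm l) ι))
  have sq1 : ∀ a : VV, g * ι a * g⁻¹ * (g * ι a * g⁻¹) = 1 := fun ⟨_, l, e⟩ => by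
    subst e
    calc g * ι (vv l) * g⁻¹ * (g * ι (vv l) * g⁻¹) = g * ι (vv l * vv l) * g⁻¹ := by rw [map_mul]; group
      _ = 1 := by rw [vv_sq]; simp
  let μ : VV →* S8 := MonoidHom.mk' (fun a => π (g * ι a * g⁻¹)) fun a b => by
    rw [← h.mul _ _ (com1 a) (com1 b)]
    congr 1
    simp only [coe_mul, map_mul]
    group
  have hμ : Function.Injective μ := (injective_iff_map_eq_one μ).2 fun a ha => by
    rcases h.r2 _ (com1 a) ha (is2 _ (sq1 a)) with e | e
    · have : ι a = 1 := by simpa using e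
      exact Subtype.ext (h.inj (this.trans (map_one ι).symm))
    · exact absurd (isConj_iff.2 ⟨g, e⟩).symm (k.nl _)
  have hE : ∀ p ∈ μ.range, sign p = 1 := by
    rintro _ ⟨a, rfl⟩
    exact hev _ (com1 a) (sq1 a)
  obtain ⟨b, hb | hb | hb⟩ := f.e16 μ.range (by
    rintro _ ⟨a, rfl⟩
    change π _ * π _ = 1
    rw [← h.mul _ _ (com1 a) (com1 a), sq1, k.one]) (by
    rw [← card_VV]; exact (Nat.card_congr (MonoidHom.ofInjective hμ).toEquiv).symm)
  · have step : ∀ l, l ≠ 1 → IsConj t (t * ι (vv l)) → ∃ m ∈ ({1, 2, 3, 4, 8, 12} : Finset (Fin 16)),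
        b.1 * μ ⟨vv (1 ^^^ l), _, rfl⟩ * b.1⁻¹ = (vv m).1 := by
      intro l l1 hl
      obtain ⟨m, hm⟩ := (hb _).1 ⟨⟨vv (1 ^^^ l), _, rfl⟩, rfl⟩
      refine ⟨m, ?_, hm⟩
      have e1 : g * (t * ι (vv l)) * g⁻¹ = t * (g * ι (vv (1 ^^^ l)) * g⁻¹) := by
        conv_rhs => rw [← hg, ← vv_mul, show vv 1 = w by decide +kernel, map_mul]
        have : ι w * ι w = 1 := by rw [← map_mul, show w * w = 1 by decide +kernel, map_one]
        calc g * (t * ι (vv l)) * g⁻¹ = g * (t * (ι w * ι w) * ι (vv l)) * g⁻¹ := by rw [this]; group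
          _ = _ := by group
      have c1 := com1 ⟨vv (1 ^^^ l), _, rfl⟩
      have e2 : IsConj t (t * (g * ι (vv (1 ^^^ l)) * g⁻¹)) := hl.trans (isConj_iff.2 ⟨g, e1⟩)
      have e3 := form _ e2 ((Commute.refl t).mul_left c1) (b⁻¹ * vv m * b) (by
        rw [h.mul _ _ (Commute.refl t) c1, k.pt, one_mul]
        change μ ⟨vv (1 ^^^ l), _, rfl⟩ = b.1⁻¹ * (vv m).1 * b.1
        rw [← hm]; group)
      have e4 := cj h b (e3 ▸ e2)
      rw [show b * (b⁻¹ * vv m * b) * b⁻¹ = vv m by group] at e4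
      refine (Finset.mem_insert.1 (fix m e4)).resolve_left ?_
      rintro rfl
      have e5 : μ ⟨vv (1 ^^^ l), _, rfl⟩ = 1 := by
        rw [show vv 0 = 1 by decide +kernel] at hm
        simpa using hm
      have e6 := vv_one _ (congrArg Subtype.val (hμ (e5.trans (map_one μ).symm)))
      revert l1 e6
      clear * -
      revert l
      decide
    have d4 : IsConj t (t * ι (vv 4)) := cj4 ▸ cj h y hw
    have d8 : IsConj t (t * ι (vv 8)) := cj8 ▸ cj h _ d4
    have d12 : IsConj t (t * ι (vv 12)) := cj12 ▸ cj h _ d8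
    obtain ⟨m0, a0, b0⟩ := step 0 (by decide) (by
      rw [show vv 0 = 1 by decide +kernel, map_one, mul_one])
    obtain ⟨m1, a1, b1⟩ := step 4 (by decide) d4
    obtain ⟨m2, a2, b2⟩ := step 8 (by decide) d8
    obtain ⟨m3, a3, b3⟩ := step 12 (by decide) d12
    have e : m0 ^^^ m1 ^^^ m2 = m3 := vv_inj (Subtype.ext (by
      rw [← vv_mul, ← vv_mul, coe_mul, coe_mul, ← b0, ← b1, ← b2, ← b3,
        show (⟨vv (1 ^^^ 12), _, rfl⟩ : VV) = ⟨vv (1 ^^^ 0), _, rfl⟩ * ⟨vv (1 ^^^ 4), _, rfl⟩ *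
          ⟨vv (1 ^^^ 8), _, rfl⟩ from Subtype.ext (by decide +kernel), map_mul, map_mul]
      group))
    have ne : ∀ {l l' m m'}, b.1 * μ ⟨vv l, _, rfl⟩ * b.1⁻¹ = (vv m).1 →
        b.1 * μ ⟨vv l', _, rfl⟩ * b.1⁻¹ = (vv m').1 → m = m' → l = l' := fun e1 e2 e3 => by
      subst e3
      have := e1.trans e2.symm
      rw [mul_left_inj, mul_right_inj] at this
      exact vv_inj (congrArg Subtype.val (hμ this))
    rcases fin m0 a0 m1 a1 m2 a2 (e ▸ a3) with e | e | e
    · exact absurd (ne b0 b1 e) (by decide)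
    · exact absurd (ne b0 b2 e) (by decide)
    · exact absurd (ne b1 b2 e) (by decide)
  · have := hE _ ((hb (b.1⁻¹ * vb 4 * b.1)).2 ⟨4, by group⟩)
    rw [show vb 4 = swap 4 5 by decide +kernel] at this
    simp at this
  · have := hE _ ((hb (b.1⁻¹ * bb 4 * b.1)).2 ⟨4, by group⟩)
    rw [show bb 4 = swap 4 5 by decide +kernel] at this
    simp at this

end Cfsg.Agent.H94.A8I3
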