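import Cfsg.Agent.H46.J1Defs
import Cfsg.Agent.H46.TKit

/-!
# A standard subgroup of type `J₁`: fusion in the elementary subgroup of order 16
-/

set_option autoImplicit false
open scoped Pointwise
open Subgroup

namespace Cfsg.Agent.H94.J1E
open Cfsg.Agent.H46.S94

universe u

local notation "N[" A "]" => Subgroup.normalizer (SetLike.coe A)

variable {Γ : Type} [Group Γ] {G : Type u} [Group G] {φ : Γ →* G} {t : G} {O : Subgroup G}
  {z σ ρ : Γ} {V L : Subgroup Γ}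

theorem pr1 {α β b c d e f : Prop} (q8 : b)
    (q1 : α ∧ (b ↔ α) ∨ ¬ α ∧ (b ↔ β)) (q2 : c ∧ (d ↔ α) ∨ ¬ c ∧ (d ↔ β))
    (q4 : e ↔ (β ↔ c)) (q5 : d ↔ (α ↔ f)) (q6 : ¬ e)
    (q7 : ¬ f) : ¬ α ∧ β := by
  by_cases α <;> by_cases β <;> by_cases c <;> by_cases d <;> simp_all

theorem pr2 {α β a b : Prop} (k : ¬ α ∧ β) (q : a ∧ (b ↔ α) ∨ ¬ a ∧ (b ↔ β)) : b ↔ ¬ a := by
  tauto

theorem pr3 {a b c d e f : Prop} (k1 : a ↔ ¬ b) (k2 : b ↔ (c ↔ d)) (k3 : c ↔ ¬ e)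
    (k4 : d ↔ ¬ f) (k5 : e) : a ↔ ¬ f := by
  by_cases f <;> simp_all

theorem pr4 {a b c d e f : Prop} (k1 : a ↔ ¬ d) (k2 : b ↔ ¬ e) (k3 : c ↔ ¬ f)
    (k4 : c ↔ (a ↔ b)) (k5 : f ↔ (d ↔ e)) : False := by
  by_cases d <;> by_cases e <;> by_cases f <;> simp_all

theorem mem_E (h : Cx φ t O) {x : G} :
    x ∈ St1 (V.map φ) t ↔ ∃ v ∈ V, x = φ v ∨ x = t * φ v := by
  have e : ∀ a b, φ a * (t * φ b) = t * φ (a * b) := fun a b => by
    rw [← mul_assoc, h.AC, map_mul, mul_assoc]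
  let S : Subgroup G :=
    { carrier := {x | ∃ v ∈ V, x = φ v ∨ x = t * φ v}
      one_mem' := ⟨1, V.one_mem, Or.inl (map_one φ).symm⟩
      mul_mem' := by
        rintro _ _ ⟨a, ha, rfl | rfl⟩ ⟨b, hb, rfl | rfl⟩ <;> refine ⟨_, V.mul_mem ha hb, ?_⟩
        · exact Or.inl (map_mul φ a b).symm
        · exact Or.inr (e a b)
        · exact Or.inr (by rw [map_mul, mul_assoc])
        · exact Or.inl (by rw [mul_assoc, e, ← mul_assoc, h.tt, one_mul])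
      inv_mem' := by
        rintro _ ⟨a, ha, rfl | rfl⟩ <;> refine ⟨_, V.inv_mem ha, ?_⟩
        · exact Or.inl (map_inv φ a).symm
        · exact Or.inr (by rw [mul_inv_rev, h.tinv, ← map_inv, h.AC]) }
  constructor
  · intro hx
    refine (sup_le ?_ (zpowers_le.2 ⟨1, V.one_mem, Or.inr (by simp)⟩) : _ ≤ S) hx
    rintro _ ⟨v, hv, rfl⟩
    exact ⟨v, hv, Or.inl rfl⟩
  · rintro ⟨v, hv, rfl | rfl⟩
    · exact mem_sup_left ⟨v, hv, rfl⟩
    · exact mul_mem (mem_sup_right (mem_zpowers t)) (mem_sup_left ⟨v, hv, rfl⟩)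

variable (jf : J1F z σ ρ V L) (h : Cx φ t O)
include jf h

theorem E_sq {x : G} (hx : x ∈ St1 (V.map φ) t) : x * x = 1 := by
  obtain ⟨v, hv, rfl | rfl⟩ := (mem_E h).1 hx
  · rw [← map_mul, jf.el v hv, map_one]
  · rw [mul_assoc, ← mul_assoc (φ v), h.AC, mul_assoc, ← map_mul, jf.el v hv, map_one, mul_one, h.tt]

theorem dec {c : G} (hc : c * t = t * c) (h2 : c * c = 1) : ∃ a, c = φ a ∨ c = t * φ a := by
  obtain ⟨α, hα⟩ := h.aut hc
  obtain ⟨a, e⟩ := jf.inn α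
  obtain ⟨o, ho, rfl | rfl⟩ := h.split' hc hα e
  · rw [h.o_one_of jf.base ho (h.oA ho a) (m := 0) (n := 1) ⟨a, by simp⟩ (by simpa [sq] using h2)]
    exact ⟨a, Or.inl (mul_one _)⟩
  · rw [h.o_one_of jf.base ho (x := φ a * t)
      (by rw [mul_assoc, ← h.Ot o ho, ← mul_assoc, h.oA ho, mul_assoc]) (m := 1) (n := 1)
      ⟨a * a, by rw [pow_one, sq, mul_assoc, ← mul_assoc t, ← h.AC, mul_assoc, h.tt, mul_one,
        map_mul]⟩ (by simpa [sq] using h2)]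
    exact ⟨a, Or.inr (by rw [mul_one, h.AC])⟩

omit h in
theorem conj_V {W : Subgroup Γ} (hW : ∀ w ∈ W, w * w = 1) : ∃ c, ∀ w ∈ W, c * w * c⁻¹ ∈ V := by
  have := jf.base.fin
  have k : ∀ {W : Subgroup Γ}, (∀ w ∈ W, w * w = 1) → IsPGroup 2 W := fun hW x =>
    ⟨1, Subtype.ext (by simpa [sq] using hW x x.2)⟩
  obtain ⟨S, hS⟩ := (k jf.el).exists_le_sylow
  obtain ⟨n, hn⟩ := S.isPGroup'.exists_card_eq
  have h1 := card_subgroup_dvd_card (S : Subgroup Γ)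
  rw [jf.card, hn] at h1
  have h2 : n ≤ 3 := by
    by_contra h3
    exact absurd ((pow_dvd_pow 2 (by omega : 4 ≤ n)).trans h1) (by norm_num)
  have h3 : V = S := eq_of_le_of_card_ge hS (by
    rw [hn, jf.cV]; exact Nat.pow_le_pow_right two_pos h2)
  obtain ⟨Q, hQ⟩ := (k hW).exists_le_sylow
  obtain ⟨g, hg⟩ := MulAction.exists_smul_eq Γ Q S
  refine ⟨g, fun x hx => ?_⟩
  rw [h3, ← hg, Sylow.coe_subgroup_smul]
  exact smul_mem_pointwise_smul x (MulAut.conj g) _ (hQ hx)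

theorem burn [Finite G] {s : G} (hs : s ∈ St1 (V.map φ) t) (i : IsConj t s) :
    ∃ n ∈ N[St1 (V.map φ) t], n * t * n⁻¹ = s := by
  obtain ⟨g, rfl⟩ := isConj_iff.1 i
  obtain ⟨c, hc⟩ := conj_V jf
    (W := (St1 (V.map φ) t).comap ((MulAut.conj g).toMonoidHom.comp φ)) fun w hw => by
      have := E_sq jf h hw
      exact (show Function.Injective ((MulAut.conj g).toMonoidHom.comp φ) from
        (MulAut.conj g).injective.comp h.inj) (by rw [map_mul, map_one]; exact this)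
  refine ⟨(φ c * g⁻¹)⁻¹, inv_mem (mem_normalizer_fintype fun x hx => ?_), ?_⟩
  · have e1 := H23.D2.comm_of_invs (E_sq jf h hx) (E_sq jf h hs) (E_sq jf h (mul_mem hx hs))
    have e2 : φ c * g⁻¹ * x * (φ c * g⁻¹)⁻¹ = φ c * (g⁻¹ * x * g) * (φ c)⁻¹ := by group
    obtain ⟨a, e | e⟩ := dec jf h (c := g⁻¹ * x * g)
      (by calc g⁻¹ * x * g * t = g⁻¹ * (x * (g * t * g⁻¹)) * g := by group
          _ = _ := by rw [e1]; group)
      (by calc g⁻¹ * x * g * (g⁻¹ * x * g) = g⁻¹ * (x * x) * g := by group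
          _ = 1 := by rw [E_sq jf h hx]; group)
    · refine (mem_E h).2 ⟨_, hc a ?_, Or.inl (by rw [e2, e, map_mul, map_mul, map_inv])⟩
      change g * φ a * g⁻¹ ∈ St1 (V.map φ) t
      rwa [← e, show g * (g⁻¹ * x * g) * g⁻¹ = x by group]
    · refine (mem_E h).2 ⟨_, hc a ?_, Or.inr (by
        rw [e2, e, map_mul, map_mul, map_inv, ← mul_assoc, h.AC]; group)⟩
      change g * φ a * g⁻¹ ∈ St1 (V.map φ) t
      rw [show g * φ a * g⁻¹ = (g * t * g⁻¹)⁻¹ * x by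
        rw [eq_inv_mul_iff_mul_eq, show x = g * (g⁻¹ * x * g) * g⁻¹ by group, e]; group]
      exact mul_mem (inv_mem hs) hx
  · calc (φ c * g⁻¹)⁻¹ * t * (φ c * g⁻¹)⁻¹⁻¹ = g * (φ c⁻¹ * t) * φ c * g⁻¹ := by
          rw [map_inv]; group
      _ = _ := by rw [h.AC, map_inv]; group

omit jf h in
variable (φ t) in
/-- `y` lies in the component of the centraliser of `x` -/
def R (x y : G) : Prop := ∃ g, g * t * g⁻¹ = x ∧ g⁻¹ * y * g ∈ φ.range

omit jf in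
theorem R_iff (g y : G) : R φ t (g * t * g⁻¹) y ↔ g⁻¹ * y * g ∈ φ.range := by
  refine ⟨?_, fun k => ⟨g, rfl, k⟩⟩
  rintro ⟨m, e, k⟩
  have := (mem_normalizer_iff.1 (h.NJ (g⁻¹ * m) (by
    calc g⁻¹ * m * t = g⁻¹ * (m * t * m⁻¹) * m := by group
      _ = _ := by rw [e]; group)) _).1 k
  rwa [show g⁻¹ * m * (m⁻¹ * y * m) * (g⁻¹ * m)⁻¹ = g⁻¹ * y * g by group] at this

omit jf h in
theorem R_cj {x y : G} (k : R φ t x y) (g : G) : R φ t (g * x * g⁻¹) (g * y * g⁻¹) := by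
  obtain ⟨m, rfl, k⟩ := k
  exact ⟨g * m, by group, by rwa [show (g * m)⁻¹ * (g * y * g⁻¹) * (g * m) = m⁻¹ * y * m by group]⟩

omit jf h in
theorem R_cj_iff (x y g : G) : R φ t (g * x * g⁻¹) (g * y * g⁻¹) ↔ R φ t x y :=
  ⟨fun k => by simpa [mul_assoc] using R_cj k g⁻¹, fun k => R_cj k g⟩

theorem t_nm (a : Γ) : t * φ a ∉ φ.range := fun ⟨b, e⟩ =>
  h.tA jf.base (b * a⁻¹) (by rw [map_mul, e, map_inv, mul_inv_cancel_right])

omit jf in
theorem R_t (y : G) : R φ t t y ↔ y ∈ φ.range := by simpa using R_iff h 1 y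

theorem R_self (x : G) : ¬ R φ t x x := by
  rintro ⟨g, rfl, a, e⟩
  exact h.tA jf.base a (by rw [e]; group)

omit h in
theorem exists_ne (a b c d : Γ) : ∃ v ∈ V, v ≠ a ∧ v ≠ b ∧ v ≠ c ∧ v ≠ d := by
  by_contra! k
  have h1 : (V : Set Γ) ⊆ {a, b, c, d} := fun v hv => by
    by_contra e
    simp only [Set.mem_insert_iff, Set.mem_singleton_iff, not_or] at e
    exact e.2.2.2 (k v hv e.1 e.2.1 e.2.2.1)
  have h2 := Set.ncard_le_ncard h1
  have h3 : (V : Set Γ).ncard = 8 := jf.cV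
  have := Set.ncard_insert_le a {b, c, d}
  have := Set.ncard_insert_le b {c, d}
  have := Set.ncard_insert_le c {d}
  have := Set.ncard_singleton d
  omega

theorem not_all [Finite G] (ha : IsConj t (t * φ z)) (hb : IsConj t (φ z)) : False := by
  have inE : ∀ v ∈ V, φ v ∈ St1 (V.map φ) t := fun v hv => (mem_E h).2 ⟨v, hv, Or.inl rfl⟩
  have tE : t ∈ St1 (V.map φ) t := mem_sup_right (mem_zpowers t)
  have all : ∀ x ∈ St1 (V.map φ) t, x ≠ 1 → ∃ n ∈ N[St1 (V.map φ) t], n * t * n⁻¹ = x :=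
    fun x hx x1 => burn jf h hx (by
      obtain ⟨v, hv, rfl | rfl⟩ := (mem_E h).1 hx
      · exact hb.trans (φ.map_isConj (jf.cls v (jf.el v hv) fun e => x1 (by rw [e, map_one])))
      · by_cases e : v = 1
        · rw [e, map_one, mul_one]
        · exact ha.trans (h.isConj_mul (jf.cls v (jf.el v hv) e)))
  have P1 : ∀ x ∈ St1 (V.map φ) t, x ≠ 1 → ∀ y ∈ St1 (V.map φ) t, ∀ w ∈ St1 (V.map φ) t,
      (R φ t x (y * w) ↔ (R φ t x y ↔ R φ t x w)) := fun x hx x1 y hy w hw => by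
    obtain ⟨n, hn, rfl⟩ := all x hx x1
    rw [R_iff h, R_iff h, R_iff h, show n⁻¹ * (y * w) * n = n⁻¹ * y * n * (n⁻¹ * w * n) by group]
    obtain ⟨a, -, e | e⟩ := (mem_E h).1 ((mem_normalizer_iff''.1 hn y).1 hy) <;>
      obtain ⟨b, -, e' | e'⟩ := (mem_E h).1 ((mem_normalizer_iff''.1 hn w).1 hw) <;> rw [e, e']
    · simp [← map_mul]
    · rw [← mul_assoc, h.AC, mul_assoc, ← map_mul]
      simp [-MonoidHom.mem_range, t_nm jf h, -map_mul, MonoidHom.mem_range.2 ⟨a, rfl⟩]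
    · rw [mul_assoc, ← map_mul]
      simp [-MonoidHom.mem_range, t_nm jf h, -map_mul, MonoidHom.mem_range.2 ⟨b, rfl⟩]
    · rw [mul_assoc, ← mul_assoc (φ a), h.AC, ← mul_assoc, ← mul_assoc, h.tt, one_mul, ← map_mul]
      simp [-MonoidHom.mem_range, t_nm jf h, -map_mul, MonoidHom.mem_range.2 ⟨a * b, rfl⟩]
  have P2 : ∀ x ∈ St1 (V.map φ) t, x ≠ 1 → ∀ y ∈ St1 (V.map φ) t, y ≠ 1 → x ≠ y →
      (R φ t x y ∧ (R φ t y x ↔ R φ t (φ z) t)) ∨
        (¬ R φ t x y ∧ (R φ t y x ↔ R φ t (t * φ z) t)) := fun x hx x1 y hy y1 hxy => by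
    obtain ⟨n, hn, rfl⟩ := all x hx x1
    obtain ⟨a, ha, e⟩ := (mem_E h).1 ((mem_normalizer_iff''.1 hn y).1 hy)
    have a1 : a ≠ 1 := by
      rintro rfl
      rw [map_one, mul_one] at e
      rcases e with e | e
      · exact y1 (by rw [show y = n * (n⁻¹ * y * n) * n⁻¹ by group, e]; group)
      · exact hxy (by rw [← e]; group)
    obtain ⟨c, rfl⟩ := isConj_iff.1 (jf.cls a (jf.el a ha) a1)
    have e1 : n * t * n⁻¹ = n * φ c * t * (n * φ c)⁻¹ := by rw [mul_assoc n (φ c), h.AC]; group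
    rw [R_iff h]
    rcases e with e | e
    · refine Or.inl ⟨⟨_, e.symm⟩, ?_⟩
      rw [← R_cj_iff (φ z) t (n * φ c), ← e1, show n * φ c * φ z * (n * φ c)⁻¹ = y by
        rw [show y = n * (n⁻¹ * y * n) * n⁻¹ by group, e, map_mul, map_mul, map_inv]; group]
    · refine Or.inr ⟨e ▸ t_nm jf h _, ?_⟩
      rw [← R_cj_iff (t * φ z) t (n * φ c), ← e1, show n * φ c * (t * φ z) * (n * φ c)⁻¹ = y by
        rw [show y = n * (n⁻¹ * y * n) * n⁻¹ by group, e, map_mul, map_mul, map_inv,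
          mul_assoc n (φ c), ← mul_assoc (φ c), h.AC]; group]
  have n1 : ∀ v, v ≠ 1 → φ v ≠ 1 := fun v e k => e (h.inj (by rw [k, map_one]))
  have n2 : ∀ v, t * φ v ≠ 1 := fun v k => t_nm jf h v (k ▸ one_mem _)
  have n3 : ∀ v, t ≠ φ v := fun v k => h.tA jf.base v k.symm
  have n4 : ∀ v w, φ v ≠ t * φ w := fun v w k => t_nm jf h w ⟨v, k⟩
  have rt : ∀ v, R φ t t (φ v) := fun v => (R_t h _).2 ⟨v, rfl⟩
  have hz := inE z jf.zV
  have hu := mul_mem tE hz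
  have hα := pr1 (rt z) (P2 _ hz (n1 z jf.z1) _ tE h.t1 (n3 z).symm)
    (P2 _ hu (n2 z) _ hz (n1 z jf.z1) (n4 z z).symm)
    (P1 _ hu (n2 z) _ tE _ hz) (P1 _ hz (n1 z jf.z1) _ tE _ hz) (R_self jf h _) (R_self jf h _)
  have T : ∀ x ∈ St1 (V.map φ) t, x ≠ 1 → ∀ y ∈ St1 (V.map φ) t, y ≠ 1 → x ≠ y →
      (R φ t y x ↔ ¬ R φ t x y) := fun x hx x1 y hy y1 hxy => pr2 hα (P2 x hx x1 y hy y1 hxy)
  obtain ⟨y, hy, y1, yz, -⟩ := exists_ne jf 1 z 1 1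
  obtain ⟨w, hw, w1, wz, wy, wzy⟩ := exists_ne jf 1 z y (z * y)
  have key : ∀ v ∈ V, v ≠ 1 → w ≠ v → (R φ t (t * φ w) (φ v) ↔ ¬ R φ t (φ w) (φ v)) :=
    fun v hv v1 wv => pr3 (T _ (inE v hv) (n1 v v1) _ (mul_mem tE (inE w hw)) (n2 w) (n4 v w))
      (P1 _ (inE v hv) (n1 v v1) _ tE _ (inE w hw))
      (T _ tE h.t1 _ (inE v hv) (n1 v v1) (n3 v))
      (T _ (inE w hw) (n1 w w1) _ (inE v hv) (n1 v v1) fun k => wv (h.inj k)) (rt v)
  have k3 := key _ (V.mul_mem jf.zV hy) (fun k => yz (by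
    rw [eq_inv_of_mul_eq_one_right k, inv_eq_of_mul_eq_one_right (jf.el z jf.zV)])) wzy
  rw [map_mul] at k3
  exact pr4 (key z jf.zV jf.z1 wz) (key y hy y1 wy) k3
    (P1 _ (mul_mem tE (inE w hw)) (n2 w) _ hz _ (inE y hy))
    (P1 _ (inE w hw) (n1 w w1) _ hz _ (inE y hy))

theorem b_a [Finite G] (hb : IsConj t (φ z)) : IsConj t (t * φ z) := by
  have inE : ∀ v ∈ V, φ v ∈ St1 (V.map φ) t := fun v hv => (mem_E h).2 ⟨v, hv, Or.inl rfl⟩
  obtain ⟨n, hn, e⟩ := burn jf h (inE z jf.zV) hb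
  obtain ⟨y, hy, y1, yz, -⟩ := exists_ne jf 1 z 1 1
  have k : ∀ v ∈ V, v ≠ 1 → IsConj t (n⁻¹ * φ v * n) := fun v hv v1 =>
    (hb.trans (φ.map_isConj (jf.cls v (jf.el v hv) v1))).trans (isConj_iff.2 ⟨n⁻¹, by simp⟩)
  have k1 := k y hy y1
  have k2 := k _ (V.mul_mem jf.zV hy) fun k => yz (by
    rw [eq_inv_of_mul_eq_one_right k, inv_eq_of_mul_eq_one_right (jf.el z jf.zV)])
  rw [map_mul, ← e, show n⁻¹ * (n * t * n⁻¹ * φ y) * n = t * (n⁻¹ * φ y * n) by group] at k2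
  obtain ⟨a, ha, e'⟩ := (mem_E h).1 ((mem_normalizer_iff''.1 hn _).1 (inE y hy))
  have a1 : a ≠ 1 := by
    rintro rfl
    rw [map_one, mul_one] at e'
    rcases e' with e' | e'
    · exact y1 (h.inj (by
        rw [show φ y = n * (n⁻¹ * φ y * n) * n⁻¹ by group, e', map_one]; group))
    · exact yz (h.inj (by rw [← e, ← e']; group))
  have k3 := (h.isConj_mul (jf.cls a (jf.el a ha) a1)).symm
  rcases e' with e' | e'
  · exact (e' ▸ k2).trans k3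
  · exact (e' ▸ k1).trans k3

omit jf h in
theorem je : JEStmt.{u} := by
  intro Γ _ G _ _ φ t O z σ ρ V L jf h ⟨a, a2, a1, ha⟩
  have hb : ¬ IsConj t (φ z) := fun hb => not_all jf h (b_a jf h hb) hb
  have nc : ∀ a, ¬ IsConj t (φ a) := fun a i => by
    obtain ⟨g, e⟩ := isConj_iff.1 i
    refine hb (i.trans (φ.map_isConj (jf.cls a (h.inj ?_) ?_).symm))
    · rw [map_mul, ← e, (h.conj g).tt, map_one]
    · rintro rfl
      exact h.t1 (by simpa using i)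
  refine ⟨nc, fun v hv => ?_⟩
  by_cases v1 : v = 1
  · exact ⟨1, one_mem _, by simp [v1]⟩
  · exact burn jf h ((mem_E h).2 ⟨v, hv, Or.inr rfl⟩) ((ha.resolve_right (nc a)).trans
      (h.isConj_mul ((jf.cls a a2 a1).symm.trans (jf.cls v (jf.el v hv) v1))))

end Cfsg.Agent.H94.J1E
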