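import Cfsg.Agent.H31.SpSb2
import Cfsg.Agent.H66.T6Defs2

/-!
# The start for a transvection, type `Sp₆(2)`
-/

set_option autoImplicit false
set_option linter.unusedSectionVars false

namespace Cfsg.Agent.H66.T6.H94.Sb

open Cfsg Cfsg.Agent.H63 Cfsg.Agent.H63.SL Cfsg.Agent.H26 Cfsg.Agent.H68.Sp Cfsg.Agent.H29.SpK
open Cfsg.Agent.H78 hiding tv
open Cfsg.Agent.H31.SpSb (ET_inj exists_three li_pair)
open Cfsg.Agent.H94.F4 (c1)
open Subgroup Module
open scoped commutatorElement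

universe u v

variable {F V : Type v} [Field F] [Finite F] [AddCommGroup V] [Module F V] [FiniteDimensional F V]
  {G : Type u} [Group G] [Finite G] {P : PForm F V} {φ : P.E →* G} {L : Subgroup G} {k : ℕ} {t : G}

/-- The elements of `C(t) ∩ C(τ_v)`. -/
theorem decH (c : Ctx P φ L k t) {v : V} (hv : v ≠ 0) {y : G}
    (hy : y ∈ C1[t] ⊓ C1[H68.Sp.tv P φ v 1]) :
    ∃ e : P.E, e.1 v = v ∧ ∀ x ∈ L, y * x * y⁻¹ = φ e * x * (φ e)⁻¹ := by
  obtain ⟨e, κ, hκ, he, rfl⟩ := c.nf.cT y (c.tc.cN hy.1) v hv fun b => by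
    rcases c.eq01 b with rfl | rfl
    · rw [H29.SpK.tv_zero]; exact Commute.one_right _
    · exact c1.1 hy.2
  refine ⟨e, he, fun x hx => ?_⟩
  have h1 : x * κ = κ * x := hκ x hx
  calc φ e * κ * x * (φ e * κ)⁻¹ = φ e * (κ * x) * κ⁻¹ * (φ e)⁻¹ := by group
    _ = _ := by rw [← h1]; group

theorem YH (c : Ctx P φ L k t) (v : V) : YW P φ {v} ≤ C1[t] ⊓ C1[H68.Sp.tv P φ v 1] := by
  have h : SG P φ L k := c.toSG
  rintro _ ⟨e, he, rfl⟩
  exact ⟨c1.2 (c.tc.tc _ (φ_mem h e)), c1.2 (comm_of_fix h (he v rfl) (map_zero _) 1)⟩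

/-- The swap normalises `C(t) ∩ C(z)`. -/
theorem nrmH {z g : G} (hg : Swap t z g) : g ∈ N[C1[t] ⊓ C1[z]] := by
  refine mem_normalizer_fintype fun y hy => ?_
  have h1 : Commute (g * y * g⁻¹) (g * t * g⁻¹) := (c1.1 hy.1).conj g
  have h2 : Commute (g * y * g⁻¹) (g * z * g⁻¹) := (c1.1 hy.2).conj g
  rw [hg.2.eq, mul_inv_cancel_right] at h2
  rw [hg.1] at h1
  have h3 := h1.mul_right h2.inv_right
  rw [mul_inv_cancel_right] at h3
  exact ⟨c1.2 h3, c1.2 h2⟩

/-- The swap normalises the radical. -/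
theorem nrmQ (c : Ctx P φ L k t) {v : V} (hv : v ≠ 0) {g : G}
    (hg : Swap t (H68.Sp.tv P φ v 1) g) : g ∈ N[QW P φ {v}] := by
  have h : SG P φ L k := c.toSG
  have hH := nrmH hg
  obtain ⟨-, -, e3, -, e5⟩ := c.g2.el {v} (by rintro _ rfl _ rfl; exact fs h _)
  have hQ : ∀ y ∈ C1[t] ⊓ C1[H68.Sp.tv P φ v 1], ∀ x ∈ QW P φ {v},
      y * x * y⁻¹ ∈ QW P φ {v} := by
    intro y hy x hx
    obtain ⟨e, he, h1⟩ := decH c hv hy
    obtain ⟨y, b, hy, rfl⟩ := (c.g2.crdQ v x).1 hx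
    rw [h1 (ET P φ v y b) (φ_mem h _), conj_ET h, he]
    exact (c.g2.crdQ v _).2 ⟨_, b, by rw [← hy, ← ef e y v, he], rfl⟩
  have hc : QW P φ {v} ≤ ⁅C1[t] ⊓ C1[H68.Sp.tv P φ v 1], C1[t] ⊓ C1[H68.Sp.tv P φ v 1]⁆ := by
    rw [← c.g5.cq1 v hv]
    exact commutator_mono (e3.trans (YH c v)) (YH c v)
  have hm : cj g (C1[t] ⊓ C1[H68.Sp.tv P φ v 1]) ≤ C1[t] ⊓ C1[H68.Sp.tv P φ v 1] := by
    rintro _ ⟨x, hx, rfl⟩
    exact (mem_normalizer_iff.1 hH x).1 hx
  have := c.g5.o21 v hv (cj g (QW P φ {v})) (e5.map _) (by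
    rintro _ ⟨x, hx, rfl⟩
    have h1 : g * x * g⁻¹ ∈
        ⁅C1[t] ⊓ C1[H68.Sp.tv P φ v 1], C1[t] ⊓ C1[H68.Sp.tv P φ v 1]⁆ := by
      have h2 : g * x * g⁻¹ ∈
          cj g ⁅C1[t] ⊓ C1[H68.Sp.tv P φ v 1], C1[t] ⊓ C1[H68.Sp.tv P φ v 1]⁆ := ⟨x, hc hx, rfl⟩
      rw [cj_def, map_commutator] at h2
      exact commutator_mono hm hm h2
    obtain ⟨n, hn⟩ := e5 ⟨x, hx⟩
    have h3 : g * x * g⁻¹ ∈ L := c.oc1 _ inf_le_left _ h1
      ⟨n, by rw [conj_pow, show x ^ 2 ^ n = 1 from congrArg Subtype.val hn]; group⟩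
    obtain ⟨e, he⟩ := exists_φ h h3
    refine ⟨e, ?_, he⟩
    rintro _ rfl
    refine c.nf.ct e _ 1 hv one_ne_zero ?_
    rw [he]
    exact c1.1 (hm ⟨x, YH c _ (e3 hx), rfl⟩).2) fun y hy => mem_normalizer_fintype (by
      rintro _ ⟨x, hx, rfl⟩
      refine ⟨_, hQ (g⁻¹ * y * g⁻¹⁻¹) ((mem_normalizer_iff.1 (inv_mem hH) y).1 (YH c v hy)) x hx,
        ?_⟩
      change g * _ * g⁻¹ = y * (g * x * g⁻¹) * y⁻¹
      group)
  exact mem_normalizer_fintype fun x hx => this ⟨x, hx, rfl⟩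

/-- The swap preserves the short root elements of the radical. -/
theorem presN (c : Ctx P φ L k t) (h2 : ∀ b : F, b = 0 ∨ b = 1) {v : V} (hv : v ≠ 0) {g : G}
    (hg : Swap t (H68.Sp.tv P φ v 1) g) {y : V} (hy : P.f v y = 0) :
    ∃ y', P.f v y' = 0 ∧ g * Es P φ v y * g⁻¹ = Es P φ v y' := by
  have h : SG P φ L k := c.toSG
  have hH := nrmH hg
  have hQ := nrmQ c hv hg
  have ex : ∀ y, ∃ y' b, P.f v y = 0 → P.f v y' = 0 ∧ g * Es P φ v y * g⁻¹ = ET P φ v y' b :=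
    fun y => by
      by_cases hy : P.f v y = 0
      · obtain ⟨y', b, h1, h2⟩ := (c.g2.crdQ v _).1 ((mem_normalizer_iff.1 hQ _).1
          ((c.g2.crdQ v _).2 ⟨y, 0, by rwa [fc h], rfl⟩))
        exact ⟨y', b, fun _ => ⟨by rwa [fc h], h2⟩⟩
      · exact ⟨0, 0, fun e => absurd e hy⟩
  choose A B hAB using ex
  have gz : ∀ b, g * H68.Sp.tv P φ v b * g⁻¹ = H68.Sp.tv P φ v b := fun b => by
    rcases h2 b with rfl | rfl
    · rw [H29.SpK.tv_zero]; group
    · rw [hg.2.eq, mul_inv_cancel_right]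
  have const : ∀ y y', P.f v y = 0 → P.f v y' = 0 → y ∉ F ∙ v → y' ∉ F ∙ v → B y' = B y := by
    intro y y' hy hy' n n'
    obtain ⟨e, he⟩ := c.g1.witt ![v, y] ![v, y'] (li_pair hv n) (li_pair hv n') fun i j => by
      fin_cases i <;> fin_cases j <;> simp [fs h, hy, hy', fc h y v, fc h y' v]
    have e0 : e.1 v = v := he 0
    have e1 : e.1 y = y' := he 1
    obtain ⟨e', e3, e2⟩ := decH c hv ((mem_normalizer_iff.1 hH (φ e)).1
      (YH c v ⟨e, by rintro _ rfl; exact e0, rfl⟩))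
    refine ET_inj h hv (hAB y' hy').1 (y' := e'.1 (A y)) (by rw [← (hAB y hy).1, ← ef e' v (A y), e3]) ?_
    have e4 := conj_ET h e' v (A y) (B y)
    rw [e3, ← e2 (ET P φ v (A y) (B y)) (φ_mem h _), ← (hAB y hy).2] at e4
    have e5 := conj_Es h e v y
    rw [e0, e1] at e5
    rw [← (hAB y' hy').2, ← e4, ← e5]
    group
  have add : ∀ y y', P.f v y = 0 → P.f v y' = 0 → ET P φ v (A (y + y')) (B (y + y') + P.f y y') =
      ET P φ v (A y + A y') (B y + B y' + P.f (A y) (A y')) := by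
    intro y y' hy hy'
    have hs : P.f v (y + y') = 0 := by rw [P.f_add_right, hy, hy', add_zero]
    rw [← ET_mul h (hAB y hy).1 (hAB y' hy').1, ← (hAB y hy).2, ← (hAB y' hy').2]
    have e1 : ET P φ v (A (y + y')) (B (y + y') + P.f y y') =
        ET P φ v (A (y + y')) (B (y + y')) * H68.Sp.tv P φ v (P.f y y') := by
      rw [H68.Sp.tv, ET_mul h (hAB _ hs).1 (P.f_zero_right v), add_zero, P.f_zero_right, add_zero]
    rw [e1, ← (hAB _ hs).2, ← gz, Es_add h hy hy']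
    have e2 := tv_sq (φ := φ) h v (P.f y y')
    calc _ = g * (Es P φ v y * Es P φ v y' *
        (H68.Sp.tv P φ v (P.f y y') * H68.Sp.tv P φ v (P.f y y'))) * g⁻¹ := by group
      _ = _ := by rw [e2]; group
  have addB : ∀ y y', P.f v y = 0 → P.f v y' = 0 →
      B (y + y') + P.f y y' = B y + B y' + P.f (A y) (A y') := fun y y' hy hy' =>
    ET_inj h hv (hAB _ (by rw [P.f_add_right, hy, hy', add_zero])).1
      (by rw [P.f_add_right, (hAB y hy).1, (hAB y' hy').1, add_zero]) (add y y' hy hy')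
  have addA : ∀ y y', P.f v y = 0 → P.f v y' = 0 → ∀ w, P.f v w = 0 →
      P.f w (A (y + y')) = P.f w (A y) + P.f w (A y') := fun y y' hy hy' w hw => by
    have hs : P.f v (y + y') = 0 := by rw [P.f_add_right, hy, hy', add_zero]
    have h3 : P.f v (A y + A y') = 0 := by rw [P.f_add_right, (hAB y hy).1, (hAB y' hy').1, add_zero]
    have h1 := ET_mul h (φ := φ) (hAB _ hs).1 h3 (B (y + y') + P.f y y')
      (B y + B y' + P.f (A y) (A y'))
    rw [add y y' hy hy', ET_sq h] at h1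
    obtain ⟨-, r, h4⟩ := ET_eq_one h hv (by rw [P.f_add_right, (hAB _ hs).1, h3, add_zero]) h1.symm
    have h5 := congrArg (P.f w) h4
    rw [P.f_add_right, P.f_add_right, fr h, fc h w v, hw, mul_zero] at h5
    rw [← sub_eq_zero, fsub h, h5]
  refine ⟨A y, (hAB y hy).1, ?_⟩
  by_cases n : y ∈ F ∙ v
  · obtain ⟨r, rfl⟩ := Submodule.mem_span_singleton.1 n
    have e := (hAB _ hy).2
    rw [Es_self h, mul_one, mul_inv_cancel] at e
    rw [(hAB _ hy).2, (ET_eq_one h hv (hAB _ hy).1 e.symm).1]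
  obtain ⟨y1, y2, y3, a1, a2, a3, b1, b2, b3⟩ := exists_three h c.k3 v
  have m1 : y1 ∈ (F ∙ v) ⊔ F ∙ y1 := Submodule.mem_sup_right (Submodule.mem_span_singleton_self _)
  have m2 : y2 ∈ ((F ∙ v) ⊔ F ∙ y1) ⊔ F ∙ y2 :=
    Submodule.mem_sup_right (Submodule.mem_span_singleton_self _)
  have m3 := Submodule.mem_sup_left (T := F ∙ y2) m1
  have l1 : (F ∙ v) ≤ ((F ∙ v) ⊔ F ∙ y1) ⊔ F ∙ y2 := le_sup_left.trans le_sup_left
  have s12 : P.f v (y1 + y2) = 0 := by rw [P.f_add_right, a1, a2, add_zero]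
  have s13 : P.f v (y1 + y3) = 0 := by rw [P.f_add_right, a1, a3, add_zero]
  have s23 : P.f v (y2 + y3) = 0 := by rw [P.f_add_right, a2, a3, add_zero]
  have s123 : P.f v (y1 + (y2 + y3)) = 0 := by rw [P.f_add_right, a1, s23, add_zero]
  have c1 := const y y1 hy a1 n b1
  have c2 := const y y2 hy a2 n fun e => b2 (Submodule.mem_sup_left e)
  have c3 := const y y3 hy a3 n fun e => b3 (l1 e)
  have c12 := const y _ hy s12 n fun e => b2 (by
    simpa using sub_mem (Submodule.mem_sup_left e) m1)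
  have c13 := const y _ hy s13 n fun e => b3 (by simpa using sub_mem (l1 e) m3)
  have c23 := const y _ hy s23 n fun e => b3 (by simpa using sub_mem (l1 e) m2)
  have c123 := const y _ hy s123 n fun e => b3 (by
    simpa using sub_mem (sub_mem (l1 e) m3) m2)
  have d12 := addB y1 y2 a1 a2
  have d13 := addB y1 y3 a1 a3
  have d123 := addB y1 _ a1 s23
  rw [addA y2 y3 a2 a3 _ (hAB y1 a1).1, P.f_add_right, c123, c1, c23] at d123
  rw [c12, c1, c2] at d12
  rw [c13, c1, c3] at d13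
  have : B y = 0 := by linear_combination d123 - d12 - d13
  rw [(hAB y hy).2, this]

/-- **SB2** -/
theorem sb2 : SBStmt.{u, v} (fun q => q = 2) := by
  intro F V _ _ _ _ _ G _ _ P φ L k t c hq v a hv ha g hg
  classical
  have h : SG P φ L k := c.toSG
  have h2 : ∀ b : F, b = 0 ∨ b = 1 := fun b => by
    obtain ⟨x, -, hx⟩ := (Nat.card_eq_two_iff' (0 : F)).1 hq
    by_cases hb : b = 0
    exacts [Or.inl hb, Or.inr ((hx b hb).trans (hx 1 one_ne_zero).symm)]
  obtain rfl : a = 1 := (h2 a).resolve_left ha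
  have gz : ∀ b, Commute g (H68.Sp.tv P φ v b) := fun b => by
    rcases h2 b with rfl | rfl
    · rw [H29.SpK.tv_zero]; exact Commute.one_right _
    · exact hg.2
  have ex : ∀ y, ∃ y', (y = v → y' = v) ∧
      (P.f v y = 0 → P.f v y' = 0 ∧ g * Es P φ v y * g⁻¹ = Es P φ v y') := fun y => by
    by_cases e : y = v
    · refine ⟨v, fun _ => rfl, fun _ => ⟨fs h v, ?_⟩⟩
      have := Es_self h (φ := φ) v 1
      rw [one_smul] at this
      rw [e, this]; group
    by_cases hy : P.f v y = 0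
    · obtain ⟨y', h1⟩ := presN c h2 hv hg hy
      exact ⟨y', fun e' => absurd e' e, fun _ => h1⟩
    · exact ⟨0, fun e' => absurd e' e, fun e' => absurd e' hy⟩
  choose A hv' hA using ex
  have fA : ∀ y y', P.f v y = 0 → P.f v y' = 0 → P.f (A y) (A y') = P.f y y' := by
    intro y y' hy hy'
    have hs : P.f v (y + y') = 0 := by rw [P.f_add_right, hy, hy', add_zero]
    refine ET_inj h hv (y := A y + A y') (y' := A (y + y'))
      (by rw [P.f_add_right, (hA y hy).1, (hA y' hy').1, add_zero]) (hA _ hs).1 ?_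
    rw [← Es_mul h (hA y hy).1 (hA y' hy').1, ← (hA y hy).2, ← (hA y' hy').2,
      ET_split' h (hA _ hs).1, ← (hA _ hs).2, mul_assoc (g * Es P φ v (y + y')), (gz _).inv_left.eq,
      ← mul_assoc (g * Es P φ v (y + y')), mul_assoc g _ (H68.Sp.tv P φ v _), ← ET_split' h hs, ← Es_mul h hy hy']
    group
  have k3 := c.k3
  let b0 : BI k := (⟨0, by omega⟩, false)
  obtain ⟨Fr, -, hF⟩ := c.g1.fr ![v] ![b0] (fun i j _ => Subsingleton.elim i j)
    (by simpa using hv) fun i j => by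
      fin_cases i; fin_cases j; simp [fs h, ng, b0]
  have e0 : Fr.e b0 = v := hF 0
  let σ := (Fintype.equivFin {b : BI k // b ≠ ng b0}).symm
  have orth : ∀ b, b ≠ ng b0 → P.f v (Fr.e b) = 0 := fun b hb => e0 ▸ Fr.orth _ _ hb
  have n0 : b0 ≠ ng b0 := by simp [ng, b0]
  obtain ⟨e, he⟩ := c.g1.witt (fun i => Fr.e (σ i)) (fun i => A (Fr.e (σ i)))
    ((c.g1.li Fr).comp _ (Subtype.val_injective.comp σ.injective))
    (Fintype.linearIndependent_iff.2 fun s hs => by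
      have z : ∀ i, (σ i).1 ≠ b0 → s i = 0 := fun i hi => by
        have hn : ng (σ i).1 ≠ ng b0 := fun e => hi (by rw [← ng_ng (σ i).1, e, ng_ng])
        have := congrArg (P.fL (A (Fr.e (ng (σ i).1)))) hs
        rw [map_sum, map_zero, Finset.sum_eq_single i] at this
        · rw [map_smul, PForm.fL_apply, fA _ _ (orth _ (σ i).2) (orth _ hn), smul_eq_mul] at this
          exact (mul_eq_zero.1 this).resolve_right (Fr.pair _)
        · intro j _ hj
          rw [map_smul, PForm.fL_apply, fA _ _ (orth _ (σ j).2) (orth _ hn), Fr.orth, smul_zero]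
          intro e
          exact hj (σ.injective (Subtype.ext (by rw [← ng_ng (σ j).1, ← e, ng_ng])))
        · simp
      intro i
      by_cases hi : (σ i).1 = b0
      · rw [Finset.sum_eq_single i, hi, e0, hv' v rfl] at hs
        · exact (smul_eq_zero.1 hs).resolve_right hv
        · intro j _ hj
          rw [z j fun e => hj (σ.injective (Subtype.ext (e.trans hi.symm))), zero_smul]
        · simp
      · exact z i hi)
    fun i j => (fA _ _ (orth _ (σ i).2) (orth _ (σ j).2)).symm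
  have he' : ∀ b, b ≠ ng b0 → e.1 (Fr.e b) = A (Fr.e b) := fun b hb => by
    simpa using he (σ.symm ⟨b, hb⟩)
  have ev : e.1 v = v := by
    have := he' b0 n0
    rwa [e0, hv' v rfl] at this
  have pz : ∀ b, Commute ((φ e)⁻¹ * g) (H68.Sp.tv P φ v b) := fun b =>
    (comm_of_fix h ev (map_zero _) b).inv_left.mul_left (gz b)
  have pE : ∀ y ∈ Submodule.span F (Fr.e '' {b | b ≠ ng b0}),
      P.f v y = 0 ∧ Commute ((φ e)⁻¹ * g) (Es P φ v y) := fun y hy => by
    induction hy using Submodule.span_induction with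
    | mem x hx =>
      obtain ⟨b, hb, rfl⟩ := hx
      refine ⟨orth b hb, ?_⟩
      have e1 := conj_Es h e v (Fr.e b)
      rw [ev, he' b hb, ← (hA _ (orth b hb)).2] at e1
      rw [Commute, SemiconjBy, ← mul_inv_eq_iff_eq_mul]
      calc _ = (φ e)⁻¹ * (g * Es P φ v (Fr.e b) * g⁻¹) * φ e := by group
        _ = _ := by rw [← e1]; group
    | zero => exact ⟨P.f_zero_right v, by rw [Es_zero]; exact Commute.one_right _⟩
    | add x y _ _ hx hy =>
      exact ⟨by rw [P.f_add_right, hx.1, hy.1, add_zero], by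
        rw [Es_add h hx.1 hy.1]; exact (hx.2.mul_right hy.2).mul_right (pz _)⟩
    | smul r x _ hx =>
      rcases h2 r with rfl | rfl
      · rw [zero_smul]; exact ⟨P.f_zero_right v, by rw [Es_zero]; exact Commute.one_right _⟩
      · rwa [one_smul]
  refine ⟨v, hv, (φ e)⁻¹ * g, fun x hx => ?_, 1, one_ne_zero, ?_⟩
  · obtain ⟨y, b, hy, rfl⟩ := (c.g2.crdQ v x).1 hx
    have hy' : y ∈ Submodule.span F (Fr.e '' {b | b ≠ ng b0}) := by
      have := Fr.sub_sum_mem y
      rw [c.g1.v0, Submodule.mem_bot, sub_eq_zero] at this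
      rw [this]
      refine Submodule.sum_mem _ fun b _ => ?_
      by_cases hb : b = ng b0
      · rw [hb, ng_ng, e0, hy, zero_div, zero_smul]; exact zero_mem _
      · exact Submodule.smul_mem _ _ (Submodule.subset_span ⟨b, hb, rfl⟩)
    rw [ET_split' h (pE y hy').1]
    exact ((pE y hy').2.mul_right (pz b)).eq.symm
  · have e1 : Commute (φ e) (t * H68.Sp.tv P φ v 1) :=
      Commute.mul_right (c.tc.tc _ (φ_mem h e)) (comm_of_fix h ev (map_zero _) 1)
    calc _ = (φ e)⁻¹ * (g * t * g⁻¹) * φ e := by group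
      _ = _ := by rw [hg.1, mul_assoc, ← e1.eq, inv_mul_cancel_left]

end Cfsg.Agent.H66.T6.H94.Sb
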