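import Cfsg.Agent.H96.D4Defs
import Cfsg.Agent.H10.StronglyEmbedded

/-!
# Project D4F: the automizer of `Q` in characteristic two
-/

set_option autoImplicit false
set_option linter.unusedSectionVars false

namespace Cfsg.Agent.H94.AqT

open Cfsg Cfsg.Agent.H96.DF Subgroup

universe u

variable {F K : Type u} [Field F] [Field K] [Algebra F K] {C : Tri F K}

/-- An alternating form on a space of dimension three has a radical. -/
theorem alt_rad (h3 : Module.finrank F K = 3) (B : K →ₗ[F] K →ₗ[F] F) (h : ∀ k, B k k = 0) :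
    ∃ k, k ≠ 0 ∧ ∀ k', B k k' = 0 := by
  have : Module.Finite F K := Module.finite_of_finrank_pos (by omega)
  let b := Module.finBasisOfFinrankEq F K h3
  have sk : ∀ x y, B x y = -B y x := fun x y => by
    have := h (x + y)
    simp only [map_add, LinearMap.add_apply, h, zero_add, add_zero] at this
    linear_combination this
  have ext : ∀ k, B k (b 0) = 0 → B k (b 1) = 0 → B k (b 2) = 0 → ∀ k', B k k' = 0 :=
    fun k h0 h1 h2 => LinearMap.congr_fun (b.ext (f₁ := B k) (f₂ := 0) fun i => by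
      fin_cases i <;> assumption)
  by_cases e : B (b 1) (b 2) • b 0 + B (b 2) (b 0) • b 1 + B (b 0) (b 1) • b 2 = 0
  · have := Fintype.linearIndependent_iff.1 b.linearIndependent
      ![B (b 1) (b 2), B (b 2) (b 0), B (b 0) (b 1)] (by simpa [Fin.sum_univ_three] using e)
    exact ⟨b 0, b.ne_zero 0, ext _ (h _) (this 2) (by rw [sk, show B (b 2) (b 0) = 0 from this 1, neg_zero])⟩
  · refine ⟨_, e, ext _ ?_ ?_ ?_⟩ <;>
      simp only [map_add, map_smul, LinearMap.add_apply, LinearMap.smul_apply, smul_eq_mul, h]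
    · rw [sk (b 1) (b 0)]; ring
    · rw [sk (b 2) (b 1)]; ring
    · rw [sk (b 0) (b 2)]; ring

def V3 : Submodule F (V F K) where
  carrier := {v | v.2.2.2 = 0}
  zero_mem' := rfl
  add_mem' := fun {v w} (h : v.2.2.2 = 0) (e : w.2.2.2 = 0) => show (v + w).2.2.2 = 0 by simp [h, e]
  smul_mem' := fun c v (h : v.2.2.2 = 0) => show (c • v).2.2.2 = 0 by simp [h]

def V2 : Submodule F (V F K) where
  carrier := {v | v.2.2.1 = 0 ∧ v.2.2.2 = 0}
  zero_mem' := ⟨rfl, rfl⟩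
  add_mem' := fun {v w} ⟨_, _⟩ ⟨_, _⟩ => by simp [*]
  smul_mem' := fun c v ⟨_, _⟩ => by simp [*]

def V1 : Submodule F (V F K) where
  carrier := {v | v.2.1 = 0 ∧ v.2.2.1 = 0 ∧ v.2.2.2 = 0}
  zero_mem' := ⟨rfl, rfl, rfl⟩
  add_mem' := fun {v w} ⟨_, _, _⟩ ⟨_, _, _⟩ => by simp [*]
  smul_mem' := fun c v ⟨_, _, _⟩ => by simp [*]

theorem mem3 {v : V F K} : v ∈ V3 ↔ v.2.2.2 = 0 := Iff.rfl
theorem mem2 {v : V F K} : v ∈ V2 ↔ v.2.2.1 = 0 ∧ v.2.2.2 = 0 := Iff.rfl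
theorem mem1 {v : V F K} : v ∈ V1 ↔ v.2.1 = 0 ∧ v.2.2.1 = 0 ∧ v.2.2.2 = 0 := Iff.rfl

theorem eq1 {v : V F K} (h : v ∈ V1) : v = v.1 • e0 := by
  obtain ⟨a, x, y, w⟩ := v
  obtain ⟨rfl, rfl, rfl⟩ := h
  simp [e0]

theorem ne0 {g : V F K ≃ₗ[F] V F K} (h : g e0 ∈ V1) : (g e0).1 ≠ 0 := fun e => by
  have := eq1 h
  rw [e, zero_smul, LinearEquiv.map_eq_zero_iff] at this
  simp [e0] at this

/-- `d` acts trivially on `A / B`. -/
def St (d : V F K ≃ₗ[F] V F K) (A B : Submodule F (V F K)) : Prop := ∀ v ∈ A, d v - v ∈ B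

section St

variable {d d' n : V F K ≃ₗ[F] V F K} {A B B' : Submodule F (V F K)}

theorem St.mul (h : St d A B) (h' : St d' A B) (le : B ≤ A) : St (d * d') A B := fun v hv => by
  have := B.add_mem (h _ (A.add_mem hv (le (h' v hv)))) (h' v hv)
  simpa using this

theorem St.conj (h : St d A B) (e : n * n = 1) (hA : ∀ v ∈ A, n v ∈ A) (hB : ∀ v ∈ B, n v ∈ B) :
    St (n * d * n) A B := fun v hv => by
  have := hB _ (h _ (hA v hv))
  rwa [map_sub, show n (n v) = v from LinearEquiv.congr_fun e v] at this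

theorem St.sq (h2 : (2 : F) = 0) (h : St d A B) (h' : St d B B') : St (d * d) A B' := fun v hv => by
  have := h' _ (h v hv)
  have e : (d * d) v - v = d (d v - v) - (d v - v) + (2 : F) • (d v - v) := by
    rw [map_sub, two_smul]; simp only [LinearEquiv.mul_apply]; abel
  rw [e, h2, zero_smul, add_zero]
  exact this

end St

theorem ρ_inj {s t : K} (h : ρ C s = ρ C t) : s = t := by
  simpa [ρ_apply, rmap, e3] using congrArg (fun d => (d e3).2.2.1) h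

theorem ρ_e0 (t : K) : ρ C t e0 = e0 := by simp [ρ_apply, rmap, e0]

theorem θ_sh (θ : K ≃ₐ[F] K) (a : K) : θ (C.sh a) = C.sh (θ a) := by
  simp only [Tri.sh, map_mul, C.frob, map_pow]

theorem nv_rho (t : K) : NV C (ρ C t) := fun s =>
  ⟨s, by rw [← ρ_add, add_comm, ρ_add, mul_inv_cancel_right]⟩

theorem nv_mul {d e : V F K ≃ₗ[F] V F K} (h : NV C d) (h' : NV C e) : NV C (d * e) := fun t => by
  obtain ⟨s, hs⟩ := h' t
  obtain ⟨r, hr⟩ := h s
  exact ⟨r, by rw [← hr, ← hs]; group⟩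

/-- The explicit form of the members of the Borel subgroup. -/
def Fm (C : Tri F K) (k : V F K ≃ₗ[F] V F K) (t l : K) (m : F) (θ : K ≃ₐ[F] K) : Prop :=
  l ≠ 0 ∧ m ≠ 0 ∧ ∀ v, k v = rmap C t (vmap C l m (v.1, θ v.2.1, θ v.2.2.1, v.2.2.2))

variable [Finite K] [CharP F 2] {D : Subgroup (V F K ≃ₗ[F] V F K)}

theorem twoF : (2 : F) = 0 := CharP.cast_eq_zero F 2

theorem addK (_ : Tri F K) (t : K) : t + t = 0 := by rw [← two_smul F, twoF, zero_smul]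

theorem ρ_sq (t : K) : ρ C t * ρ C t = 1 := by rw [← ρ_add, addK C, ρ_zero]

theorem ρ_ord {t : K} (h : t ≠ 0) : orderOf (ρ C t) = 2 :=
  orderOf_eq_prime (by rw [sq, ρ_sq]) fun e => h (ρ_inj (e.trans (ρ_zero C).symm))

theorem exists_off (C : Tri F K) (y : K) : ∃ y', y' ≠ 0 ∧ ∀ c : F, y' ≠ c • y := by
  have : Finite F := Finite.of_injective _ (algebraMap F K).injective
  by_contra! h
  have h1 := Nat.card_le_card_of_surjective (fun c : F => c • y) fun a => by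
    rcases eq_or_ne a 0 with rfl | e
    · exact ⟨0, zero_smul _ _⟩
    · obtain ⟨c, hc⟩ := h a e
      exact ⟨c, hc.symm⟩
  have h2 : 1 < Nat.card F := Finite.one_lt_card
  rw [C.card] at h1
  exact absurd h1 (not_le.2 (lt_self_pow₀ h2 (by norm_num)))

instance : Finite (V F K ≃ₗ[F] V F K) :=
  have : Finite F := Finite.of_injective _ (algebraMap F K).injective
  Finite.of_injective _ DFunLike.coe_injective

variable (h : DV C 2 D)
include h

theorem nv_inv {d : V F K ≃ₗ[F] V F K} (hd : d ∈ D) (k : NV C d) : NV C d⁻¹ := by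
  obtain ⟨s, hs⟩ := k 1
  refine h.ti _ (inv_mem hd) s 1 ?_ (by rw [← hs]; group)
  rintro rfl
  rw [ρ_zero, conj_eq_one_iff, ← ρ_zero C] at hs
  exact one_ne_zero (ρ_inj hs)

theorem fm {d : V F K ≃ₗ[F] V F K} (hd : d ∈ D) (k : NV C d) : ∃ t l m θ, Fm C d t l m θ := by
  obtain ⟨t, c, θ, rfl, -⟩ := h.nm d hd k
  exact ⟨t, c.1, c.2, θ, c.1.ne_zero, c.2.ne_zero, fun _ => rfl⟩

theorem nv1 {d : V F K ≃ₗ[F] V F K} (hd : d ∈ D) (k : NV C d) : ∃ c : F, d e0 = c • e0 := by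
  obtain ⟨t, l, m, θ, -, -, e⟩ := fm h hd k
  exact ⟨C.N l * m, by simp [e, rmap, vmap, e0]⟩

theorem nv2 {d : V F K ≃ₗ[F] V F K} (hd : d ∈ D) (k : NV C d) {v : V F K} (hv : v ∈ V2) :
    d v ∈ V2 := by
  obtain ⟨t, l, m, θ, -, -, e⟩ := fm h hd k
  simp [mem2, e, rmap, vmap, hv.1, hv.2]

theorem om_d {d : V F K ≃ₗ[F] V F K} (hd : d ∈ D) (v w : V F K) : om C (d v) (d w) = om C v w := by
  obtain ⟨ε, e1, e2⟩ := h.form d hd
  have : ε = 1 := by
    have : (ε - 1) ^ 2 = 0 := by linear_combination e1 + (1 - ε) * (twoF (F := F))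
    exact sub_eq_zero.1 ((pow_eq_zero_iff two_ne_zero).1 this)
  rw [e2, this, one_mul]

theorem inv_T {d : V F K ≃ₗ[F] V F K} (hd : d ∈ D) (k : NV C d) (d2 : d * d = 1) :
    ∃ t, d = ρ C t := by
  let T : Subgroup (V F K ≃ₗ[F] V F K) :=
    { carrier := {d | ∃ t, d = ρ C t}
      one_mem' := ⟨0, (ρ_zero C).symm⟩
      mul_mem' := by rintro _ _ ⟨s, rfl⟩ ⟨t, rfl⟩; exact ⟨s + t, (ρ_add C s t).symm⟩
      inv_mem' := by rintro _ ⟨s, rfl⟩; exact ⟨-s, ρ_inv C s⟩ }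
  have h1 : IsPGroup 2 T := by
    rintro ⟨_, t, rfl⟩
    exact ⟨1, Subtype.ext (by rw [pow_one, coe_pow, sq]; exact ρ_sq t)⟩
  have h2 : IsPGroup 2 (zpowers d) := by
    rintro ⟨_, j, rfl⟩
    refine ⟨1, Subtype.ext ?_⟩
    change (d ^ j) ^ 2 ^ 1 = 1
    rw [pow_one, ← zpow_natCast, ← zpow_mul, mul_comm, zpow_mul, zpow_natCast, sq, d2, one_zpow]
  have h3 : zpowers d ≤ normalizer (T : Set _) :=
    zpowers_le.2 (mem_normalizer_fintype (by rintro _ ⟨t, rfl⟩; exact k t))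
  exact h.syl (zpowers d ⊔ T) (sup_le (zpowers_le.2 hd) (by rintro _ ⟨t, rfl⟩; exact h.rho t))
    (h2.to_sup_of_normal_right' h1 h3) (fun t => mem_sup_right ⟨t, rfl⟩) d
    (mem_sup_left (mem_zpowers d))

theorem conj_nv {g : V F K ≃ₗ[F] V F K} (hg : g ∈ D) (k : ¬ NV C g) {s : K} (hs : s ≠ 0) :
    ¬ NV C (g * ρ C s * g⁻¹) := fun e => by
  obtain ⟨t, ht⟩ := inv_T h (mul_mem (mul_mem hg (h.rho s)) (inv_mem hg)) e (by
    rw [conj_mul, ρ_sq]; group)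
  exact k (h.ti g hg s t hs ht)

/-- The Borel subgroup. -/
def B0 : Subgroup D where
  carrier := {d | NV C d}
  one_mem' := fun t => ⟨t, by simp⟩
  mul_mem' := nv_mul
  inv_mem' := fun {d} k => nv_inv h d.2 k

theorem ord2 {t : K} (ht : t ≠ 0) : orderOf (⟨ρ C t, h.rho t⟩ : D) = 2 := by
  rw [orderOf_mk, ρ_ord ht]

theorem se {g : V F K ≃ₗ[F] V F K} (hg : g ∈ D) (k : ¬ NV C g) : IsStronglyEmbedded (B0 h) := by
  refine H10.SE.iff.2 ⟨fun e => k (e.ge (mem_top (⟨g, hg⟩ : D))),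
    ⟨⟨ρ C 1, h.rho 1⟩, nv_rho 1, ord2 h one_ne_zero⟩, fun t ht h2 g hg => ?_⟩
  have e : (t : V F K ≃ₗ[F] V F K) * t = 1 := by
    rw [← coe_mul, ← sq, ← h2, pow_orderOf_eq_one, coe_one]
  obtain ⟨s, hs⟩ := inv_T h t.2 ht e
  by_contra k
  refine conj_nv h g.2 k (s := s) ?_ (hs ▸ hg)
  rintro rfl
  rw [ρ_zero] at hs
  rw [show t = 1 from Subtype.ext hs, orderOf_one] at h2
  omega

theorem tr {g : V F K ≃ₗ[F] V F K} (hg : g ∈ D) (k : ¬ NV C g) {s s' : K} (hs : s ≠ 0)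
    (hs' : s' ≠ 0) : ∃ d ∈ D, NV C d ∧ NV C (g⁻¹ * d * g) ∧ ∃ t l m θ, Fm C d t l m θ ∧ l * θ s = s' := by
  obtain ⟨d, ⟨h1, h2⟩, h3⟩ := H10.SE.exists_conj_mem_inf (se h hg k) (s := ⟨ρ C s, h.rho s⟩)
    (t := ⟨ρ C s', h.rho s'⟩) (g := ⟨g, hg⟩) (nv_rho s) (ord2 h hs) (nv_rho s') (ord2 h hs') k
  obtain ⟨t, l, m, θ, e⟩ := fm h d.2 h1
  refine ⟨d, d.2, h1, ?_, t, l, m, θ, e, ?_⟩
  · obtain ⟨b, hb, rfl⟩ := h2
    have : NV C (b : V F K ≃ₗ[F] V F K) := hb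
    simpa [mul_assoc] using this
  · have h4 : (d : V F K ≃ₗ[F] V F K) * ρ C s = ρ C s' * d :=
      mul_inv_eq_iff_eq_mul.1 (congrArg Subtype.val h3)
    have h5 := congrArg (fun f => (f e3).2.2.1) h4
    simp only [LinearEquiv.mul_apply, e.2.2, ρ_apply, rmap, vmap, e3, map_zero, mul_zero, smul_zero,
      zero_add, one_smul, mul_one] at h5
    rw [add_comm] at h5
    exact smul_right_injective K e.2.1 (add_left_cancel h5)

theorem odd {n : V F K ≃ₗ[F] V F K} (hn : n ∈ D) (k : ¬ NV C n) (n2 : n * n = 1) :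
    (n * ρ C 1) ^ 8 ≠ 1 := fun e => by
  have h1 := H10.SE.odd_orderOf_mul (se h hn k) (t := ⟨ρ C 1, h.rho 1⟩) (u := ⟨n, hn⟩) (nv_rho 1)
    (ord2 h one_ne_zero) k (by
      rw [orderOf_mk]
      exact orderOf_eq_prime (by rw [sq, n2]) (by rintro rfl; exact k (B0 h).one_mem))
  rw [← orderOf_coe] at h1
  have h2 := orderOf_eq_one_iff.1 (Nat.eq_one_of_dvd_coprimes
    (h1.coprime_two_right.pow_right 3) dvd_rfl (orderOf_dvd_of_pow_eq_one e))
  exact k (by rw [eq_inv_of_mul_eq_one_left (show n * ρ C 1 = 1 from h2), ρ_inv]; exact nv_rho _)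

theorem line {g d : V F K ≃ₗ[F] V F K} (hg : g ∈ D) (hd : d ∈ D) (k : NV C (g⁻¹ * d * g)) :
    ∃ c : F, d (g e0) = c • g e0 := by
  obtain ⟨c, e⟩ := nv1 h (mul_mem (mul_mem (inv_mem hg) hd) hg) k
  refine ⟨c, ?_⟩
  rw [← map_smul, ← e, ← LinearEquiv.mul_apply, ← LinearEquiv.mul_apply]
  congr 1
  group

theorem x_zero {g : V F K ≃ₗ[F] V F K} (hg : g ∈ D) (k : ¬ NV C g) (hy : (g e0).2.2.1 = 0) :
    (g e0).2.1 = 0 := by
  by_contra hx
  obtain ⟨s, s0, hs⟩ := exists_off C (C.sh (g e0).2.1)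
  obtain ⟨d, hd, -, k1, t, l, m, θ, e, e1⟩ := tr h hg k (mt (C.sh_eq_zero).1 hx) s0
  obtain ⟨c, e2⟩ := line h hg hd k1
  generalize g e0 = w at *
  obtain ⟨a, x, y, v⟩ := w
  obtain rfl : y = 0 := hy
  rw [e.2.2] at e2
  simp only [rmap, vmap, map_zero, mul_zero, smul_zero, zero_add, Tri.cr_zero, add_zero, Prod.smul_mk,
    Prod.mk.injEq] at e2 e1 hs
  obtain ⟨-, e3, e4, -⟩ := e2
  have e5 : (m * v) • C.sh t = 0 := by
    rcases smul_eq_zero.1 e4 with e4 | e4 <;> simp [e4]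
  rw [e5, add_zero] at e3
  have e6 := congrArg C.sh e3
  rw [Tri.sh_smul, Tri.sh_smul, Tri.sh_mul, Tri.sh_sh, ← θ_sh, smul_mul_assoc, e1, smul_smul] at e6
  have e7 : m ^ 2 * C.N l ≠ 0 := mul_ne_zero (pow_ne_zero 2 e.2.1) (by simpa using e.1)
  exact hs ((m ^ 2 * C.N l)⁻¹ * c ^ 2) (by rw [mul_smul, ← e6, inv_smul_smul₀ e7])

theorem dich {g : V F K ≃ₗ[F] V F K} (hg : g ∈ D) (k : ¬ NV C g) :
    g e0 ∈ V1 ∨ ∃ t, ∃ c : F, g e0 = c • ρ C t e3 := by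
  by_cases hu : (g e0).2.2.2 = 0
  · have hy : (g e0).2.2.1 = 0 := by
      by_contra hy
      obtain ⟨s, s0, hs⟩ := exists_off C (g e0).2.2.1
      obtain ⟨d, hd, -, k1, t, l, m, θ, e, e1⟩ := tr h hg k hy s0
      obtain ⟨c, e2⟩ := line h hg hd k1
      have e3 := congrArg (fun v => v.2.2.1) e2
      simp only [e.2.2, rmap, vmap, hu, mul_zero, zero_smul, add_zero, e1, Prod.smul_snd,
        Prod.smul_fst] at e3
      exact hs (m⁻¹ * c) (by rw [mul_smul, ← e3, inv_smul_smul₀ e.2.1])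
    exact .inl ⟨x_zero h hg k hy, hy, hu⟩
  · obtain ⟨s, hs⟩ : ∃ s, s = -(((g e0).2.2.2)⁻¹ • (g e0).2.2.1) := ⟨_, rfl⟩
    have h1 : ρ C s * g ∈ D := mul_mem (h.rho s) hg
    have h2 : ¬ NV C (ρ C s * g) := fun e => k (by
      have := nv_mul (nv_rho (C := C) (-s)) e
      rwa [← ρ_inv, inv_mul_cancel_left] at this)
    have hy : ((ρ C s * g) e0).2.2.1 = 0 := by
      simp [ρ_apply, rmap, hs, smul_inv_smul₀ hu]
    have hx := x_zero h h1 h2 hy
    have hu' : ((ρ C s * g) e0).2.2.2 = (g e0).2.2.2 := rfl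
    have hq := h.quad rfl _ h1 e0
    rw [qf, hx, hu', zero_mul, map_zero, sub_zero] at hq
    have ha : ((ρ C s * g) e0).1 = 0 := (mul_eq_zero.1 (hq.trans (by simp [qf, e0]))).resolve_right hu
    refine .inr ⟨-s, (g e0).2.2.2, ?_⟩
    rw [← map_smul, ← ρ_inv, eq_comm, LinearEquiv.coe_inv, LinearEquiv.symm_apply_eq]
    refine Prod.ext ?_ (Prod.ext ?_ (Prod.ext ?_ ?_))
    · simpa [e3] using ha.symm
    · simpa [e3] using hx.symm
    · simpa [e3] using hy.symm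
    · simp [e3, ρ_apply, rmap]

/-- `x`-coordinates can be moved to each other up to a scalar. -/
theorem trx {g : V F K ≃ₗ[F] V F K} (hg : g ∈ D) (k : ¬ NV C g) {x x' : K} (hx : x ≠ 0)
    (hx' : x' ≠ 0) : ∃ d ∈ D, NV C d ∧ NV C (g⁻¹ * d * g) ∧ ∃ t l m θ, Fm C d t l m θ ∧
      ∃ c : F, x' = c • m • (C.sh l * θ x) := by
  obtain ⟨d, hd, k0, k1, t, l, m, θ, e, e1⟩ := tr h hg k (mt (C.sh_eq_zero).1 hx) (mt (C.sh_eq_zero).1 hx')
  refine ⟨d, hd, k0, k1, t, l, m, θ, e, (C.N x')⁻¹ * C.N x * m⁻¹, ?_⟩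
  have e2 := congrArg C.sh e1
  rw [Tri.sh_mul, ← θ_sh, Tri.sh_sh, Tri.sh_sh, map_smul, mul_smul_comm] at e2
  rw [mul_smul, inv_smul_smul₀ e.2.1, mul_smul, e2, inv_smul_smul₀ (by simpa using hx')]

section Inv

variable {n : V F K ≃ₗ[F] V F K} (hn : n ∈ D) (k : ¬ NV C n) (n2 : n * n = 1)
include hn k n2

omit h hn k in
theorem nn (v : V F K) : n (n v) = v := LinearEquiv.congr_fun n2 v

omit h hn k in
theorem nb (d : V F K ≃ₗ[F] V F K) (v : V F K) : n (d (n v)) = (n⁻¹ * d * n) v := by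
  rw [inv_eq_of_mul_eq_one_right n2]; rfl

omit h hn k n2 in
theorem n1 (n0 : n e0 ∈ V1) {v : V F K} (hv : v ∈ V1) : n v ∈ V1 := by
  rw [eq1 hv, map_smul]; exact V1.smul_mem _ n0

omit k n2 in
theorem n3 (n0 : n e0 ∈ V1) {v : V F K} (hv : v ∈ V3) : n v ∈ V3 := by
  have h1 := om_d h hn e0 v
  have h2 := ne0 n0
  rw [eq1 n0] at h1
  generalize (n e0).1 = c at h1 h2
  simpa [om, e0, mem3.1 hv, h2, mem3] using h1

theorem claimA (n0 : n e0 ∈ V1) {v : V F K} (hv : v ∈ V2) (hv' : n v ∈ V2) : v ∈ V1 := by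
  by_contra v1
  have hx : (n v).2.1 ≠ 0 := fun e => v1 (nn n2 v ▸ n1 n0 ⟨e, hv'⟩)
  have h2 : ∀ w ∈ V2, n w ∈ V2 := fun w hw => by
    have le : ∀ w ∈ V1, n w ∈ V2 := fun w hw => (n1 n0 hw).2
    by_cases hw0 : w.2.1 = 0
    · exact le w ⟨hw0, hw⟩
    obtain ⟨d, hd, -, k1, t, l, m, θ, e, c, e1⟩ := trx h hn k hx hw0
    have h3 := nv2 h (mul_mem (mul_mem (inv_mem hn) hd) hn) k1 hv
    rw [← nb n2] at h3
    have h4 := le (w - c • d (n v)) (by
      simp [mem1, e.2.2, rmap, vmap, hv'.1, hv'.2, hw.1, hw.2, e1])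
    simpa using V2.add_mem h4 (V2.smul_mem c h3)
  have s0 : St (ρ C 1) ⊤ V3 := fun v _ => by simp [mem3, ρ_apply, rmap]
  have s1 : St (ρ C 1) V3 V2 := fun v hv => by simp [mem2, ρ_apply, rmap, mem3.1 hv]
  have s2 : St (ρ C 1) V2 V1 := fun v hv => by simp [mem1, ρ_apply, rmap, hv.1, hv.2]
  have s3 : St (ρ C 1) V1 ⊥ := fun v hv => by rw [eq1 hv, map_smul, ρ_e0, sub_self]; exact zero_mem _
  have r0 := (s0.conj n2 (fun _ _ => trivial) fun _ => n3 h hn n0).mul s0 le_top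
  have r1 := (s1.conj n2 (fun _ => n3 h hn n0) h2).mul s1 fun _ hv => hv.2
  have r2 := (s2.conj n2 h2 fun _ => n1 n0).mul s2 fun _ hv => hv.2
  have r3 := (s3.conj n2 (fun _ => n1 n0) fun v hv => by simpa using hv).mul s3 bot_le
  have r4 := (r0.sq twoF r1).sq twoF (r2.sq twoF r3)
  refine odd h hn k n2 (LinearEquiv.ext fun v => ?_)
  have := sub_eq_zero.1 ((Submodule.mem_bot F).1 (r4 v trivial))
  change _ = v
  simpa only [pow_succ, pow_zero, one_mul, mul_assoc] using this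

theorem claimB (n0 : n e0 ∈ V1) : False := by
  let f : K →ₗ[F] K :=
    { toFun := fun x => (n (0, x, 0, 0)).2.2.1
      map_add' := fun x y => by
        rw [show ((0, x + y, 0, 0) : V F K) = (0, x, 0, 0) + (0, y, 0, 0) by simp, map_add]; rfl
      map_smul' := fun c x => by
        rw [show ((0, c • x, 0, 0) : V F K) = c • (0, x, 0, 0) by simp, map_smul]; rfl }
  have hf : Function.Injective f := (injective_iff_map_eq_zero f).2 fun x e =>
    (claimA h hn k n2 n0 (v := (0, x, 0, 0)) ⟨rfl, rfl⟩ ⟨e, n3 h hn n0 rfl⟩).1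
  obtain ⟨x, hx⟩ := Finite.injective_iff_surjective.1 hf 1
  have hy : (n (0, x, 0, 0)).2.2.1 = 1 := hx
  have hu : (n (0, x, 0, 0)).2.2.2 = 0 := n3 h hn n0 rfl
  have e : n * ρ C 1 * n = n * ρ C 1 * n⁻¹ := by rw [inv_eq_of_mul_eq_one_right n2]
  have h1 : ρ C 1 (n (0, x, 0, 0)) - n (0, x, 0, 0) ∈ V1 := by
    simp [mem1, ρ_apply, rmap, hy, hu, Tri.cr_self, ← one_add_one_eq_two, addK C]
  have h2 := claimA h (mul_mem (mul_mem hn (h.rho 1)) hn) (e ▸ conj_nv h hn k one_ne_zero)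
    (by rw [e, conj_mul, ρ_sq]; group) (by
      have := n1 n0 n0
      rw [LinearEquiv.mul_apply, LinearEquiv.mul_apply, eq1 n0, map_smul, ρ_e0, ← eq1 n0]
      exact this) (v := (0, x, 0, 0)) ⟨rfl, rfl⟩ (by
      have := V2.add_mem (n1 n0 h1).2 (show ((0, x, 0, 0) : V F K) ∈ V2 from ⟨rfl, rfl⟩)
      rwa [map_sub, nn n2, sub_add_cancel] at this)
  obtain rfl : x = 0 := h2.1
  rw [map_zero] at hx
  exact zero_ne_one hx

end Inv

theorem fix {g : V F K ≃ₗ[F] V F K} (hg : g ∈ D) (g0 : g e0 ∈ V1) : NV C g := by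
  by_contra k
  refine claimB h (mul_mem (mul_mem hg (h.rho 1)) (inv_mem hg)) (conj_nv h hg k one_ne_zero)
    (by rw [conj_mul, ρ_sq]; group) ?_
  have h3 : e0 = (g e0).1⁻¹ • g e0 := (eq_inv_smul_iff₀ (ne0 g0)).2 (eq1 g0).symm
  have h4 : g⁻¹ e0 = (g e0).1⁻¹ • e0 := by
    conv_lhs => rw [h3, map_smul]
    simp
  rw [LinearEquiv.mul_apply, LinearEquiv.mul_apply, h4, map_smul, ρ_e0, map_smul]
  exact V1.smul_mem _ g0

theorem orb : Orb C D := fun _ hd =>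
  or_iff_not_imp_left.2 fun k => (dich h hd k).resolve_left fun e => k (fix h hd e)

section Swap

variable {n : V F K ≃ₗ[F] V F K} {c : F} (hn : n ∈ D) (k : ¬ NV C n) (n2 : n * n = 1)
  (n0 : n e0 = c • e3)
include hn k n2 n0

omit h hn k n2 in
theorem c0 : c ≠ 0 := by
  rintro rfl
  rw [zero_smul, LinearEquiv.map_eq_zero_iff] at n0
  simp [e0] at n0

omit h hn k in
theorem ne3 : n e3 = c⁻¹ • e0 := by
  rw [eq_inv_smul_iff₀ (c0 n0), ← map_smul, ← n0, nn n2]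

omit k in
theorem m0 {x y : K} : ∃ x' y', n (0, x, y, 0) = (0, x', y', 0) := by
  have h1 := om_d h hn e0 (0, x, y, 0)
  have h2 := om_d h hn e3 (0, x, y, 0)
  rw [n0] at h1
  rw [ne3 n2 n0] at h2
  generalize n (0, x, y, 0) = w at h1 h2
  obtain ⟨a, x', y', v⟩ := w
  obtain rfl : a = 0 := by simpa [om, e0, e3, c0 n0] using h1
  obtain rfl : v = 0 := by simpa [om, e0, e3, c0 n0] using h2
  exact ⟨_, _, rfl⟩

omit k n2 in
theorem lam {d : V F K ≃ₗ[F] V F K} (hd : d ∈ D) (k1 : NV C (n⁻¹ * d * n)) {t l : K} {m : F}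
    {θ : K ≃ₐ[F] K} (e : Fm C d t l m θ) : t = 0 := by
  obtain ⟨c', e1⟩ := line h hn hd k1
  have := congrArg (fun v => v.2.2.1) e1
  simpa [n0, e.2.2, rmap, vmap, e3, e.2.1, c0 n0] using this

omit k in
theorem bX {d : V F K ≃ₗ[F] V F K} (hd : d ∈ D) (k0 : NV C d) (k1 : NV C (n⁻¹ * d * n)) (x : K) :
    ∃ x', n (d (n (0, x, 0, 0))) = (0, x', 0, 0) := by
  have hb := mul_mem (mul_mem (inv_mem hn) hd) hn
  obtain ⟨t, l, m, θ, e⟩ := fm h hb k1
  obtain rfl := lam h hn n0 hb (by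
    rwa [inv_eq_of_mul_eq_one_right n2, ← mul_assoc, ← mul_assoc, n2, one_mul, mul_assoc, n2,
      mul_one]) e
  exact ⟨m • (C.sh l * θ x), by rw [nb n2, e.2.2]; simp [rmap, vmap]⟩

theorem notX (hX : ∀ x, ∃ x', n (0, x, 0, 0) = (0, x', 0, 0)) : False := by
  have e : n * ρ C 1 * n = n * ρ C 1 * n⁻¹ := by rw [inv_eq_of_mul_eq_one_right n2]
  have hg := mul_mem (mul_mem hn (h.rho 1)) hn
  obtain ⟨t, c', e1⟩ := (orb h _ hg).resolve_left (e ▸ conj_nv h hn k one_ne_zero)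
  have hb := mul_mem (inv_mem (mul_mem (h.rho t) hn)) hg
  have kb := fix h hb (by
    rw [LinearEquiv.mul_apply, e1, map_smul, mul_inv_rev, inv_eq_of_mul_eq_one_right n2,
      LinearEquiv.mul_apply, LinearEquiv.coe_inv, LinearEquiv.symm_apply_apply, ne3 n2 n0]
    exact V1.smul_mem _ (V1.smul_mem _ ⟨rfl, rfl, rfl⟩))
  generalize hbe : (ρ C t * n)⁻¹ * (n * ρ C 1 * n) = b at hb kb
  have e2 : n * ρ C 1 * n = ρ C t * n * b := by rw [← hbe, mul_inv_cancel_left]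
  have key : ∀ a x, ∃ x', n (a, x, 0, 0) = (0, x', 0, a * c) := fun a x => by
    obtain ⟨x', e⟩ := hX x
    exact ⟨x', by
      rw [show ((a, x, 0, 0) : V F K) = a • e0 + (0, x, 0, 0) by simp [e0], map_add, map_smul, n0, e]
      simp [e3]⟩
  obtain ⟨x, hx⟩ := C.exists_T_one
  obtain ⟨x1, e3⟩ := hX x
  have h1 := nv2 h hb kb (v := n (0, x, 0, 0)) (by rw [e3]; exact ⟨rfl, rfl⟩)
  have h2 := LinearEquiv.congr_fun e2 (n (0, x, 0, 0))
  simp only [LinearEquiv.mul_apply, nn n2] at h2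
  generalize b (n (0, x, 0, 0)) = w at h1 h2
  obtain ⟨a, x2, y, v⟩ := w
  obtain ⟨rfl, rfl⟩ : y = 0 ∧ v = 0 := h1
  obtain ⟨x3, e4⟩ := key a x2
  obtain ⟨x4, e5⟩ := key 1 x
  rw [e4, show ρ C 1 (0, x, 0, 0) = (1, x, 0, 0) by simp [ρ_apply, rmap, hx], e5] at h2
  simp only [ρ_apply, rmap, Prod.mk.injEq, zero_add] at h2
  obtain ⟨-, -, h3, h4⟩ := h2
  rw [← h4, one_mul, eq_comm, smul_eq_zero] at h3
  obtain rfl := h3.resolve_left (c0 n0)
  rw [ρ_zero, one_mul, mul_assoc, mul_right_inj] at e2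
  exact k (by rw [eq_inv_mul_of_mul_eq e2, ρ_inv]; exact nv_mul (nv_rho _) kb)

theorem swp : Swp n := by
  choose f1 f2 hf using fun x => m0 h hn n2 n0 (x := x) (y := 0)
  have p1 : ∀ x, f1 x = (n (0, x, 0, 0)).2.1 := fun x => by rw [hf]
  have p2 : ∀ x, f2 x = (n (0, x, 0, 0)).2.2.1 := fun x => by rw [hf]
  let i : K →ₗ[F] V F K :=
    { toFun := fun x => n (0, x, 0, 0)
      map_add' := fun x y => by rw [← map_add]; simp
      map_smul' := fun c x => by rw [← map_smul]; simp }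
  let g1 : K →ₗ[F] K := LinearMap.fst F _ _ ∘ₗ LinearMap.snd F _ _ ∘ₗ i
  let g2 : K →ₗ[F] K := LinearMap.fst F _ _ ∘ₗ LinearMap.snd F _ _ ∘ₗ LinearMap.snd F _ _ ∘ₗ i
  have q1 : ∀ x, g1 x = f1 x := fun x => (p1 x).symm
  have q2 : ∀ x, g2 x = f2 x := fun x => (p2 x).symm
  have nz : ∀ x, f1 x = 0 → f2 x = 0 → x = 0 := fun x e1 e2 => by
    have := hf x
    rw [e1, e2] at this
    simpa using n.map_eq_zero_iff.1 this
  have inj : Function.Injective g2 := (injective_iff_map_eq_zero g2).2 fun x0 e => by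
    by_contra x00
    rw [q2] at e
    refine notX h hn k n2 n0 fun x => ?_
    rcases eq_or_ne x 0 with rfl | hx
    · exact ⟨0, map_zero n⟩
    obtain ⟨d, hd, k0, k1, t, l, m, θ, e1, c', e2⟩ := trx h hn k (fun e' => x00 (nz x0 e' e)) hx
    obtain ⟨x', e3⟩ := bX h hn n2 n0 hd k0 k1 x0
    obtain rfl := lam h hn n0 hd k1 e1
    refine ⟨c' • x', ?_⟩
    rw [hf, e, e1.2.2] at e3
    have := congrArg (c' • ·) e3
    rw [← map_smul] at this
    simpa [rmap, vmap, e2] using this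
  obtain ⟨x0, x00, e⟩ := alt_rad C.finrank (((LinearMap.mul F K).compr₂ C.T).compl₁₂ g1 g2) fun x => by
    have := h.quad rfl n hn (0, x, 0, 0)
    rw [hf] at this
    simpa [qf, q1, q2] using this
  have e1 : f1 x0 = 0 := C.T_nd fun b => by
    obtain ⟨x, rfl⟩ := Finite.injective_iff_surjective.1 inj b
    simpa [q1] using e x
  have hY : ∀ y, ∃ x, n (0, 0, y, 0) = (0, x, 0, 0) := fun y => by
    rcases eq_or_ne y 0 with rfl | hy
    · exact ⟨0, map_zero n⟩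
    obtain ⟨d, hd, k0, k1, t, l, m, θ, e2, e3⟩ := tr h hn k (mt (nz x0 e1) x00) hy
    obtain ⟨x', e4⟩ := bX h hn n2 n0 hd k0 k1 x0
    obtain rfl := lam h hn n0 hd k1 e2
    refine ⟨m⁻¹ • x', ?_⟩
    rw [hf, e1, e2.2.2] at e4
    have := congrArg (m⁻¹ • ·) e4
    rw [← map_smul] at this
    simpa [rmap, vmap, e3, inv_smul_smul₀ e2.2.1] using this
  refine ⟨⟨c, n0⟩, ⟨_, ne3 n2 n0⟩, fun x => ⟨f2 x, ?_⟩, hY⟩
  obtain ⟨x', e2⟩ := hY (f2 x)
  have e3 := congrArg n e2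
  rw [nn n2] at e3
  obtain rfl : x' = x := inj (by rw [q2, q2, p2 x', ← e3])
  exact e3.symm

end Swap

theorem exists_swp {d : V F K ≃ₗ[F] V F K} (hd : d ∈ D) (k : ¬ NV C d) : ∃ n ∈ D, Swp n := by
  have h1 := mul_mem (mul_mem hd (h.rho 1)) (inv_mem hd)
  have h2 := conj_nv h hd k one_ne_zero
  have h3 : d * ρ C 1 * d⁻¹ * (d * ρ C 1 * d⁻¹) = 1 := by rw [conj_mul, ρ_sq]; group
  generalize d * ρ C 1 * d⁻¹ = n at h1 h2 h3
  obtain ⟨t, c, e⟩ := (orb h n h1).resolve_left h2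
  have h4 := mul_mem (mul_mem (inv_mem (h.rho t)) h1) (h.rho t)
  refine ⟨_, h4, swp h (c := c) h4 (fun k => h2 ?_) ?_ ?_⟩
  · have := nv_mul (nv_mul (nv_rho t) k) (nv_rho (-t))
    rwa [← ρ_inv, ← mul_assoc, mul_inv_cancel_left, mul_inv_cancel_right] at this
  · calc _ = (ρ C t)⁻¹ * (n * n) * ρ C t := by group
      _ = 1 := by rw [h3]; group
  · rw [LinearEquiv.mul_apply, LinearEquiv.mul_apply, ρ_e0, e, map_smul, LinearEquiv.coe_inv,
      LinearEquiv.symm_apply_apply]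

omit h [CharP F 2] in
theorem aqT {p : ℕ} [Fact p.Prime] [CharP F p] : AqTStmt C p := by
  rintro rfl D h ⟨d, hd, k⟩
  exact ⟨orb h, exists_swp h hd k⟩

end Cfsg.Agent.H94.AqT
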