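import Mathlib
import Cfsg.Agent.H94.PiClosed
import Cfsg.Agent.H8.SylowIn
import Cfsg.Agent.H92.Basic
import Cfsg.Agent.S0877

/-!
A `π`-homogeneous group with the `D_π` property has a normal `π`-complement (Ferguson).
-/

set_option autoImplicit false
open scoped Pointwise

namespace Cfsg.Agent.H94

open Subgroup
open Cfsg.Agent.H2 (IsPiNum)
open Cfsg.Agent.H8 (IsSylowIn)

universe u

/-- `H` is a `π`-subgroup into which every `π`-subgroup is conjugate. -/
def DPi (π : Set ℕ) {G : Type*} [Group G] (H : Subgroup G) : Prop :=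
  IsPiNum π (Nat.card H) ∧
    ∀ K : Subgroup G, IsPiNum π (Nat.card K) → ∃ g : G, K ≤ MulAut.conj g • H

variable {G : Type*} [Group G] {π : Set ℕ}

theorem exists_dPi_of_isDPiGroup [Finite G] (h : IsDPiGroup π G) : ∃ H : Subgroup G, DPi π H := by
  obtain ⟨H, -, hH⟩ := Finite.exists_le_maximal (p := IsPiSubgroup π) (a := (⊥ : Subgroup G))
    (fun p hp hd => by
      rw [Subgroup.card_bot, Nat.dvd_one] at hd
      exact absurd hd hp.one_lt.ne')
  refine ⟨H, hH.prop, fun K hK => ?_⟩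
  obtain ⟨K', hKK', hK'⟩ := Finite.exists_le_maximal (p := IsPiSubgroup π) (a := K) hK
  obtain ⟨g, hg⟩ := h H K' hH hK'
  exact ⟨g, by rw [← H8.map_conj_eq_smul, ← hg]; exact hKK'⟩

theorem DPi.index [Finite G] {H : Subgroup G} (h : DPi π H) : IsPiNum πᶜ H.index := by
  intro p hp hd hπ
  have : Fact p.Prime := ⟨hp⟩
  obtain ⟨P⟩ : Nonempty (Sylow p G) := inferInstance
  obtain ⟨g, hg⟩ := h.2 P (H2.isPiNum_card_of_isPGroup hp hπ P.isPGroup')
  exact H92.not_dvd_index_of_sylow_le P hg (by rwa [H8.index_conj_smul])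

theorem DPi.quotient {H : Subgroup G} (h : DPi π H) (N : Subgroup G) [N.Normal]
    (hN : IsPiNum π (Nat.card N)) : DPi π (H.map (QuotientGroup.mk' N)) := by
  refine ⟨h.1.of_dvd (card_map_dvd _ _), fun K hK => ?_⟩
  obtain ⟨g, hg⟩ := h.2 (K.comap (QuotientGroup.mk' N))
    (by rw [H2.card_comap_mk']; exact hN.mul hK)
  refine ⟨QuotientGroup.mk' N g, ?_⟩
  rw [← H2.map_conj_smul, ← map_comap_eq_self_of_surjective (QuotientGroup.mk'_surjective N) K]
  exact map_mono hg

theorem DPi.mem_of_mem_normalizer [Finite G] {H : Subgroup G} (h : DPi π H) {a : G}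
    (ha : IsPiNum π (orderOf a)) (hn : a ∈ normalizer (H : Set G)) : a ∈ H := by
  have h1 : IsPiNum π (Nat.card (zpowers a ⊔ H : Subgroup G)) :=
    IsPiNum.of_dvd (IsPiNum.mul (by rwa [Nat.card_zpowers]) h.1)
      (H1.card_sup_dvd_of_le_normalizer (zpowers_le.2 hn))
  obtain ⟨g, hg⟩ := h.2 _ h1
  have h2 : H = zpowers a ⊔ H := H1.eq_of_le_of_card_le le_sup_right
    ((card_le_of_le hg).trans (H8.card_conj_smul H g).le)
  rw [h2]
  exact mem_sup_left (mem_zpowers a)

theorem exists_pi_supplement_aux {M : Type*} [Group M] [Finite M] {p : ℕ} (hp : p.Prime)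
    (hπ : p ∈ π) (Y D : Subgroup M) [Y.Normal] [D.Normal] (hY : IsPGroup p Y) (hYD : Y ≤ D)
    (h1 : ¬ p ∣ Y.relIndex D) (h2 : IsPiNum π D.index) :
    ∃ W : Subgroup M, IsPiNum π (Nat.card W) ∧ Y ≤ W ∧ W ⊔ D = ⊤ ∧ ¬ p ∣ W.index := by
  have hs := QuotientGroup.mk'_surjective Y
  obtain ⟨H, hH, hH'⟩ := H92.exists_supplement_primes (D.map (QuotientGroup.mk' Y))
  have hYW : Y ≤ H.comap (QuotientGroup.mk' Y) := fun y hy => by
    rw [mem_comap, QuotientGroup.mk'_apply, (QuotientGroup.eq_one_iff y).2 hy]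
    exact H.one_mem
  have hsup : H.comap (QuotientGroup.mk' Y) ⊔ D = ⊤ := by
    have := congrArg (comap (QuotientGroup.mk' Y)) hH
    rw [← comap_sup_eq _ _ _ hs, comap_map_eq, QuotientGroup.ker_mk', sup_eq_left.2 hYD,
      comap_top] at this
    exact this
  refine ⟨H.comap (QuotientGroup.mk' Y), ?_, hYW, hsup, fun hd => h1 ?_⟩
  · rw [H2.card_comap_mk']
    refine (H2.isPiNum_card_of_isPGroup hp hπ hY).mul fun q hq hd => h2 q hq ?_
    exact (hH' q hq hd).trans (index_map_dvd D hs)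
  · have hfac : ∀ g : M, ∃ a ∈ D, ∃ b ∈ H.comap (QuotientGroup.mk' Y), g = a * b := by
      intro g
      have hg : g ∈ D ⊔ H.comap (QuotientGroup.mk' Y) := by rw [sup_comm, hsup]; trivial
      obtain ⟨a, ha, b, hb, hab⟩ := (H1.mem_sup_of_le_normalizer'
        (by rw [normalizer_eq_top]; exact le_top)).1 hg
      exact ⟨a, ha, b, hb, hab.symm⟩
    rw [H1.index_eq_relIndex_of_factorization hfac] at hd
    exact hd.trans (relIndex_dvd_of_le_left D hYW)

theorem exists_pi_supplement [Finite G] (hG : PiHom πᶜ G) {p : ℕ} [hp : Fact p.Prime]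
    (hπ : p ∈ π) {X : Subgroup G} (hX : IsPGroup p X) :
    ∃ W T : Subgroup G, IsPiNum π (Nat.card W) ∧ IsSylowIn p T (normalizer (X : Set G)) ∧ T ≤ W ∧
      ∀ n ∈ normalizer (X : Set G), ∃ c ∈ centralizer (X : Set G), ∃ w ∈ W, n = c * w := by
  set N := normalizer (X : Set G) with hN
  set C := centralizer (X : Set G) with hC
  obtain ⟨T, hT⟩ := H8.exists_isSylowIn p N
  have hCN : C ≤ N := centralizer_le_normalizer _
  have hXN : X ≤ N := le_normalizer
  have hNn : N ≤ normalizer ((C ⊔ X : Subgroup G) : Set G) :=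
    H4.le_normalizer_sup (H4.le_normalizer_centralizer le_rfl) le_rfl
  have hXT : X ≤ T := hT.le_of_le_normalizer hX hXN hT.le
  set Y := T ⊓ (C ⊔ X) with hYdef
  have hY : IsSylowIn p Y (C ⊔ X) := by
    have := hT.inf_of_le_normalizer hNn
    rwa [inf_eq_right.2 (sup_le hCN hXN)] at this
  have hXY : X ≤ Y := le_inf hXT le_sup_right
  set M := N ⊓ normalizer (Y : Set G) with hM
  have hTM : T ≤ M := le_inf hT.le (H4.le_normalizer_inf le_normalizer (hT.le.trans hNn))
  have hYM : Y ≤ M := inf_le_left.trans hTM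
  have hCY : centralizer (Y : Set G) ≤ C := centralizer_le (by exact_mod_cast hXY)
  have hCYM : centralizer (Y : Set G) ≤ M := le_inf (hCY.trans hCN) (centralizer_le_normalizer _)
  have hn1 : (Y.subgroupOf M).Normal := normal_subgroupOf_of_le_normalizer inf_le_right
  have hn2 : ((centralizer (Y : Set G) ⊔ Y).subgroupOf M).Normal :=
    normal_subgroupOf_of_le_normalizer
      (H4.le_normalizer_sup (H4.le_normalizer_centralizer inf_le_right) inf_le_right)
  obtain ⟨W, hW1, hW2, hW3, hW4⟩ := exists_pi_supplement_aux hp.out hπ (Y.subgroupOf M)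
    ((centralizer (Y : Set G) ⊔ Y).subgroupOf M) (hY.isPGroup.comap_subtype)
    (subgroupOf_mono M le_sup_right)
    (by
      rw [relIndex_subgroupOf (sup_le hCYM hYM)]
      exact (hY.mono le_sup_right (sup_le (hCY.trans le_sup_left) hY.le)).not_dvd)
    (by
      have := isPiNum_index_of_mem_iff (π := πᶜ)
        (K := (centralizer (Y : Set G) ⊔ Y).subgroupOf M) fun x hx => by
          rw [mem_subgroupOf]
          refine mem_sup_left (hG Y x ?_ (by rwa [Subgroup.orderOf_coe]) x.2.2)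
          rw [compl_compl]
          exact H2.isPiNum_card_of_isPGroup hp.out hπ hY.isPGroup
      rwa [compl_compl] at this)
  obtain ⟨m, hm⟩ := H1.exists_conj_le_of_not_dvd_index (P := T.subgroupOf M)
    hT.isPGroup.comap_subtype hW4
  refine ⟨W.map M.subtype, MulAut.conj (m : G) • T, ?_,
    hT.conj_smul_of_mem_normalizer (le_normalizer m.2.1), ?_, fun n hn => ?_⟩
  · rwa [card_map_of_injective M.subtype_injective]
  · intro t ht
    rw [H8.mem_conj_smul] at ht
    have htM : t ∈ M := by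
      have := M.mul_mem (M.mul_mem m.2 (hTM ht)) (M.inv_mem m.2)
      simpa [mul_assoc] using this
    exact ⟨⟨t, htM⟩, hm (by rw [H8.mem_conj_smul]; exact ht), rfl⟩
  · obtain ⟨a, ha, b, hb, rfl⟩ := hY.frattini (hNn hn)
    obtain ⟨c, hc, x, hx, rfl⟩ := (H1.mem_sup_of_le_normalizer'
      (hXN.trans (H4.le_normalizer_centralizer le_rfl))).1 ha
    have hxb : x * b ∈ M := by
      refine ⟨?_, (normalizer (Y : Set G)).mul_mem (le_normalizer (hXY hx)) hb⟩
      have := N.mul_mem (N.inv_mem (hCN hc)) hn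
      simpa [mul_assoc] using this
    have h1 : (⟨x * b, hxb⟩ : M) ∈ (centralizer (Y : Set G) ⊔ Y).subgroupOf M ⊔ W := by
      rw [sup_comm, hW3]; trivial
    obtain ⟨d, hd, w, hw, hdw⟩ := (H1.mem_sup_of_le_normalizer'
      (by rw [normalizer_eq_top]; exact le_top)).1 h1
    rw [mem_subgroupOf] at hd
    obtain ⟨c', hc', y, hy, hcy⟩ := (H1.mem_sup_of_le_normalizer'
      (le_normalizer.trans (H4.le_normalizer_centralizer le_rfl))).1 hd
    have hdw' : (d : G) * w = x * b := congrArg Subtype.val hdw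
    refine ⟨c * c', C.mul_mem hc (hCY hc'), y * w, (W.map M.subtype).mul_mem
      ⟨⟨y, hYM hy⟩, hW2 hy, rfl⟩ (mem_map_of_mem M.subtype hw), ?_⟩
    rw [mul_assoc c x b, ← hdw', ← hcy]
    group

theorem DPi.exists_centralizer_conj [Finite G] (hG : PiHom πᶜ G) {H : Subgroup G} (hH : DPi π H)
    {p : ℕ} [hp : Fact p.Prime] (hπ : p ∈ π) (X : Subgroup G) :
    IsPGroup p X → ∀ g₁ g₂ : G, X ≤ MulAut.conj g₁ • H → X ≤ MulAut.conj g₂ • H →
      ∃ c ∈ centralizer (X : Set G),
        MulAut.conj c • MulAut.conj g₁ • H = MulAut.conj g₂ • H := by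
  induction X using WellFoundedGT.induction with
  | ind X ih =>
  intro hX
  obtain ⟨W, T, hW, hT, hTW, hfac⟩ := exists_pi_supplement hG hπ hX
  obtain ⟨g₀, hg₀⟩ := hH.2 W hW
  have hXT : X ≤ T := hT.le_of_le_normalizer hX le_normalizer hT.le
  have key : ∀ g : G, X ≤ MulAut.conj g • H → ∃ n ∈ normalizer (X : Set G),
      MulAut.conj n • MulAut.conj g • H = MulAut.conj g₀ • H := by
    intro g hg
    obtain ⟨S, hS, hXS⟩ := H8.exists_isSylowIn_ge hX hg
    rcases hXS.lt_or_eq with hlt | heq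
    · have h1 := H8.lt_inf_normalizer_of_lt hS.isPGroup hlt
      have hX1 : IsPGroup p (S ⊓ normalizer (X : Set G) : Subgroup G) :=
        hS.isPGroup.to_le inf_le_left
      obtain ⟨n, hn, hn'⟩ := hT.exists_conj_le hX1 inf_le_right
      have hnX : MulAut.conj n • X = X := H8.mem_normalizer_iff_conj_smul_eq.1 hn
      have h2 : X < MulAut.conj n • (S ⊓ normalizer (X : Set G)) := by
        rw [← hnX]
        refine lt_of_le_of_ne ?_ fun h => h1.ne ?_
        · rw [hnX]
          conv_lhs => rw [← hnX]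
          exact pointwise_smul_le_pointwise_smul_iff.2 h1.le
        · rw [hnX] at h
          have h' : MulAut.conj n • X = MulAut.conj n • (S ⊓ normalizer (X : Set G)) := by
            rw [hnX]; exact h
          exact MulAction.injective _ h'
      obtain ⟨c, hc, hc'⟩ := ih _ h2 (H8.isPGroup_conj_smul hX1 n) (n * g) g₀
        (by
          rw [← H8.conj_smul_conj_smul]
          exact pointwise_smul_le_pointwise_smul_iff.2 (inf_le_left.trans hS.le))
        (hn'.trans (hTW.trans hg₀))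
      refine ⟨c * n, (normalizer (X : Set G)).mul_mem
        (centralizer_le_normalizer _ (centralizer_le (by exact_mod_cast h2.le) hc)) hn, ?_⟩
      rw [← hc', H8.conj_smul_conj_smul, H8.conj_smul_conj_smul, mul_assoc]
    · subst heq
      have h1 := hS.conj_smul (g₀ * g⁻¹)
      rw [H8.conj_smul_conj_smul, inv_mul_cancel_right] at h1
      have h2 := h1.of_card_ge hX (hXT.trans (hTW.trans hg₀)) (H8.card_conj_smul _ _).le
      obtain ⟨h, hh, hh'⟩ := h1.exists_conj_eq h2
      refine ⟨h * (g₀ * g⁻¹), ?_, ?_⟩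
      · rw [H8.mem_normalizer_iff_conj_smul_eq, ← H8.conj_smul_conj_smul, hh']
      · rw [H8.conj_smul_conj_smul, mul_assoc, inv_mul_cancel_right, ← H8.conj_smul_conj_smul]
        exact H8.mem_normalizer_iff_conj_smul_eq.1 (le_normalizer hh)
  have key2 : ∀ g : G, X ≤ MulAut.conj g • H → ∃ c ∈ centralizer (X : Set G),
      MulAut.conj g • H = MulAut.conj c • MulAut.conj g₀ • H := by
    intro g hg
    obtain ⟨n, hn, hn'⟩ := key g hg
    obtain ⟨c, hc, w, hw, hcw⟩ := hfac n⁻¹ ((normalizer (X : Set G)).inv_mem hn)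
    refine ⟨c, hc, ?_⟩
    rw [← H8.conj_inv_smul_conj_smul (MulAut.conj g • H) n, hn', hcw, ← H8.conj_smul_conj_smul,
      H8.mem_normalizer_iff_conj_smul_eq.1 (le_normalizer (hg₀ hw))]
  intro g₁ g₂ h₁ h₂
  obtain ⟨c₁, hc₁, e₁⟩ := key2 g₁ h₁
  obtain ⟨c₂, hc₂, e₂⟩ := key2 g₂ h₂
  refine ⟨c₂ * c₁⁻¹, (centralizer _).mul_mem hc₂ ((centralizer _).inv_mem hc₁), ?_⟩
  rw [e₁, e₂, H8.conj_smul_conj_smul _ (c₂ * c₁⁻¹), inv_mul_cancel_right]

theorem DPi.centralizer [Finite G] (hG : PiHom πᶜ G) {H : Subgroup G} (hH : DPi π H)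
    {p : ℕ} [hp : Fact p.Prime] (hπ : p ∈ π) {X : Subgroup G} (hX : IsPGroup p X) (hXH : X ≤ H) :
    DPi π (H.subgroupOf (centralizer (X : Set G))) := by
  refine ⟨hH.1.of_dvd (H2.card_subgroupOf_dvd _ _), fun K hK => ?_⟩
  have h1 : IsPiNum π (Nat.card (K.map (Subgroup.centralizer (X : Set G)).subtype ⊔ X :
      Subgroup G)) := by
    refine IsPiNum.of_dvd (IsPiNum.mul ?_ (H2.isPiNum_card_of_isPGroup hp.out hπ hX))
      (H1.card_sup_dvd_of_le_normalizer
        ((map_subtype_le K).trans (centralizer_le_normalizer _)))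
    rwa [card_map_of_injective (Subgroup.subtype_injective _)]
  obtain ⟨g, hg⟩ := hH.2 _ h1
  obtain ⟨c, hc, hc'⟩ := hH.exists_centralizer_conj hG hπ X hX 1 g (by simpa using hXH)
    (le_sup_right.trans hg)
  rw [map_one, one_smul] at hc'
  refine ⟨⟨c, hc⟩, fun k hk => ?_⟩
  rw [H8.mem_conj_smul, mem_subgroupOf]
  have : (k : G) ∈ MulAut.conj c • H := by
    rw [hc']
    exact hg (mem_sup_left (mem_map_of_mem _ hk))
  rw [H8.mem_conj_smul] at this
  exact this

theorem ferguson (π : Set ℕ) (G : Type u) [Group G] [Finite G] :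
    (∃ H : Subgroup G, DPi π H) → PiHom πᶜ G → PiClosed πᶜ G := by
  refine H1.card_induction
    (P := fun G _ _ => (∃ H : Subgroup G, DPi π H) → PiHom πᶜ G → PiClosed πᶜ G)
    (fun G _ _ ih hD hG => ?_) G
  obtain ⟨H, hH⟩ := hD
  by_cases hN : ∃ N : Subgroup G, N.Normal ∧ N ≠ ⊥ ∧ IsPiNum π (Nat.card N)
  · obtain ⟨N, hN, hne, hNπ⟩ := hN
    exact piClosed_of_quotient_of_compl hG N (by rwa [compl_compl])
      (ih _ (H1.card_quotient_lt hne) ⟨_, hH.quotient N hNπ⟩ (hG.quotient N))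
  have hfus : ∀ x ∈ H, ∀ y ∈ H, IsConj x y → ∃ h ∈ H, h * x * h⁻¹ = y := by
    intro x hx y hy hxy
    obtain ⟨g, rfl⟩ := isConj_iff.1 hxy
    by_cases h1 : x = 1
    · exact ⟨1, H.one_mem, by simp [h1]⟩
    obtain ⟨z, hz, q, hq, hqx, ⟨k, hk⟩, hz1⟩ := H92.exists_primePow_not_mem (K := ⊥) (g := x)
      (by simpa using h1)
    have : Fact q.Prime := ⟨hq⟩
    have hqπ : q ∈ π := isPiNum_orderOf_of_mem hH.1 hx q hq hqx
    have hX : IsPGroup q (zpowers z) := isPGroup_zpowers_of_orderOf hk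
    have hXx : zpowers z ≤ zpowers x := zpowers_le.2 hz
    have hXH : zpowers z ≤ H := hXx.trans (zpowers_le.2 hx)
    set C := Subgroup.centralizer ((zpowers z : Subgroup G) : Set G) with hC
    have hCtop : C ≠ ⊤ := by
      intro htop
      refine hN ⟨zpowers z, ?_, by simpa using hz1, H2.isPiNum_card_of_isPGroup hq hqπ hX⟩
      refine H1.normal_of_top_le_normalizer ?_
      rw [← htop]
      exact centralizer_le_normalizer _
    have hxC : x ∈ C := by
      rw [hC, mem_centralizer_iff]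
      intro w hw
      exact (H92.commute_of_mem_zpowers (hXx hw) (mem_zpowers x)).eq
    have hDC := hH.centralizer hG hqπ hX hXH
    obtain ⟨O, hO, hO1, hO2, -⟩ := (ih C (H1.card_subgroup_lt hCtop) ⟨_, hDC⟩
      (hG.subgroup C)).exists_normal
    rw [compl_compl] at hO2
    obtain ⟨c, hc, hc'⟩ := hH.exists_centralizer_conj hG hqπ _ hX 1 g⁻¹ (by simpa using hXH)
      (hXx.trans (by rw [zpowers_le, H8.mem_conj_smul, inv_inv]; exact hy))
    rw [map_one, one_smul] at hc'
    have hgc : g * c ∈ normalizer (H : Set G) := by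
      rw [H8.mem_normalizer_iff_conj_smul_eq, ← H8.conj_smul_conj_smul, hc',
        H8.conj_smul_conj_inv_smul]
    obtain ⟨a, b, ha, hb, hab, haπ, hbπ⟩ := H92.exists_pi_parts π (g * c)
    have haH : a ∈ H := hH.mem_of_mem_normalizer haπ (zpowers_le.2 hgc ha)
    have hbC : b ∈ C := centralizer_le (by exact_mod_cast hXH)
      (hG H b (by rw [compl_compl]; exact hH.1) hbπ (zpowers_le.2 hgc hb))
    obtain ⟨h', hh', o, ho, hd⟩ := H1.factorization_of_coprime_index
      (A := H.subgroupOf C) (B := O) (hO2.coprime hDC.index).symm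
      ⟨b * c⁻¹, C.mul_mem hbC (C.inv_mem hc)⟩
    have hd' : b * c⁻¹ = h' * o := congrArg Subtype.val hd
    have hg : g = a * h' * o := by
      rw [mul_assoc, ← hd', ← mul_assoc, ← hab]; group
    rw [mem_subgroupOf] at hh'
    have e1 : o * ⟨x, hxC⟩ * o⁻¹ * (⟨x, hxC⟩ : C)⁻¹ ∈ O := by
      have := (inferInstance : O.Normal).conj_mem _ (O.inv_mem ho) ⟨x, hxC⟩
      have := O.mul_mem ho this
      simpa [mul_assoc] using this
    have e2 : o * ⟨x, hxC⟩ * o⁻¹ * (⟨x, hxC⟩ : C)⁻¹ ∈ H.subgroupOf C := by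
      rw [mem_subgroupOf]
      refine H.mul_mem ?_ (H.inv_mem hx)
      have h2 := H.mul_mem haH hh'
      have := H.mul_mem (H.mul_mem (H.inv_mem h2) hy) h2
      rw [hg] at this
      simpa [mul_assoc] using this
    have e3 := (isPiNum_orderOf_of_mem hDC.1 e2).eq_one (isPiNum_orderOf_of_mem hO1 e1)
    rw [orderOf_eq_one_iff, mul_inv_eq_one] at e3
    have e4 : (o : G) * x * (o : G)⁻¹ = x := congrArg Subtype.val e3
    refine ⟨a * h', H.mul_mem haH hh', ?_⟩
    rw [hg]
    conv_lhs => rw [← e4]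
    group
  obtain ⟨K, hK, hK1, hK2⟩ := S0877.result H (hH.1.coprime hH.index) hfus
    (fun E p _ _ hE => by
      obtain ⟨g, hg⟩ := hH.2 E (hH.1.of_dvd hE)
      refine ⟨g⁻¹, ?_⟩
      rw [H8.map_conj_eq_smul, ← H8.conj_inv_smul_conj_smul H g]
      exact pointwise_smul_le_pointwise_smul_iff.2 hg)
  have hc : IsComplement' K H :=
    isComplement'_of_disjoint_and_mul_eq_univ (disjoint_iff.2 hK2)
      (by rw [← normal_mul, hK1, coe_top])
  refine piClosed_of_normal (K := K) ?_ ?_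
  · rw [← hc.index_eq_card]; exact hH.index
  · rw [hc.symm.index_eq_card, compl_compl]; exact hH.1

end Cfsg.Agent.H94
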