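import Cfsg.Agent.H37.FkKit
import Cfsg.Agent.H42.FusionSimple
import Cfsg.Agent.H98.AltSimple

/-!
# Strongly closed subgroups in `A₅`, `A₉`, `M₂₂`, `M₂₃` and `A₅ ≀ 2`
-/

set_option autoImplicit false

namespace Cfsg.Agent.H94.FkSm1

open Cfsg Subgroup Equiv H37.FK

theorem nsc_of_sub {Ω : Type*} [Group Ω] {H S : Subgroup Ω} [Finite H] (hS : H98.SylIn 2 S H)
    (h : ∀ T, T ≤ S → T ≠ ⊥ → (∀ x ∈ T, ∀ g ∈ H, g * x * g⁻¹ ∈ S → g * x * g⁻¹ ∈ T) → S ≤ T) :
    NSC H := by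
  obtain ⟨R, hR⟩ := hS.exists_sylow
  refine nsc_of_one R fun T hT h0 x hx => ?_
  rw [hR] at hT hx
  obtain ⟨y, hy, e⟩ := h (T.map H.subtype) (by rintro _ ⟨y, hy, rfl⟩; exact hT.1 hy)
    (by rwa [Ne, map_eq_bot_iff_of_injective _ H.subtype_injective]) (by
      rintro _ ⟨y, hy, rfl⟩ g hg h2
      exact ⟨_, hT.2 y hy ⟨g, hg⟩ h2, rfl⟩) hx
  exact Subtype.ext e ▸ hy

theorem nsc_of_fusProp {G Ω : Type*} [Group G] [Group Ω] [Finite Ω] {a : ℕ} (K P : Subgroup Ω)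
    (hPK : P ≤ K) (hP : Nat.card P = 2 ^ a) (hK : ¬ 2 ^ (a + 1) ∣ Nat.card K) (h : H42.FusProp K P)
    (e : G ≃* K) : NSC G := by
  intro S T hT
  obtain ⟨f, hf, h1, h2, h3⟩ := H42.exists_hom_sylow K P hPK hP hK e S
  by_cases h0 : T = ⊥
  · exact Or.inl h0
  · exact Or.inr (le_antisymm hT.1 ((h.of_hom f hf h1 h2 _ h3 hPK).closed T hT.1 h0
      fun x hx g _ => hT.2 x hx g))

set_option maxRecDepth 1000000 in
open H42 in
theorem nsc_M22 : NSC Spor.M22 :=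
  nsc_of_fusProp (a := 7) G22 P22 (fun _ h => h.1.1.1) (by rw [card_P22]; norm_num)
    (by rw [card_stab_two pt23_ne_pt0]; norm_num) fusProp_22 equiv22.symm

set_option maxRecDepth 1000000 in
open H42 in
theorem nsc_M23 : NSC Spor.M23 :=
  nsc_of_fusProp (a := 7) G23 P23 (fun _ h => h.1.1.1.1) (by rw [card_P23]; norm_num)
    (by rw [card_stab_pt]; norm_num) fusProp_23 equiv23.symm

theorem nsc_A9 : NSC (alternatingGroup (Fin 9)) := by
  obtain ⟨e⟩ : Nonempty (Fin 9 ≃ Fin 4 × ZMod 2 ⊕ Fin 1) := Fintype.card_eq.1 (by simp)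
  have hβ : Fintype.card (Fin 1) < 2 := by simp
  obtain ⟨R, hR, hy⟩ := H98.exists_sylIn_ge (p := 2) (U := zpowers (swap (0 : Fin 4) 1)) (H := ⊤)
    le_top (Two.of_sq (swap_mul_self _ _)).zpowers
  exact (nsc_of_sub (H98.AltS.sylIn_alt hβ hR) fun T hT h0 h => H98.AltS.closed_main hβ (by simp) hR
    (hy (mem_zpowers _)) (fun _ => ⟨0, 1, by decide, rfl⟩) hT h0 h).congr e.altCongrHom

/-- The alternating group of degree five. -/
abbrev A5 : Type := alternatingGroup (Fin 5)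

/-- An involution. -/
def z1 : A5 := ⟨swap 0 1 * swap 2 3, by rw [Perm.mem_alternatingGroup]; decide⟩

/-- A second involution. -/
def z2 : A5 := ⟨swap 0 2 * swap 1 3, by rw [Perm.mem_alternatingGroup]; decide⟩

theorem z1_sq : z1 * z1 = 1 := Subtype.ext (by decide)
theorem z2_sq : z2 * z2 = 1 := Subtype.ext (by decide)
theorem z1_ne : z1 ≠ 1 := fun h => absurd (congrArg Subtype.val h) (by decide)
theorem z2_ne : z2 ≠ 1 := fun h => absurd (congrArg Subtype.val h) (by decide)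
theorem z12_ne : z1 * z2 ≠ 1 := fun h => absurd (congrArg Subtype.val h) (by decide)
theorem z12_comm : Commute z1 z2 := Subtype.ext (by decide)

theorem perm_conj : ∀ x : Perm (Fin 5), Perm.sign x = 1 → x * x * (x * x) = 1 → x = 1 ∨
    ∃ g : Perm (Fin 5), Perm.sign g = 1 ∧ g * x = swap 0 1 * swap 2 3 * g := by
  decide +kernel

theorem two_conj {x : A5} (h : Two x) (h1 : x ≠ 1) : ∃ g, g * x * g⁻¹ = z1 := by
  obtain ⟨k, hk⟩ := h
  have h2 : orderOf x ∣ 2 ^ k := orderOf_dvd_of_pow_eq_one hk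
  have h3 : orderOf x ∣ 4 * 15 := by
    have := orderOf_dvd_natCard x
    rwa [show Nat.card A5 = 60 by
      have := two_mul_nat_card_alternatingGroup (α := Fin 5)
      rw [Nat.card_perm, Nat.card_fin, show Nat.factorial 5 = 120 from rfl] at this
      change 2 * Nat.card A5 = 120 at this
      omega] at this
  have h4 : x ^ 4 = 1 := orderOf_dvd_iff_pow_eq_one.1 (Nat.Coprime.dvd_of_dvd_mul_right
    (Nat.Coprime.coprime_dvd_left h2 (Nat.Coprime.pow_left _ (by norm_num))) h3)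
  rcases perm_conj x.1 x.2 (by
    have := congrArg Subtype.val h4
    rwa [show x ^ 4 = x * x * (x * x) by simp only [pow_succ, pow_zero, one_mul, mul_assoc]]
      at this) with e | ⟨g, hg, e⟩
  · exact absurd (Subtype.ext e) h1
  · exact ⟨⟨g, hg⟩, mul_inv_eq_iff_eq_mul.2 (Subtype.ext e)⟩

theorem two_conj' {x y : A5} (hx : Two x) (x1 : x ≠ 1) (hy : Two y) (y1 : y ≠ 1) :
    ∃ g, g * x * g⁻¹ = y := by
  obtain ⟨g, hg⟩ := two_conj hx x1
  obtain ⟨k, hk⟩ := two_conj hy y1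
  exact ⟨k⁻¹ * g, by rw [← hk, mul_inv_eq_iff_eq_mul] at hg; rw [mul_assoc k⁻¹, hg]; group⟩

theorem nsc_A5 : NSC A5 := by
  refine nsc_of_xc fun X hX ⟨x, hx, x1⟩ y hy => ?_
  by_cases y1 : y = 1
  · exact y1 ▸ hX.one
  · obtain ⟨g, rfl⟩ := two_conj' (hX.two x hx) x1 hy y1
    exact hX.conj x hx g trivial

/-- The wreath product. -/
abbrev W : Type := alternatingFiveWreathTwo

/-- The base group. -/
def φ : A5 × A5 →* W :=
  ((Perm.sumCongrHom (Fin 5) (Fin 5)).comp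
    ((alternatingGroup (Fin 5)).subtype.prodMap (alternatingGroup (Fin 5)).subtype)).codRestrict _
    fun x => subset_closure (Or.inl ⟨x.1, x.2, rfl⟩)

/-- The swap. -/
def s : W := ⟨sumComm (Fin 5) (Fin 5), subset_closure (Or.inr rfl)⟩

theorem φ_inj : Function.Injective φ := fun a b h => by
  have := Perm.sumCongrHom_injective (congrArg Subtype.val h)
  exact Prod.ext (Subtype.ext (congrArg Prod.fst this)) (Subtype.ext (congrArg Prod.snd this))

theorem s_sq : s * s = 1 := Subtype.ext (Equiv.ext fun x => by rcases x with x | x <;> rfl)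

theorem s_inv : s⁻¹ = s := inv_eq_of_mul_eq_one_right s_sq

theorem s_φ (a b : A5) : s * φ (a, b) = φ (b, a) * s :=
  Subtype.ext (Equiv.ext fun x => by rcases x with x | x <;> rfl)

theorem cases (g : W) : (∃ a b, g = φ (a, b)) ∨ ∃ a b, g = φ (a, b) * s := by
  obtain ⟨g, hg⟩ := g
  induction hg using closure_induction'' with
  | mem x hx =>
    rcases hx with ⟨a, b, rfl⟩ | rfl
    · exact Or.inl ⟨a, b, rfl⟩
    · exact Or.inr ⟨1, 1, by rw [Prod.mk_one_one, map_one, one_mul]; rfl⟩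
  | inv_mem x hx =>
    rcases hx with ⟨a, b, rfl⟩ | rfl
    · exact Or.inl ⟨a⁻¹, b⁻¹, (map_inv φ (a, b)).symm⟩
    · exact Or.inr ⟨1, 1, by rw [Prod.mk_one_one, map_one, one_mul]; exact s_inv⟩
  | one => exact Or.inl ⟨1, 1, (map_one φ).symm⟩
  | mul x y hx hy h1 h2 =>
    change (∃ a b, (⟨x, hx⟩ * ⟨y, hy⟩ : W) = _) ∨ ∃ a b, (⟨x, hx⟩ * ⟨y, hy⟩ : W) = _
    rcases h1 with ⟨a, b, e⟩ | ⟨a, b, e⟩ <;> rcases h2 with ⟨c, d, e'⟩ | ⟨c, d, e'⟩ <;> rw [e, e']
    · exact Or.inl ⟨_, _, (map_mul φ _ _).symm⟩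
    · exact Or.inr ⟨_, _, by rw [← mul_assoc, ← map_mul]⟩
    · exact Or.inr ⟨_, _, by rw [mul_assoc, s_φ, ← mul_assoc, ← map_mul]⟩
    · exact Or.inl ⟨_, _, by
        rw [mul_assoc, ← mul_assoc s, s_φ, mul_assoc, s_sq, mul_one, ← map_mul]⟩

theorem mul_s (a b c d : A5) : φ (a, b) * s * (φ (c, d) * s) = φ (a * d, b * c) := by
  rw [mul_assoc, ← mul_assoc s, s_φ, mul_assoc, s_sq, mul_one, ← map_mul]; rfl

theorem two_φ {a b : A5} (h : Two (φ (a, b))) : Two a ∧ Two b := by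
  obtain ⟨k, hk⟩ := h
  rw [← map_pow, map_eq_one_iff _ φ_inj] at hk
  exact ⟨⟨k, congrArg Prod.fst hk⟩, k, congrArg Prod.snd hk⟩

section X

variable {X : Set W} (hX : XC ⊤ X)
include hX

theorem conj_φ {a b : A5} (h : φ (a, b) ∈ X) (g k : A5) : φ (g * a * g⁻¹, k * b * k⁻¹) ∈ X := by
  have := hX.conj _ h (φ (g, k)) trivial
  rwa [← map_inv, ← map_mul, ← map_mul] at this

theorem swap_φ {a b : A5} (h : φ (a, b) ∈ X) : φ (b, a) ∈ X := by
  have := hX.conj _ h s trivial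
  rwa [s_φ, mul_inv_cancel_right] at this

theorem exists_base (h : ∃ x ∈ X, x ≠ 1) : ∃ a b, φ (a, b) ∈ X ∧ (a ≠ 1 ∨ b ≠ 1) := by
  obtain ⟨x, hx, x1⟩ := h
  rcases cases x with ⟨a, b, rfl⟩ | ⟨a, b, rfl⟩
  · refine ⟨a, b, hx, not_and_or.1 ?_⟩
    rintro ⟨rfl, rfl⟩
    exact x1 (map_one φ)
  · by_cases hab : a * b = 1
    · have h1 : s ∈ X := by
        refine hX.conj' (g := φ (a, 1)) trivial ?_
        rwa [← map_inv, Prod.inv_mk, mul_assoc, s_φ, ← mul_assoc, ← map_mul, Prod.mk_mul_mk,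
          inv_one, mul_one, one_mul, inv_eq_of_mul_eq_one_right hab]
      have h2 := hX.conj _ h1 (φ (z1, 1)) trivial
      rw [← map_inv, Prod.inv_mk, mul_assoc, s_φ, ← mul_assoc, ← map_mul, Prod.mk_mul_mk,
        inv_one, mul_one, one_mul, inv_eq_of_mul_eq_one_right z1_sq] at h2
      have h3 := hX.mul_comm h2 h1 (by
        rw [Commute, SemiconjBy, ← mul_assoc, s_φ])
      rw [mul_assoc, s_sq, mul_one] at h3
      exact ⟨_, _, h3, Or.inl z1_ne⟩
    · have := hX.pow hx 2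
      rw [sq, mul_s] at this
      exact ⟨_, _, this, Or.inl hab⟩

theorem exists_left (h : ∃ x ∈ X, x ≠ 1) : ∃ a, φ (a, 1) ∈ X ∧ a ≠ 1 := by
  obtain ⟨a, b, h1, h2⟩ := exists_base hX h
  by_cases b1 : b = 1
  · exact ⟨a, b1 ▸ h1, h2.resolve_right (not_not.2 b1)⟩
  by_cases a1 : a = 1
  · exact ⟨b, a1 ▸ swap_φ hX h1, b1⟩
  obtain ⟨t1, t2⟩ := two_φ (hX.two _ h1)
  obtain ⟨g, e1⟩ := two_conj t1 a1
  obtain ⟨g', e2⟩ := two_conj' t1 a1 (Two.of_sq z2_sq) z2_ne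
  obtain ⟨k, e3⟩ := two_conj t2 b1
  have k1 := conj_φ hX h1 g k
  have k2 := conj_φ hX h1 g' k
  rw [e3] at k1 k2
  rw [e1] at k1
  rw [e2] at k2
  have k3 := hX.mul_comm k1 k2 ((Commute.prod z12_comm (Commute.refl z1)).map φ)
  rw [← map_mul, Prod.mk_mul_mk, z1_sq] at k3
  exact ⟨_, k3, z12_ne⟩

theorem base_mem (h : ∃ x ∈ X, x ≠ 1) {a b : A5} (ht : Two (φ (a, b))) : φ (a, b) ∈ X := by
  obtain ⟨c, h1, c1⟩ := exists_left hX h
  have key : ∀ a, Two a → φ (a, 1) ∈ X := fun a ha => by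
    by_cases a1 : a = 1
    · rw [a1, Prod.mk_one_one, map_one]; exact hX.one
    · obtain ⟨g, rfl⟩ := two_conj' (two_φ (hX.two _ h1)).1 c1 ha a1
      simpa using conj_φ hX h1 g 1
  have := hX.mul_comm (key a (two_φ ht).1) (swap_φ hX (key b (two_φ ht).2))
    ((Commute.prod (Commute.one_right a) (Commute.one_left b)).map φ)
  rwa [← map_mul, Prod.mk_mul_mk, mul_one, one_mul] at this

end X

theorem nsc2_W : NSC2 W := by
  intro S T hT h0
  obtain ⟨⟨x, hx⟩, h1⟩ := ne_bot_iff_exists_ne_one.1 h0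
  have hX := xc_inX hT
  have hne : ∃ x ∈ InX T, x ≠ 1 := ⟨x, mem_inX hx, fun e => h1 (Subtype.ext e)⟩
  have key : ∀ a b, φ (a, b) ∈ (S : Subgroup W) → φ (a, b) ∈ T := fun a b h =>
    InX.mem hT (base_mem hX hne (Two.of_mem S.isPGroup' h)) h
  constructor
  · rw [relIndex, index_dvd_two_iff]
    by_cases h : ∃ a b, φ (a, b) * s ∈ (S : Subgroup W)
    · obtain ⟨a, b, h⟩ := h
      refine ⟨⟨_, h⟩, fun ⟨y, hy⟩ => ?_⟩
      rcases cases y with ⟨c, d, rfl⟩ | ⟨c, d, rfl⟩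
      · exact Or.inr (key c d hy)
      · have := mul_mem hy h
        rw [mul_s] at this
        exact Or.inl (mem_subgroupOf.2 (by simpa only [coe_mul, mul_s] using key _ _ this))
    · refine ⟨1, fun ⟨y, hy⟩ => Or.inr ?_⟩
      rcases cases y with ⟨c, d, rfl⟩ | ⟨c, d, rfl⟩
      · exact key c d hy
      · exact absurd ⟨c, d, hy⟩ h
  · have hN : ∀ y ∈ InX T, y ∈ normalClosure (T : Set W) := fun y ⟨g, hg⟩ => by
      simpa [mul_assoc] using normalClosure_normal.conj_mem _ (subset_normalClosure hg) g⁻¹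
    have h2 : ∀ a, φ (a, 1) ∈ normalClosure (T : Set W) := fun a => by
      rcases IsSimpleGroup.eq_bot_or_eq_top_of_normal
        ((normalClosure (T : Set W)).comap (φ.comp (MonoidHom.inl A5 A5))) inferInstance with e | e
      · refine absurd (mem_bot.1 (e.le (hN _ (base_mem hX hne (a := z1) (b := 1) (Two.of_sq ?_)))))
          z1_ne
        rw [← map_mul, Prod.mk_mul_mk, z1_sq, mul_one, Prod.mk_one_one, map_one]
      · exact e.ge (mem_top a)
    have h3 : ∀ a b, φ (a, b) ∈ normalClosure (T : Set W) := fun a b => by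
      have h4 := normalClosure_normal.conj_mem _ (h2 b) s
      rw [s_φ, mul_inv_cancel_right] at h4
      have := mul_mem (h2 a) h4
      rwa [← map_mul, Prod.mk_mul_mk, mul_one, one_mul] at this
    refine (closure_le _).2 fun g hg => ?_
    rcases cases g with ⟨c, d, rfl⟩ | ⟨c, d, e⟩
    · exact h3 c d
    · obtain ⟨k, hk⟩ := hg.2
      have h4 : g = (g * g) ^ (k + 1) := by
        rw [← sq, ← pow_mul, show 2 * (k + 1) = orderOf g + 1 by omega, pow_succ, pow_orderOf_eq_one,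
          one_mul]
      rw [h4]
      refine pow_mem ?_ _
      rw [e, mul_s]
      exact h3 _ _

theorem sm1 : Sm1Stmt := ⟨nsc_A5, nsc_A9, nsc_M22, nsc_M23, nsc2_W⟩

end Cfsg.Agent.H94.FkSm1
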