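import Mathlib
import Cfsg.Agent.H91.ThreeOrbits

/-!
The order of an irreducible module of a cyclic group over a prime field.
-/

set_option autoImplicit false

namespace Cfsg.Agent.H94

open Polynomial

theorem card_eq_of_irreducible_end {q : ℕ} [hq : Fact q.Prime] {V : Type*} [AddCommGroup V]
    [Module (ZMod q) V] [Finite V] [Nontrivial V] (T : Module.End (ZMod q) V) {n : ℕ}
    (hn : orderOf T = n) (hn0 : n ≠ 0)
    (hirr : ∀ W : Submodule (ZMod q) V, (∀ v ∈ W, T v ∈ W) → W = ⊥ ∨ W = ⊤) :
    Nat.card V = q ^ orderOf (q : ZMod n) := by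
  classical
  have hnt : Nontrivial (Module.AEval' T) := (Module.AEval'.of T).symm.toEquiv.nontrivial
  have hs : IsSimpleModule (ZMod q)[X] (Module.AEval' T) := by
    refine { exists_pair_ne := ⟨⊥, ⊤, bot_ne_top⟩, eq_bot_or_eq_top := fun N => ?_ }
    rcases hirr ((N.restrictScalars (ZMod q)).comap (Module.AEval'.of T).toLinearMap)
      (fun v hv => by
        have : Module.AEval'.of T (T v) ∈ N := by
          rw [← Module.AEval'.X_smul_of]; exact N.smul_mem _ hv
        exact this) with h | h
    · left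
      rw [eq_bot_iff]
      intro m hm
      have : (Module.AEval'.of T).symm m ∈
          ((N.restrictScalars (ZMod q)).comap (Module.AEval'.of T).toLinearMap) := by
        simpa using hm
      rw [h, Submodule.mem_bot] at this
      simpa using this
    · right
      rw [eq_top_iff]
      intro m _
      have : (Module.AEval'.of T).symm m ∈
          ((N.restrictScalars (ZMod q)).comap (Module.AEval'.of T).toLinearMap) := by
        rw [h]; trivial
      simpa using this
  obtain ⟨I, hI, ⟨e⟩⟩ := isSimpleModule_iff_quot_maximal.1 hs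
  let iF : Field ((ZMod q)[X] ⧸ I) := Ideal.Quotient.field I
  have hcard : Nat.card V = Nat.card ((ZMod q)[X] ⧸ I) :=
    Nat.card_congr ((Module.AEval'.of T).toEquiv.trans e.toEquiv)
  have hfin : Finite ((ZMod q)[X] ⧸ I) :=
    Finite.of_equiv V ((Module.AEval'.of T).toEquiv.trans e.toEquiv)
  let iFin : Fintype ((ZMod q)[X] ⧸ I) := Fintype.ofFinite _
  set x : (ZMod q)[X] ⧸ I := Ideal.Quotient.mk I X with hx
  have hsmul : ∀ (k : ℕ) (v : V), e (Module.AEval'.of T ((T ^ k) v)) =
      x ^ k * e (Module.AEval'.of T v) := by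
    intro k v
    rw [← Module.End.smul_def, ← Module.AEval'.X_pow_smul_of, map_smul, hx, ← map_pow]
    obtain ⟨y, hy⟩ := Ideal.Quotient.mk_surjective (e (Module.AEval'.of T v))
    rw [← hy, ← map_mul]
    rfl
  have hord : orderOf x = n := by
    rw [← hn, orderOf_eq_orderOf_iff]
    intro k
    constructor
    · intro h
      ext v
      have := hsmul k v
      rw [h, one_mul] at this
      exact (Module.AEval'.of T).injective (e.injective this)
    · intro h
      have := hsmul k ((Module.AEval'.of T).symm (e.symm 1))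
      rw [h] at this
      simpa using this.symm
  have hx0 : x ≠ 0 := by
    intro h0
    have := pow_orderOf_eq_one x
    rw [hord, h0, zero_pow hn0] at this
    exact zero_ne_one this
  have hchar : CharP ((ZMod q)[X] ⧸ I) q := (Algebra.charP_iff (ZMod q) _ q).1 inferInstance
  obtain ⟨d, -, hd⟩ := FiniteField.card ((ZMod q)[X] ⧸ I) q
  have h1 : n ∣ q ^ (d : ℕ) - 1 := by
    rw [← hord, ← hd]
    exact orderOf_dvd_of_pow_eq_one (FiniteField.pow_card_sub_one_eq_one x hx0)
  have h2 : (q : ZMod n) ^ (d : ℕ) = 1 := by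
    have hpos : 1 ≤ q ^ (d : ℕ) := Nat.one_le_pow _ _ hq.out.pos
    have := (ZMod.natCast_eq_zero_iff _ _).2 h1
    rw [Nat.cast_sub hpos, sub_eq_zero] at this
    exact_mod_cast this
  set f := orderOf (q : ZMod n) with hf
  have hfd : f ∣ d := orderOf_dvd_of_pow_eq_one h2
  have hf0 : 0 < f := Nat.pos_of_dvd_of_pos hfd d.pos
  have h3 : x ^ q ^ f = x := by
    have hpos : 1 ≤ q ^ f := Nat.one_le_pow _ _ hq.out.pos
    have : n ∣ q ^ f - 1 := by
      rw [← ZMod.natCast_eq_zero_iff, Nat.cast_sub hpos, sub_eq_zero]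
      push_cast
      exact pow_orderOf_eq_one _
    rw [← hord, orderOf_dvd_iff_pow_eq_one] at this
    rw [← Nat.sub_add_cancel hpos, pow_succ, this, one_mul]
  have h4 : ∀ y : (ZMod q)[X] ⧸ I, y ^ q ^ f = y := by
    intro y
    obtain ⟨g, rfl⟩ := Ideal.Quotient.mk_surjective y
    induction g using Polynomial.induction_on' with
    | add g h ihg ihh => rw [map_add, add_pow_char_pow, ihg, ihh]
    | monomial k a =>
      rw [← C_mul_X_pow_eq_monomial, map_mul, map_pow, mul_pow, ← hx, ← pow_mul, mul_comm k,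
        pow_mul, h3, ← map_pow, ← C_pow, ZMod.pow_card_pow]
  have h5 : Fintype.card ((ZMod q)[X] ⧸ I) - 1 ∣ q ^ f - 1 := by
    rw [← FiniteField.forall_pow_eq_one_iff]
    intro u
    have hpos : 1 ≤ q ^ f := Nat.one_le_pow _ _ hq.out.pos
    have := h4 u
    rw [← Nat.sub_add_cancel hpos, pow_succ] at this
    ext
    simpa using this
  rw [hd] at h5
  have h6 : 1 < q ^ f := Nat.one_lt_pow hf0.ne' hq.out.one_lt
  have h7 : q ^ (d : ℕ) - 1 ≤ q ^ f - 1 := Nat.le_of_dvd (by omega) h5
  have h8 : q ^ (d : ℕ) ≤ q ^ f := by omega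
  have h9 : (d : ℕ) ≤ f := (Nat.pow_le_pow_iff_right hq.out.one_lt).1 h8
  rw [hcard, Nat.card_eq_fintype_card, hd, le_antisymm h9 (Nat.le_of_dvd d.pos hfd)]

theorem card_eq_of_irreducible_mulAut' {q : ℕ} [hq : Fact q.Prime] {W : Type*} [CommGroup W]
    [Module (ZMod q) (Additive W)] [Finite W] [Nontrivial W] (ξ : MulAut W)
    (hirr : ∀ U : Subgroup W, (∀ u ∈ U, ξ u ∈ U) → U = ⊥ ∨ U = ⊤) :
    Nat.card W = q ^ orderOf (q : ZMod (orderOf ξ)) := by
  have hinj : Function.Injective (H91.mulAutToEnd q W) := fun a b h =>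
    MulEquiv.ext fun u => congrArg (fun f => (f (Additive.ofMul u)).toMul) h
  refine card_eq_of_irreducible_end (V := Additive W) (H91.mulAutToEnd q W ξ)
    (orderOf_injective _ hinj ξ) (orderOf_pos ξ).ne' fun U hU => ?_
  rcases hirr (AddSubgroup.toSubgroup' U.toAddSubgroup) (fun u hu => hU (Additive.ofMul u) hu)
    with h | h
  · left
    rw [eq_bot_iff]
    intro v hv
    have : v.toMul ∈ (AddSubgroup.toSubgroup' U.toAddSubgroup : Subgroup W) := hv
    rw [h] at this
    exact this
  · right
    rw [eq_top_iff]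
    intro v _
    have : v.toMul ∈ (AddSubgroup.toSubgroup' U.toAddSubgroup : Subgroup W) := by
      rw [h]; trivial
    exact this

/-- An elementary abelian `q`-group on which an automorphism `ξ` acts irreducibly has order
`q ^ e`, with `e` the multiplicative order of `q` modulo the order of `ξ`. -/
theorem card_eq_of_irreducible_mulAut {q : ℕ} [hq : Fact q.Prime] {W : Type*} [Group W]
    (hc : IsMulCommutative W) (hW : ∀ w : W, w ^ q = 1) [Finite W] [Nontrivial W] (ξ : MulAut W)
    (hirr : ∀ U : Subgroup W, (∀ u ∈ U, ξ u ∈ U) → U = ⊥ ∨ U = ⊤) :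
    Nat.card W = q ^ orderOf (q : ZMod (orderOf ξ)) :=
  let i : CommGroup W := { mul_comm := hc.is_comm.comm }
  @card_eq_of_irreducible_mulAut' q _ W i
    (AddCommGroup.zmodModule (n := q) (G := Additive W) (fun w => hW w.toMul)) _ _ ξ hirr

end Cfsg.Agent.H94
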