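import Mathlib
import Cfsg.Agent.H94.PiClosed
import Cfsg.Agent.H94.IrrCyc
import Cfsg.Prelude.Def_LocalStructure
import Cfsg.Prelude.Def_Transfer

/-!
Minimal non-`p`-closed groups that are not simple.
-/

set_option autoImplicit false
open scoped Pointwise IsMulCommutative

namespace Cfsg.Agent.H94

open Subgroup
open Cfsg.Agent.H2 (IsPiNum)

variable {G : Type*} [Group G]

theorem isPGroup_of_isPiNum_singleton [Finite G] {p : ℕ} [hp : Fact p.Prime]
    (h : IsPiNum {p} (Nat.card G)) : IsPGroup p G := by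
  obtain ⟨k, hk⟩ := (H92.isPiNum_singleton_iff hp.out Nat.card_pos.ne').1 h
  exact IsPGroup.of_card hk

theorem isPiNum_compl_singleton_iff {p n : ℕ} (hp : p.Prime) : IsPiNum {p}ᶜ n ↔ ¬ p ∣ n :=
  ⟨fun h hd => h p hp hd rfl, fun h q _ hd hq => h (by rw [← (hq : q = p)]; exact hd)⟩

theorem isPClosed_iff_piClosed [Finite G] {p : ℕ} [hp : Fact p.Prime] :
    IsPClosed p G ↔ PiClosed {p} G := by
  constructor
  · intro h
    obtain ⟨P⟩ : Nonempty (Sylow p G) := inferInstance
    have := h P
    exact piClosed_of_normal (H2.isPiNum_card_of_isPGroup hp.out rfl P.isPGroup')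
      ((isPiNum_compl_singleton_iff hp.out).2 P.not_dvd_index)
  · intro h P
    obtain ⟨K, hK, h1, -, h3⟩ := h.exists_normal
    have hle : (P : Subgroup G) ≤ K := fun x hx =>
      (h3 x).2 (isPiNum_orderOf_of_mem
        (H2.isPiNum_card_of_isPGroup hp.out (Set.mem_singleton p) P.isPGroup') hx)
    rw [← P.is_maximal' (isPGroup_of_isPiNum_singleton h1) hle]
    infer_instance

theorem piClosed_of_card {π : Set ℕ} (h : IsPiNum π (Nat.card G)) : PiClosed π G :=
  piClosed_of_normal (K := ⊤) (by rwa [card_top]) (by rw [index_top]; exact H2.isPiNum_one _)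

theorem piClosed_of_card_compl {π : Set ℕ} (h : IsPiNum πᶜ (Nat.card G)) : PiClosed π G :=
  piClosed_of_normal (K := ⊥) (by rw [card_bot]; exact H2.isPiNum_one _) (by rwa [index_bot])

theorem piClosed_of_normal_piClosed [Finite G] {π : Set ℕ} (L : Subgroup G) [L.Normal]
    (hL : PiClosed π L) (hi : IsPiNum πᶜ L.index) : PiClosed π G := by
  obtain ⟨K, hK, h1, h2, -⟩ := hL.exists_normal
  refine piClosed_of_normal (K := K.map L.subtype) ?_ ?_
  · rwa [card_map_of_injective L.subtype_injective]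
  · rw [index_map_subtype]; exact h2.mul hi

theorem PiClosed.mem_centralizer [Finite G] {π : Set ℕ} {Q : Subgroup G} {x : G}
    (h : PiClosed π (zpowers x ⊔ Q : Subgroup G)) (hQ : IsPiNum πᶜ (Nat.card Q))
    (hx : IsPiNum π (orderOf x)) (hn : x ∈ normalizer (Q : Set G)) :
    x ∈ centralizer (Q : Set G) := by
  have hxm : x ∈ zpowers x ⊔ Q := mem_sup_left (mem_zpowers x)
  have := h.piHom (Q.subgroupOf _) ⟨x, hxm⟩ (hQ.of_dvd (H2.card_subgroupOf_dvd _ _))
    (by rwa [← Subgroup.orderOf_coe]) (mem_normalizer_comap _ hn)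
  rw [mem_centralizer_iff] at this ⊢
  intro y hy
  exact congrArg Subtype.val (this ⟨y, mem_sup_right hy⟩ hy)

theorem isMulCommutative_of_index_prime {A : Subgroup G} [IsMulCommutative A]
    (hp : A.index.Prime) {t : G} (ht : t ∉ A) (hc : t ∈ centralizer (A : Set G)) :
    IsMulCommutative G := by
  have htop : A ⊔ zpowers t = ⊤ :=
    (isCoatom_of_index_prime hp).2 _ (left_lt_sup.2 (by rwa [zpowers_le]))
  have hA : A ≤ center G := by
    rw [← centralizer_univ, ← coe_top, ← htop, le_centralizer_iff, sup_le_iff, zpowers_le]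
    exact ⟨le_centralizer A, hc⟩
  have ht' : zpowers t ≤ center G := by
    rw [← centralizer_univ, ← coe_top, ← htop, le_centralizer_iff, sup_le_iff]
    exact ⟨le_centralizer_iff.1 (zpowers_le.2 hc), le_centralizer _⟩
  have : center G = ⊤ := top_le_iff.1 (htop ▸ sup_le hA ht')
  exact ⟨⟨fun a b => ((mem_center_iff.1 (this ▸ mem_top b : b ∈ center G)) a)⟩⟩

theorem card_eq_of_minimal_normal_index_prime [Finite G] {p q : ℕ} [hp : Fact p.Prime]
    (hq : q.Prime) (hpq : q ≠ p) (hna : ¬ IsMulCommutative G) (A : Subgroup G) [A.Normal]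
    (hA : IsElementaryAbelian q A) (hidx : A.index = p)
    (hmin : ∀ B : Subgroup G, B.Normal → B ≤ A → B = ⊥ ∨ B = A) :
    Nat.card A = q ^ orderOf (q : ZMod p) := by
  have : Fact q.Prime := ⟨hq⟩
  have hAc := hA.1
  obtain ⟨t, ht⟩ := exists_prime_orderOf_dvd_card' (G := G) p (hidx ▸ A.index_dvd_card)
  have htA : t ∉ A := fun h => by
    have := orderOf_dvd_of_pow_eq_one (hA.2 t h)
    rw [ht] at this
    exact hpq ((Nat.prime_dvd_prime_iff_eq hp.out hq).1 this).symm
  have hidx' : A.index.Prime := hidx ▸ hp.out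
  have htop : A ⊔ zpowers t = ⊤ :=
    (isCoatom_of_index_prime hidx').2 _ (left_lt_sup.2 (by rwa [zpowers_le]))
  have hne : (MulAut.conjNormal t : MulAut A) ≠ 1 := by
    intro h
    refine hna (isMulCommutative_of_index_prime hidx' htA ?_)
    rw [mem_centralizer_iff]
    intro a ha
    have := congrArg (fun f : MulAut A => (f ⟨a, ha⟩ : G)) h
    simp only [MulAut.conjNormal_apply, MulAut.one_apply] at this
    calc a * t = t * a * t⁻¹ * t := by rw [this]
      _ = t * a := by group
  have hord : orderOf (MulAut.conjNormal t : MulAut A) = p :=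
    orderOf_eq_prime (by rw [← map_pow, ← ht, pow_orderOf_eq_one, map_one]) hne
  have hnt : Nontrivial A := by
    by_contra h
    rw [not_nontrivial_iff_subsingleton] at h
    exact hne (MulEquiv.ext fun a => Subsingleton.elim _ _)
  suffices h : Nat.card A = q ^ orderOf (q : ZMod (orderOf (MulAut.conjNormal t : MulAut A))) by
    rw [hord] at h
    exact h
  refine card_eq_of_irreducible_mulAut hAc (fun w => Subtype.ext (hA.2 w w.2)) _ fun U hU => ?_
  have hn : (U.map A.subtype).Normal := by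
    refine H1.normal_of_top_le_normalizer ?_
    rw [← htop, sup_le_iff, zpowers_le]
    refine ⟨?_, ?_⟩
    · refine le_trans ?_ (centralizer_le_normalizer _)
      exact (le_centralizer A).trans (centralizer_le (by exact_mod_cast map_subtype_le U))
    · refine H8.mem_normalizer_of_conj_smul_le ?_
      rintro _ ⟨_, ⟨u, hu, rfl⟩, rfl⟩
      exact ⟨_, hU u hu, rfl⟩
  rcases hmin _ hn (map_subtype_le U) with h | h
  · left
    exact (map_eq_bot_iff_of_injective U A.subtype_injective).1 h
  · right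
    rw [eq_top_iff]
    intro a _
    have : (a : G) ∈ U.map A.subtype := by rw [h]; exact a.2
    obtain ⟨u, hu, hua⟩ := this
    rwa [← Subtype.ext hua]

theorem isElementaryAbelian_of_minimal_normal [Finite G] {q : ℕ} [hq : Fact q.Prime]
    (A : Subgroup G) [A.Normal] (hA : IsPGroup q A)
    (hmin : ∀ B : Subgroup G, B.Normal → B ≤ A → B = ⊥ ∨ B = A) : IsElementaryAbelian q A := by
  by_cases h0 : A = ⊥
  · subst h0
    exact ⟨inferInstance, fun a ha => by rw [mem_bot.1 ha, one_pow]⟩
  have hc := (H2.minimal_normal_solvable A h0 (H4.isSolvable_of_isPGroup hA) hmin).1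
  refine ⟨hc, ?_⟩
  let B : Subgroup G :=
    { carrier := {a | a ∈ A ∧ a ^ q = 1}
      one_mem' := ⟨A.one_mem, one_pow q⟩
      mul_mem' := fun {a b} ha hb => ⟨A.mul_mem ha.1 hb.1, by
        have : Commute a b := congrArg Subtype.val (mul_comm (⟨a, ha.1⟩ : A) ⟨b, hb.1⟩)
        rw [this.mul_pow, ha.2, hb.2, one_mul]⟩
      inv_mem' := fun {a} ha => ⟨A.inv_mem ha.1, by rw [inv_pow, ha.2, inv_one]⟩ }
  have hB : B.Normal := ⟨fun a ha g => ⟨(inferInstance : A.Normal).conj_mem a ha.1 g, by
    rw [conj_pow, ha.2, mul_one, mul_inv_cancel]⟩⟩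
  rcases hmin B hB (fun a ha => ha.1) with h | h
  · exfalso
    have hnt : Nontrivial A := (nontrivial_iff_ne_bot A).2 h0
    obtain ⟨n, hn, hcard⟩ := hA.nontrivial_iff_card.1 hnt
    obtain ⟨x, hx⟩ := exists_prime_orderOf_dvd_card' (G := A) q (hcard ▸ dvd_pow_self q hn.ne')
    have : (x : G) ∈ B := ⟨x.2, by rw [← hx, ← Subgroup.orderOf_coe, pow_orderOf_eq_one]⟩
    rw [h, mem_bot] at this
    rw [← Subgroup.orderOf_coe, this, orderOf_one] at hx
    exact hq.out.one_lt.ne hx
  · intro a ha
    rw [← h] at ha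
    exact ha.2

theorem min_non_closed [Finite G] {p : ℕ} [hp : Fact p.Prime] (hnc : ¬ PiClosed {p} G)
    (hsub : ∀ H : Subgroup G, H ≠ ⊤ → PiClosed {p} H)
    (hquo : ∀ (N : Subgroup G) [N.Normal], N ≠ ⊥ → PiClosed {p} (G ⧸ N))
    (hns : ¬ IsSimpleGroup G) :
    ∃ q : ℕ, q.Prime ∧ q ≠ p ∧ Nat.card G = p * q ^ orderOf (q : ZMod p) ∧
      ∃ A : Subgroup G, A.Normal ∧ Nat.card A = q ^ orderOf (q : ZMod p) ∧
        IsElementaryAbelian q A ∧ ∀ B : Subgroup G, B.Normal → B ≤ A → B = ⊥ ∨ B = A := by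
  have hnt : Nontrivial G := by
    by_contra h
    rw [not_nontrivial_iff_subsingleton] at h
    exact hnc (piClosed_of_card (by rw [Nat.card_of_subsingleton (1 : G)]; exact H2.isPiNum_one _))
  -- no nontrivial normal `p`-subgroup
  have hOp : ∀ N : Subgroup G, N.Normal → IsPiNum {p} (Nat.card N) → N = ⊥ := by
    intro N hN h
    by_contra hne
    exact hnc (piClosed_of_quotient N h (hquo N hne))
  -- every proper quotient is a `p`-group
  have hQ : ∀ N : Subgroup G, N.Normal → N ≠ ⊥ → IsPiNum {p} N.index := by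
    intro N hN hne
    obtain ⟨L, hL, h1, h2, -⟩ := (hquo N hne).exists_normal
    by_cases htop : L.comap (QuotientGroup.mk' N) = ⊤
    · have : L = ⊤ := by
        rw [← map_comap_eq_self_of_surjective (QuotientGroup.mk'_surjective N) L, htop,
          map_top_of_surjective _ (QuotientGroup.mk'_surjective N)]
      rw [this, card_top] at h1
      exact h1
    · refine absurd (piClosed_of_normal_piClosed _ (hsub _ htop) ?_) hnc
      rwa [index_comap_of_surjective _ (QuotientGroup.mk'_surjective N)]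
  have hhom : ¬ PiHom {p} G := by
    intro hh
    obtain ⟨N, hN, hN1, hN2⟩ : ∃ N : Subgroup G, N.Normal ∧ N ≠ ⊥ ∧ N ≠ ⊤ := by
      by_contra hc
      push Not at hc
      exact hns ⟨fun N hN => or_iff_not_imp_left.2 (hc N hN)⟩
    obtain ⟨K, hK, h1, h2, -⟩ := (hsub N hN2).exists_normal
    have h3 := hOp (K.map N.subtype) inferInstance
      (by rwa [card_map_of_injective N.subtype_injective])
    rw [map_eq_bot_iff_of_injective K N.subtype_injective] at h3
    rw [h3, index_bot] at h2
    exact hnc (piClosed_of_quotient_of_compl hh N h2 (hquo N hN1))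
  obtain ⟨q, Q, x, hq, hqp, hQq, hx, hxn, hxc⟩ : ∃ (q : ℕ) (Q : Subgroup G) (x : G), q.Prime ∧
      q ∉ ({p} : Set ℕ) ∧ IsPGroup q Q ∧ IsPiNum {p} (orderOf x) ∧ x ∈ normalizer (Q : Set G) ∧
      x ∉ centralizer (Q : Set G) := by
    by_contra hc
    push Not at hc
    exact hhom (piHom_of_pGroup hc)
  have : Fact q.Prime := ⟨hq⟩
  have hQπ : IsPiNum {p}ᶜ (Nat.card Q) := H2.isPiNum_card_of_isPGroup hq hqp hQq
  have htop : zpowers x ⊔ Q = ⊤ := by
    by_contra h
    exact hxc ((hsub _ h).mem_centralizer hQπ hx hxn)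
  have hQn : Q.Normal := H1.normal_of_top_le_normalizer
    (by rw [← htop, sup_le_iff, zpowers_le]; exact ⟨hxn, le_normalizer⟩)
  have hdisj : ∀ y : G, IsPiNum {p} (orderOf y) →
      Nat.card (zpowers y ⊔ Q : Subgroup G) = orderOf y * Nat.card Q := by
    intro y hy
    rw [sup_comm, H4.card_sup_of_le_normalizer (by rw [normalizer_eq_top]; exact le_top)
      (disjoint_of_coprime_natCard (by rw [Nat.card_zpowers]; exact (hy.coprime hQπ).symm)),
      Nat.card_zpowers, mul_comm]
  have hG : Nat.card G = orderOf x * Nat.card Q := by rw [← hdisj x hx, htop, card_top]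
  have hx1 : x ≠ 1 := fun h => hxc (h ▸ one_mem _)
  obtain ⟨k, hk⟩ := (H92.isPiNum_singleton_iff hp.out (orderOf_pos x).ne').1 hx
  have hk0 : k ≠ 0 := fun h => hx1 (by rwa [h, pow_zero, orderOf_eq_one_iff] at hk)
  have hxp : IsPiNum {p} (orderOf (x ^ p)) := hx.of_dvd (orderOf_pow_dvd p)
  have hlt : orderOf (x ^ p) < orderOf x := by
    rw [orderOf_pow_of_dvd hp.out.ne_zero (hk ▸ dvd_pow_self p hk0)]
    exact Nat.div_lt_self (orderOf_pos x) hp.out.one_lt
  have hne : zpowers (x ^ p) ⊔ Q ≠ ⊤ := by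
    intro h
    have := hdisj _ hxp
    rw [h, card_top, hG] at this
    have := Nat.eq_of_mul_eq_mul_right Nat.card_pos this
    omega
  have hxpc := (hsub _ hne).mem_centralizer hQπ hxp ((normalizer _).pow_mem hxn p)
  have hxp1 : x ^ p = 1 := by
    have h1 : zpowers (x ^ p) ≤ center G := by
      rw [← centralizer_univ, ← coe_top, ← htop, le_centralizer_iff, sup_le_iff]
      refine ⟨?_, le_centralizer_iff.1 (zpowers_le.2 hxpc)⟩
      exact (le_centralizer _).trans (centralizer_le (by
        exact_mod_cast zpowers_le.2 ((zpowers x).pow_mem (mem_zpowers x) p)))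
    have h2 : (zpowers (x ^ p)).Normal := H1.normal_of_top_le_normalizer
      (le_trans (le_centralizer_iff.1 (by rwa [coe_top, centralizer_univ]))
        (centralizer_le_normalizer _))
    have h3 := hOp _ h2 (by rwa [Nat.card_zpowers])
    rwa [zpowers_eq_bot] at h3
  have hxo : orderOf x = p := orderOf_eq_prime hxp1 hx1
  have hidx : Q.index = p := by
    have := Q.index_mul_card
    rw [hG, hxo] at this
    exact Nat.eq_of_mul_eq_mul_right Nat.card_pos this
  have hmin : ∀ B : Subgroup G, B.Normal → B ≤ Q → B = ⊥ ∨ B = Q := by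
    intro B hB hBQ
    refine or_iff_not_imp_left.2 fun hB0 => le_antisymm hBQ ?_
    rw [← relIndex_eq_one]
    refine IsPiNum.eq_one ((hQ B hB hB0).of_dvd (relIndex_dvd_index_of_le hBQ)) ?_
    exact hQπ.of_dvd (relIndex_dvd_card B Q)
  have hel := isElementaryAbelian_of_minimal_normal Q hQq hmin
  have hna : ¬ IsMulCommutative G := fun h => hxc (by
    rw [mem_centralizer_iff]; exact fun y _ => mul_comm y x)
  have hcard := card_eq_of_minimal_normal_index_prime hq hqp hna Q hel hidx hmin
  exact ⟨q, hq, hqp, by rw [hG, hxo, hcard], Q, hQn, hcard, hel, hmin⟩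

end Cfsg.Agent.H94
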