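/-
Project SP4, piece H2.
-/
import Cfsg.Agent.H1.SpD

set_option autoImplicit false

namespace Cfsg.Agent.H94.SP

open Subgroup Cfsg.Agent.H83 Cfsg.Agent.H97 Cfsg.Agent.H1.SP Matrix

universe u

variable {K : Type u} [Field K]

local notation "dt" => Matrix.GeneralLinearGroup.det

/-- the claim for one matrix -/
def Good (F : FusionSystem (⊤ : Subgroup (U K))) (g : GL (Fin 3) K) : Prop :=
  ∀ P : Subgroup (U K), Z K ≤ P → (∀ x ∈ P, g * th x * g⁻¹ ∈ (th (K := K)).range) →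
    ∃ f, Mor F P f ∧ Ind P f g

variable {F : FusionSystem (⊤ : Subgroup (U K))}

theorem Good.mul {g1 g2 : GL (Fin 3) K} (h2 : Good F g2) (h1 : Good F g1)
    (h : ∀ x : U K, g2 * g1 * th x * (g2 * g1)⁻¹ ∈ (th (K := K)).range →
      g1 * th x * g1⁻¹ ∈ (th (K := K)).range) : Good F (g2 * g1) := fun P hZ hP => by
  obtain ⟨f1, m1, i1, j1⟩ := h1 P hZ fun x hx => h x (hP x hx)
  obtain ⟨f2, m2, i2, j2⟩ := h2 (img P f1)
    (fun z hz => m1.mem_img.2 ⟨⟨0, 0, 0, (dt g1 : Kˣ) * z.w⟩, hZ ⟨rfl, rfl, rfl⟩, by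
      rw [j1 _ (hZ ⟨rfl, rfl, rfl⟩) ⟨rfl, rfl, rfl⟩]
      exact U.ext hz.1.symm hz.2.1.symm hz.2.2.symm (Units.inv_mul_cancel_left _ _)⟩)
    (fun y hy => by
      obtain ⟨x, hx, rfl⟩ := m1.mem_img.1 hy
      rw [i1 x hx]
      simpa only [_root_.mul_inv_rev, mul_assoc] using hP x hx)
  refine ⟨_, m1.comp_img m2, fun x hx => ?_, fun x hx hz => ?_⟩
  · rw [i2 _ (m1.mem_img.2 ⟨x, hx, rfl⟩), i1 x hx]
    simp only [_root_.mul_inv_rev, mul_assoc]
  · change f2 (f1 x) = _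
    rw [j2 _ (m1.mem_img.2 ⟨x, hx, rfl⟩) (by rw [j1 x hx hz]; exact ⟨rfl, rfl, rfl⟩), j1 x hx hz,
      map_mul, _root_.mul_inv_rev, Units.val_mul, ← mul_assoc, mul_comm (dt g1)⁻¹.1]

theorem Good.mul_left {g b : GL (Fin 3) K} (hb : Good F b) (hg : Good F g)
    (hN : b ∈ normalizer ((th (K := K)).range : Set (GL (Fin 3) K))) : Good F (b * g) :=
  hb.mul hg fun x h => (mem_normalizer_iff.1 hN _).2
    (by simpa only [_root_.mul_inv_rev, mul_assoc] using h)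

theorem det_th (s : U K) : dt (th s) = 1 :=
  Units.ext (by rw [GeneralLinearGroup.val_det_apply, th_val]; simp [det_fin_three])

theorem good_th (s : U K) : Good F (th s) := fun P _ _ =>
  ⟨_, mor_conj F le_top (mem_top s), fun x _ => by rw [map_mul, map_mul, map_inv],
    fun x _ hz => by
      obtain ⟨a, b, c⟩ := hz
      rw [det_th]
      ext <;> simp [a, b, c]
      ring⟩

theorem Good.mul_th {g : GL (Fin 3) K} (hg : Good F g) (s : U K) : Good F (g * th s) :=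
  hg.mul (good_th s) fun x _ => ⟨s * x * s⁻¹, by rw [map_mul, map_mul, map_inv]⟩

theorem th_eq {x y : U K} : th x = th y ↔ x.t = y.t ∧ x.u = y.u ∧ x.v = y.v := by
  refine ⟨fun h => ?_, fun ⟨a, b, c⟩ => Units.ext (by rw [th_val, th_val, a, b, c])⟩
  have := congrArg Units.val h
  rw [th_val, th_val] at this
  exact ⟨congrFun (congrFun this 0) 1, congrFun (congrFun this 1) 2, congrFun (congrFun this 0) 2⟩

theorem th_of_cg {x y : U K} (h : Cg (Z K) x y) : th x = th y := by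
  rw [← inv_mul_eq_one, ← map_inv, ← map_mul, ← map_one th, th_eq]
  exact h

theorem low_of_mem {g : GL (Fin 3) K} (h : g ∈ (th (K := K)).range) :
    g.1 1 0 = 0 ∧ g.1 2 0 = 0 ∧ g.1 2 1 = 0 := by
  obtain ⟨x, rfl⟩ := h
  exact ⟨rfl, rfl, rfl⟩

theorem good_diag {Δ : Subgroup Kˣ} (T : Top F Δ) (h3 : ∀ c : Kˣ, c ^ 3 = 1) {d : GL (Fin 3) K}
    {x y z : K} (hd : d.1 = !![x, 0, 0; 0, y, 0; 0, 0, z]) (hΔ : dt d ∈ Δ) :
    Good F d ∧ d ∈ normalizer ((th (K := K)).range : Set (GL (Fin 3) K)) := by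
  have e : (dt d : K) = x * y * z := by
    rw [GeneralLinearGroup.val_det_apply, hd]; simp [det_fin_three]
  have h0 : x * y * z ≠ 0 := e ▸ (dt d).ne_zero
  have hx : x ≠ 0 := left_ne_zero_of_mul (left_ne_zero_of_mul h0)
  have hy : y ≠ 0 := right_ne_zero_of_mul (left_ne_zero_of_mul h0)
  have hz : z ≠ 0 := right_ne_zero_of_mul h0
  let a : Kˣ := Units.mk0 (x / y) (div_ne_zero hx hy)
  let b : Kˣ := Units.mk0 (y / z) (div_ne_zero hy hz)
  have e1 : a ^ 2 * b = (dt d)⁻¹ := by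
    rw [eq_inv_iff_mul_eq_one, ← h3 (Units.mk0 x hx)]
    refine Units.ext ?_
    simp only [Units.val_mul, Units.val_pow_eq_pow_val, e, a, b, Units.val_mk0]
    field_simp
  have e2 : ∀ g, d * th g * d⁻¹ = th (tor a b g) := fun g => by
    rw [mul_inv_eq_iff_eq_mul]
    refine Units.ext ?_
    rw [Units.val_mul, Units.val_mul, hd, th_val, th_val, tor_apply]
    ext i j
    fin_cases i <;> fin_cases j <;> simp [mul_apply, Fin.sum_univ_three, a, b] <;> field_simp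
  obtain ⟨β, m, h1, h2⟩ := T.ex a b (e1 ▸ inv_mem hΔ)
  refine ⟨fun P _ _ => ⟨β, m.mono le_top, fun g _ => by rw [e2, th_of_cg (h1 g)],
    fun g _ hg => ?_⟩, mem_normalizer_iff.2 fun h => ⟨?_, ?_⟩⟩
  · rw [h2 g hg, tor_apply, ← e1, hg.1, hg.2.1, hg.2.2]
    simp
  · rintro ⟨g, rfl⟩
    exact ⟨_, (e2 g).symm⟩
  · rintro ⟨g, hg⟩
    refine ⟨(tor a b).symm g, ?_⟩
    rw [← (tor a b).apply_symm_apply g, ← e2] at hg
    exact mul_left_cancel (mul_right_cancel hg)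

theorem good_up {Δ : Subgroup Kˣ} (T : Top F Δ) (h3 : ∀ c : Kˣ, c ^ 3 = 1) {b : GL (Fin 3) K}
    (h10 : b.1 1 0 = 0) (h20 : b.1 2 0 = 0) (h21 : b.1 2 1 = 0) (hΔ : dt b ∈ Δ) :
    Good F b ∧ b ∈ normalizer ((th (K := K)).range : Set (GL (Fin 3) K)) := by
  have h0 : b.1 0 0 * b.1 1 1 * b.1 2 2 ≠ 0 := by
    have := (dt b).ne_zero
    rw [GeneralLinearGroup.val_det_apply, det_fin_three, h10, h20, h21] at this
    exact fun e => this (by linear_combination e)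
  have hy : b.1 1 1 ≠ 0 := right_ne_zero_of_mul (left_ne_zero_of_mul h0)
  have hz : b.1 2 2 ≠ 0 := right_ne_zero_of_mul h0
  let s : U K := ⟨-b.1 0 1 / b.1 1 1, -b.1 1 2 / b.1 2 2,
    -(b.1 0 2 - b.1 0 1 / b.1 1 1 * b.1 1 2) / b.1 2 2, 0⟩
  obtain ⟨g1, g2⟩ := good_diag T h3 (d := th s * b) (x := b.1 0 0) (y := b.1 1 1) (z := b.1 2 2)
    (by
      rw [Units.val_mul, th_val]
      ext i j
      fin_cases i <;> fin_cases j <;> simp [mul_apply, Fin.sum_univ_three, s, h10, h20, h21] <;>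
        field_simp <;> ring)
    (by rwa [map_mul, det_th, one_mul])
  have e : b = th s⁻¹ * (th s * b) := by rw [map_inv, inv_mul_cancel_left]
  have hN : th s⁻¹ ∈ normalizer ((th (K := K)).range : Set (GL (Fin 3) K)) :=
    le_normalizer ⟨_, rfl⟩
  rw [e]
  exact ⟨(good_th _).mul_left g1 hN, mul_mem hN g2⟩

variable (K) in
/-- the first transposition -/
def s1 : GL (Fin 3) K := ⟨!![0, 1, 0; 1, 0, 0; 0, 0, 1], !![0, 1, 0; 1, 0, 0; 0, 0, 1],
  by ext i j; fin_cases i <;> fin_cases j <;> simp [mul_apply, Fin.sum_univ_three],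
  by ext i j; fin_cases i <;> fin_cases j <;> simp [mul_apply, Fin.sum_univ_three]⟩

variable (K) in
/-- the second transposition -/
def s2 : GL (Fin 3) K := ⟨!![1, 0, 0; 0, 0, 1; 0, 1, 0], !![1, 0, 0; 0, 0, 1; 0, 1, 0],
  by ext i j; fin_cases i <;> fin_cases j <;> simp [mul_apply, Fin.sum_univ_three],
  by ext i j; fin_cases i <;> fin_cases j <;> simp [mul_apply, Fin.sum_univ_three]⟩

theorem s1_val : (s1 K).1 = !![0, 1, 0; 1, 0, 0; 0, 0, 1] := rfl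
theorem s2_val : (s2 K).1 = !![1, 0, 0; 0, 0, 1; 0, 1, 0] := rfl
theorem s1_inv : (s1 K)⁻¹ = s1 K := rfl
theorem s2_inv : (s2 K)⁻¹ = s2 K := rfl

theorem cj1 (g : GL (Fin 3) K) : (s1 K * g * (s1 K)⁻¹).1 =
    !![g.1 1 1, g.1 1 0, g.1 1 2; g.1 0 1, g.1 0 0, g.1 0 2; g.1 2 1, g.1 2 0, g.1 2 2] := by
  rw [s1_inv, Units.val_mul, Units.val_mul, s1_val]
  ext i j
  fin_cases i <;> fin_cases j <;> simp [mul_apply, Fin.sum_univ_three, vecMul, dotProduct]

theorem cj2 (g : GL (Fin 3) K) : (s2 K * g * (s2 K)⁻¹).1 =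
    !![g.1 0 0, g.1 0 2, g.1 0 1; g.1 2 0, g.1 2 2, g.1 2 1; g.1 1 0, g.1 1 2, g.1 1 1] := by
  rw [s2_inv, Units.val_mul, Units.val_mul, s2_val]
  ext i j
  fin_cases i <;> fin_cases j <;> simp [mul_apply, Fin.sum_univ_three, vecMul, dotProduct]

theorem mul1 (g : GL (Fin 3) K) : (g * s1 K).1 =
    !![g.1 0 1, g.1 0 0, g.1 0 2; g.1 1 1, g.1 1 0, g.1 1 2; g.1 2 1, g.1 2 0, g.1 2 2] := by
  rw [Units.val_mul, s1_val]
  ext i j
  fin_cases i <;> fin_cases j <;> simp [mul_apply, Fin.sum_univ_three]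

theorem mul2 (g : GL (Fin 3) K) : (g * s2 K).1 =
    !![g.1 0 0, g.1 0 2, g.1 0 1; g.1 1 0, g.1 1 2, g.1 1 1; g.1 2 0, g.1 2 2, g.1 2 1] := by
  rw [Units.val_mul, s2_val]
  ext i j
  fin_cases i <;> fin_cases j <;> simp [mul_apply, Fin.sum_univ_three]

theorem cj1_th {x y : U K} (h : x.t = 0) (h1 : y.t = 0) (h2 : y.u = x.v) (h3 : y.v = x.u) :
    th y = s1 K * th x * (s1 K)⁻¹ := Units.ext (by rw [cj1, th_val, th_val, h, h1, h2, h3]; rfl)

theorem cj2_th {x y : U K} (h : x.u = 0) (h1 : y.u = 0) (h2 : y.t = x.v) (h3 : y.v = x.t) :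
    th y = s2 K * th x * (s2 K)⁻¹ := Units.ext (by rw [cj2, th_val, th_val, h, h1, h2, h3]; rfl)

theorem cj_mul (a b c : GL (Fin 3) K) : a * b * c * (a * b)⁻¹ = a * (b * c * b⁻¹) * a⁻¹ := by
  simp only [_root_.mul_inv_rev, mul_assoc]

variable [CharP K 2]

theorem det_s1 : dt (s1 K) = 1 := Units.ext (by
  rw [GeneralLinearGroup.val_det_apply, s1_val]; simp [det_fin_three, CharTwo.neg_eq])

theorem det_s2 : dt (s2 K) = 1 := Units.ext (by
  rw [GeneralLinearGroup.val_det_apply, s2_val]; simp [det_fin_three, CharTwo.neg_eq])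

theorem good_s1 (S : Std F) : Good F (s1 K) := fun P _ hP => by
  obtain ⟨α, hα, h1, h2⟩ := S.mA 0 1 1 0 (by simp [CharTwo.neg_eq])
  have hA : P ≤ A K := fun x hx => by
    have := (low_of_mem (hP x hx)).1
    rwa [cj1] at this
  refine ⟨_, (mor_of_mem_autGroup le_top hα).mono hA, fun x hx => ?_, fun x _ hz => ?_⟩
  · exact cj1_th (hA hx) (ext_mem α (hA hx)) (by simpa using (h2 x (hA hx)).1)
      (by simpa using (h2 x (hA hx)).2)
  · rw [h1 x hz, det_s1]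
    exact U.ext hz.1 hz.2.1 hz.2.2 (by simp)

theorem good_s2 (S : Std F) : Good F (s2 K) := fun P _ hP => by
  obtain ⟨α, hα, h1, h2⟩ := S.mB 0 1 1 0 (by simp [CharTwo.neg_eq])
  have hB : P ≤ Q (0 : K) := fun x hx => mem_B.2 (by
    have := (low_of_mem (hP x hx)).2.2
    rwa [cj2] at this)
  refine ⟨_, (mor_of_mem_autGroup le_top hα).mono hB, fun x hx => ?_, fun x _ hz => ?_⟩
  · exact cj2_th (mem_B.1 (hB hx)) (mem_B.1 (ext_mem α (hB hx))) (by simpa using (h2 x (hB hx)).1)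
      (by simpa using (h2 x (hB hx)).2)
  · rw [h1 x hz, det_s2]
    exact U.ext hz.1 hz.2.1 hz.2.2 (by simp)

theorem good_s21 (S : Std F) : Good F (s2 K * s1 K) := (good_s2 S).mul (good_s1 S) fun x h => by
  have := (low_of_mem h).2.1
  rw [cj_mul, cj2, cj1] at this
  exact ⟨⟨0, x.v, x.u, 0⟩, cj1_th this rfl rfl rfl⟩

theorem good_s12 (S : Std F) : Good F (s1 K * s2 K) := (good_s1 S).mul (good_s2 S) fun x h => by
  have := (low_of_mem h).2.1
  rw [cj_mul, cj1, cj2] at this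
  exact ⟨⟨x.v, 0, x.t, 0⟩, cj2_th this rfl rfl rfl⟩

theorem good_s121 (S : Std F) : Good F (s1 K * (s2 K * s1 K)) :=
  (good_s1 S).mul (good_s21 S) fun x h => by
    have := low_of_mem h
    rw [cj_mul, cj_mul, cj1, cj2, cj1] at this
    have e : th x = 1 := by
      rw [← map_one th, th_eq]
      exact ⟨this.2.2, this.1, this.2.1⟩
    rw [e, mul_one, mul_inv_cancel]
    exact one_mem _

omit [CharP K 2] in
theorem bruhat (g : GL (Fin 3) K) : ∃ s : U K, ∀ m, m = (g * th s).1 →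
    (m 1 0 = 0 ∧ m 2 0 = 0 ∧ m 2 1 = 0) ∨ (m 1 1 = 0 ∧ m 2 1 = 0 ∧ m 2 0 = 0) ∨
    (m 1 0 = 0 ∧ m 2 0 = 0 ∧ m 2 2 = 0) ∨ (m 1 1 = 0 ∧ m 2 1 = 0 ∧ m 2 2 = 0) ∨
    (m 1 2 = 0 ∧ m 2 2 = 0 ∧ m 2 0 = 0) ∨ (m 1 2 = 0 ∧ m 2 2 = 0 ∧ m 2 1 = 0) := by
  have k : ∀ (s : U K) i, (g * th s).1 i 0 = g.1 i 0 ∧ (g * th s).1 i 1 = g.1 i 0 * s.t + g.1 i 1 ∧
      (g * th s).1 i 2 = g.1 i 0 * s.v + g.1 i 1 * s.u + g.1 i 2 := fun s i => by
    rw [Units.val_mul, th_val]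
    simp [mul_apply, Fin.sum_univ_three]
  simp only [forall_eq, (k _ _).1, (k _ _).2.1, (k _ _).2.2]
  generalize g.1 1 0 = a
  generalize g.1 1 1 = b
  generalize g.1 1 2 = c
  generalize g.1 2 0 = d
  generalize g.1 2 1 = e
  generalize g.1 2 2 = f
  by_cases hd : d = 0
  · by_cases he : e = 0
    · by_cases ha : a = 0
      · exact ⟨1, .inl ⟨ha, hd, by simp [he]⟩⟩
      · exact ⟨⟨-b / a, 0, 0, 0⟩, .inr (.inl ⟨by field_simp; ring, by simp [hd, he], hd⟩)⟩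
    · by_cases ha : a = 0
      · exact ⟨⟨0, -f / e, 0, 0⟩, .inr (.inr (.inl ⟨ha, hd, by field_simp; ring⟩))⟩
      · exact ⟨⟨0, -f / e, (b * f / e - c) / a, 0⟩, .inr (.inr (.inr (.inr (.inl
          ⟨by field_simp; ring, by simp only [hd]; field_simp; ring, hd⟩))))⟩
  · by_cases hm : b * d - a * e = 0
    · exact ⟨⟨-e / d, 0, -f / d, 0⟩, .inr (.inr (.inr (.inl
        ⟨by field_simp; linear_combination hm, by field_simp; ring, by field_simp; ring⟩)))⟩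
    · exact ⟨⟨-e / d, (a * f - c * d) / (b * d - a * e), (c * e - b * f) / (b * d - a * e), 0⟩,
        .inr (.inr (.inr (.inr (.inr
        ⟨by field_simp; ring, by
          have := mul_inv_cancel₀ hm
          simp only [div_eq_mul_inv]
          linear_combination (-f) * this, by field_simp; ring⟩))))⟩

theorem h2 : H2Stmt.{u} := by
  intro K _ _ _ F Δ S h3 T P g hΔ
  obtain ⟨s, hs⟩ := bruhat g
  have key : ∀ n : GL (Fin 3) K, Good F n → dt n = 1 → (g * th s * n⁻¹).1 1 0 = 0 →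
      (g * th s * n⁻¹).1 2 0 = 0 → (g * th s * n⁻¹).1 2 1 = 0 → Good F g := fun n hn dn a b c => by
    obtain ⟨g1, g2⟩ := good_up T h3 a b c
      (by rwa [map_mul, map_mul, map_inv, dn, det_th, inv_one, mul_one, mul_one])
    have := (g1.mul_left hn g2).mul_th s⁻¹
    rwa [inv_mul_cancel_right, map_inv, mul_inv_cancel_right] at this
  refine (?_ : Good F g) P
  rcases hs _ rfl with ⟨a, b, c⟩ | ⟨a, b, c⟩ | ⟨a, b, c⟩ | ⟨a, b, c⟩ | ⟨a, b, c⟩ | ⟨a, b, c⟩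
  · refine key 1 (map_one (th (K := K)) ▸ good_th 1) (map_one _) ?_ ?_ ?_ <;>
      rwa [inv_one, mul_one]
  · refine key _ (good_s1 S) det_s1 ?_ ?_ ?_ <;> rwa [s1_inv, mul1]
  · refine key _ (good_s2 S) det_s2 ?_ ?_ ?_ <;> rwa [s2_inv, mul2]
  · refine key _ (good_s21 S) (by rw [map_mul, det_s1, det_s2, mul_one]) ?_ ?_ ?_ <;>
      rwa [_root_.mul_inv_rev, s1_inv, s2_inv, ← mul_assoc, mul2, mul1]
  · refine key _ (good_s12 S) (by rw [map_mul, det_s1, det_s2, mul_one]) ?_ ?_ ?_ <;>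
      rwa [_root_.mul_inv_rev, s1_inv, s2_inv, ← mul_assoc, mul1, mul2]
  · refine key _ (good_s121 S) (by rw [map_mul, map_mul, det_s1, det_s2, mul_one, mul_one])
      ?_ ?_ ?_ <;>
      rwa [_root_.mul_inv_rev, _root_.mul_inv_rev, s1_inv, s2_inv, ← mul_assoc, ← mul_assoc, mul1,
        mul2, mul1]

end Cfsg.Agent.H94.SP
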