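import Cfsg.Agent.H56.SpDefs

/-! Project CY, chapter SP: double transitivity on a subspace by parity of orbits. -/

set_option autoImplicit false

namespace Cfsg.Agent.H94.SpL2t

open Subgroup MulAction Cfsg.Agent.H11.Cy Cfsg.Agent.H56.Sp
open Cfsg.Agent.H45.Iv (Fx Sub Ms)

theorem even_of {α : Type} [Finite α] (O : Set α) (f : α → α) (hm : ∀ x ∈ O, f x ∈ O)
    (hi : ∀ x ∈ O, f (f x) = x) (hn : ∀ x ∈ O, f x ≠ x) : Even O.ncard := by
  classical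
  have hf := O.toFinite
  have h := Finset.sum_involution (s := hf.toFinset) (f := fun _ => (1 : ZMod 2)) (fun a _ => f a)
    (fun _ _ => by decide) (fun a ha _ => hn a (by simpa using ha))
    (fun a ha => by simpa using hm a (by simpa using ha)) (fun a ha => hi a (by simpa using ha))
  rw [Finset.sum_const, nsmul_eq_mul, mul_one, ← Set.ncard_eq_toFinset_card O hf] at h
  exact (ZMod.natCast_eq_zero_iff_even).mp h

variable {G : Type} [Group G] {Ω : Type} [MulAction G Ω] {p : ℕ} {A : Ω → Subgroup G}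

theorem step [Finite Ω] (h : St p A) (p2 : p ≠ 2) (lf : LFs p A) {Φ : Set Ω} {X : Subgroup G}
    (hX : ∀ g ∈ X, ∀ w ∈ Φ, g • w ∈ Φ) (hA : ∀ w ∈ Φ, A w ≤ X)
    (hs : ∀ a ∈ Φ, ∀ y ∈ Φ, a ≠ y → ∃ s ∈ X, (∀ w ∈ Φ, s • s • w = w) ∧
      ∀ w ∈ Φ, (s • w = w ↔ w ∈ Ln A a y))
    {a y y1 : Ω} (ha : a ∈ Φ) (hy : y ∈ Φ) (hy1 : y1 ∈ Φ) (n : a ≠ y) (n1 : a ≠ y1) :
    ∃ g ∈ X, g • a = a ∧ g • y = y1 := by
  by_contra hc
  set O : Set Ω := {w | ∃ g ∈ X, g • a = a ∧ g • y = w} with hO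
  have OΦ : ∀ w ∈ O, w ∈ Φ := by
    rintro w ⟨g, hg, -, rfl⟩
    exact hX g hg y hy
  have Oa : ∀ w ∈ O, w ≠ a := by
    rintro w ⟨g, hg, e, rfl⟩ e'
    exact n (MulAction.injective g (e.trans e'.symm))
  have Oc : ∀ s ∈ X, s • a = a → ∀ w ∈ O, s • w ∈ O := by
    rintro s hs e w ⟨g, hg, e', rfl⟩
    exact ⟨s * g, X.mul_mem hs hg, by rw [mul_smul, e', e], mul_smul _ _ _⟩
  have Ol : ∀ b ∈ Φ, a ≠ b → ∀ w ∈ O, w ∈ Ln A a b → ∀ w' ∈ Ln A a b, w' ≠ a → w' ∈ O := by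
    intro b hb nb w hw wl w' wl' n'
    obtain ⟨g, hg, e1, e2⟩ := (lf a b nb).tr a (lf a b nb).mem.1 w wl a (lf a b nb).mem.1 w' wl'
      (Oa w hw).symm n'.symm
    rw [← e2]
    exact Oc g (sup_le (hA a ha) (hA b hb) hg) e1 w hw
  obtain ⟨s, sX, s2, sf⟩ := hs a ha y hy n
  obtain ⟨t, tX, t2, tf⟩ := hs a ha y1 hy1 n1
  have e1 : Even O.ncard := even_of O (t • ·) (Oc t tX ((tf a ha).2 (lf a y1 n1).mem.1))
    (fun w hw => t2 w (OΦ w hw))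
    (fun w hw e => hc (Ol y1 hy1 n1 w hw ((tf w (OΦ w hw)).1 e) y1 (lf a y1 n1).mem.2 n1.symm))
  have sa := (sf a ha).2 (lf a y n).mem.1
  have e2 : Even (O \ Ln A a y).ncard := by
    refine even_of _ (s • ·) (fun w hw => ⟨Oc s sX sa w hw.1, fun hl => hw.2 ?_⟩)
      (fun w hw => s2 w (OΦ w hw.1)) (fun w hw e => hw.2 ((sf w (OΦ w hw.1)).1 e))
    have wΦ := OΦ w hw.1
    have := (sf (s • w) (hX s sX w wΦ)).2 hl
    exact (sf w wΦ).1 (MulAction.injective s this)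
  have yO : y ∈ O := ⟨1, X.one_mem, one_smul _ _, one_smul _ _⟩
  have e3 : O ∩ Ln A a y = Ln A a y \ {a} := by
    ext w
    exact ⟨fun hw => ⟨hw.2, Oa w hw.1⟩,
      fun hw => ⟨Ol y hy n y yO (lf a y n).mem.2 w hw.1 hw.2, hw.1⟩⟩
  have e4 := Set.ncard_inter_add_ncard_diff_eq_ncard O (Ln A a y)
  rw [e3, Set.ncard_diff_singleton_of_mem (lf a y n).mem.1, (lf a y n).ln] at e4
  obtain ⟨k, hk⟩ := h.pp.odd_of_ne_two p2
  obtain ⟨u, hu⟩ := e1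
  obtain ⟨v, hv⟩ := e2
  omega

/-- double transitivity from involutions fixing exactly a line -/
theorem tr2_of [Finite Ω] (h : St p A) (p2 : p ≠ 2) (lf : LFs p A) {Φ : Set Ω} {X : Subgroup G}
    (hX : ∀ g ∈ X, ∀ w ∈ Φ, g • w ∈ Φ) (hA : ∀ w ∈ Φ, A w ≤ X)
    (hs : ∀ a ∈ Φ, ∀ y ∈ Φ, a ≠ y → ∃ s ∈ X, (∀ w ∈ Φ, s • s • w = w) ∧
      ∀ w ∈ Φ, (s • w = w ↔ w ∈ Ln A a y)) : Tr2 X Φ := by
  intro x hx y hy x' hx' y' hy' n n'
  by_cases e : x = x'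
  · subst e
    exact step h p2 lf hX hA hs hx hy hy' n n'
  · obtain ⟨g, hg, e1, -⟩ := (lf x x' e).tr x (lf x x' e).mem.1 x' (lf x x' e).mem.2 x'
      (lf x x' e).mem.2 x (lf x x' e).mem.1 e (Ne.symm e)
    have gX : g ∈ X := sup_le (hA x hx) (hA x' hx') hg
    obtain ⟨k, hk, k1, k2⟩ := step h p2 lf hX hA hs hx' (hX g gX y hy) hy'
      (fun q => n (MulAction.injective g (e1.trans q))) n'
    exact ⟨k * g, X.mul_mem hk gX, by rw [mul_smul, e1, k1], by rw [mul_smul, k2]⟩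

theorem a_pres (h : St p A) (ep : Eps A) (lf : LFs p A) {Φ : Set Ω} (sb : Sub A Φ) {w : Ω}
    (hw : w ∈ Φ) {g : G} (hg : g ∈ A w) {v : Ω} (hv : v ∈ Φ) : g • v ∈ Φ := by
  by_cases e : w = v
  · subst e
    rw [h.fix w g hg]
    exact hw
  · exact sb w hw v hv e (((ep.nrm w v e g).1 (le_normalizer (mem_sup_left hg))) v (lf w v e).mem.2)

theorem l2t : L2tStmt := by
  intro G _ _ Ω _ _ p A h hy Φ sb
  have hA : ∀ w ∈ Φ, A w ≤ Ms A Φ := fun w hw => le_iSup₂_of_le (f := fun w (_ : w ∈ Φ) => A w) w hw le_rfl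
  refine tr2_of h hy.mc.p2 hy.lf ?_ hA ?_
  · intro g hg
    refine Subgroup.iSup_induction (fun w => ⨆ _ : w ∈ Φ, A w) (C := fun g => ∀ w ∈ Φ, g • w ∈ Φ) hg
      ?_ ?_ ?_
    · intro w g hg v hv
      by_cases hw : w ∈ Φ
      · rw [iSup_pos hw] at hg
        exact a_pres h hy.mc.ep hy.lf sb hw hg hv
      · rw [iSup_neg hw, mem_bot] at hg
        rw [hg, one_smul]
        exact hv
    · intro v hv
      rw [one_smul]
      exact hv
    · intro a b ha hb v hv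
      rw [mul_smul]
      exact ha _ (hb v hv)
  · intro a ha y hyy n
    obtain ⟨z, hz⟩ := (hy.lf a y n).ex
    refine ⟨z, sup_le (hA a ha) (hA y hyy) hz.1, fun w _ => by rw [← mul_smul, hz.2.2, one_smul],
      fun w _ => ?_⟩
    rw [← hy.fz a y n z hz]
    rfl

end Cfsg.Agent.H94.SpL2t
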